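/-
The centraliser of a non-central involution as the centraliser of a transposition of Fi23: one of the two classes
over the transpositions is read off among the pairs of twenty-four points.
-/
import Cfsg.Agent.Lib.Fus.U62Four.Main
import Cfsg.Agent.Lib.Block.FischerTypes.M23Up.Final
import Cfsg.Agent.S0280

set_option autoImplicit false
set_option linter.style.haveILetI false
set_option linter.unusedSectionVars false
set_option linter.unusedSimpArgs false
set_option maxRecDepth 100000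

open Cfsg Cfsg.Agent.Spor.LargeFischer Cfsg.Agent.Spor.ThreeTrans Cfsg.Agent.Block.FischerTypes
open Cfsg.Agent.Block.M23Up (base_fi23 tz_mem sylIn cliq big)
open Cfsg.Agent.Fus.LargeFischerPoints Cfsg.Agent.Fus.U62Four
open Cfsg.Agent.Fus.M23U.TypeOf (classD)
open scoped commutatorElement Pointwise

namespace Cfsg.Agent.Fus.Fi24Rec

/-- The transposition of Fi23 below which we work. -/
noncomputable abbrev tz : Spor.Fi23 := Cfsg.Agent.Spor.Cos.Fi23.tz

/-- The centraliser of a transposition of Fi23. -/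
noncomputable abbrev PG0 : Subgroup Spor.Fi23 := PerpGroup classD tz

variable {G : Type*} [Group G]

/-- A normal double cover of Fi22 of index two in the centraliser. -/
structure Kdata (t : G) (K : Subgroup G) : Prop where
  le : K ≤ Subgroup.centralizer ({t} : Set G)
  idx : (K.subgroupOf (Subgroup.centralizer ({t} : Set G))).index = 2
  qs : IsQuasisimple ↥K
  quot : ∃ _ : ((Subgroup.zpowers t).subgroupOf K).Normal,
    Nonempty (↥K ⧸ (Subgroup.zpowers t).subgroupOf K ≃* Spor.Fi22)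

/-- The centraliser with one class over the transpositions. -/
structure Base (t : G) (K : Subgroup G) where
  emb : ↥PG0 →* G
  inj : Function.Injective emb
  range : emb.range = K
  map_tz : ∀ y : ↥PG0, (y : Spor.Fi23) = tz → emb y = t
  sq : t * t = 1
  ne : t ≠ 1
  le : K ≤ Subgroup.centralizer ({t} : Set G)
  idx : (K.subgroupOf (Subgroup.centralizer ({t} : Set G))).index = 2
  isConj : ∀ y : ↥PG0, (y : Spor.Fi23) ∈ perp classD tz → IsConj t (emb y)
  swap : ∃ n : G, n * t * n⁻¹ = t ∧ ∀ x, (∃ y : ↥PG0, (y : Spor.Fi23) ∈ perp classD tz ∧ emb y = x) →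
    ∃ y : ↥PG0, (y : Spor.Fi23) ∈ perp classD tz ∧ n * x * n⁻¹ = t * emb y
  rev : ∀ a : ↥PG0, (a : Spor.Fi23) ∈ perp classD tz → ∀ b : ↥PG0, (b : Spor.Fi23) ∈ perp classD tz →
    a ≠ b → Commute a b →
    ∃ g : G, g * t * g⁻¹ = emb a ∧ g * emb a * g⁻¹ = t ∧ g * emb b * g⁻¹ = emb b
  triple : ∀ a : ↥PG0, (a : Spor.Fi23) ∈ perp classD tz → ∀ b : ↥PG0, (b : Spor.Fi23) ∈ perp classD tz →
    a ≠ b → Commute a b → ¬ IsConj t (t * emb a * emb b)
  card_triple : ∀ a : ↥PG0, (a : Spor.Fi23) ∈ perp classD tz → ∀ b : ↥PG0, (b : Spor.Fi23) ∈ perp classD tz →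
    a ≠ b → Commute a b → Nat.card ↥(Subgroup.centralizer ({t * emb a * emb b} : Set G)) = 160526499840

theorem pg0_self : tz ∈ PG0 := M23.self base_fi23 tz_mem

theorem perp_mem {x : Spor.Fi23} (hx : x ∈ perp classD tz) : x ∈ PG0 := Subgroup.subset_closure hx

theorem commute_tz (y : ↥PG0) : Commute (y : Spor.Fi23) tz := by
  have : (y : Spor.Fi23) ∈ Subgroup.centralizer ({tz} : Set Spor.Fi23) := by
    rw [M23.centralizer_eq base_fi23 tz_mem]; exact y.2
  exact Subgroup.mem_centralizer_singleton_iff.1 this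

theorem perp_ne_tz_mul {a b : Spor.Fi23} (ha : a ∈ perp classD tz) (hb : b ∈ perp classD tz) : a ≠ tz * b := by
  intro e
  have h := (base_fi23).set.cls
  by_cases hab : a = b
  · subst hab
    have := right_eq_mul.1 e
    have h2 := h.1.1 tz tz_mem
    rw [this, orderOf_one] at h2
    omega
  have hcb : Commute tz b := hb.2.2
  have hca : Commute tz a := ha.2.2
  have hcab : Commute a b := by rw [e]; exact hcb.mul_left (Commute.refl b)
  refine Block.M23Up.no_rel base_fi23 tz_mem (l := [tz, b, a]) ?_ (by simp) (by simp) ?_ ?_ ?_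
  · simp [Ne.symm hb.2.1, Ne.symm ha.2.1, Ne.symm hab]
  · simp only [List.mem_cons, List.not_mem_nil, or_false]
    rintro x (rfl | rfl | rfl)
    exacts [tz_mem, hb.1, ha.1]
  · simp only [List.mem_cons, List.not_mem_nil, or_false]
    rintro x (rfl | rfl | rfl) y (rfl | rfl | rfl)
    exacts [Commute.refl _, hcb, hca, hcb.symm, Commute.refl _, hcab.symm, hca.symm, hcab, Commute.refl _]
  · simp only [List.prod_cons, List.prod_nil, mul_one, ← mul_assoc]
    rw [← e]
    exact mul_self h.1 ha.1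

theorem perp_centralizer {y : ↥PG0} (hy : (y : Spor.Fi23) ∈ perp classD tz) :
    11 ∣ Nat.card ↥(Subgroup.centralizer ({y} : Set ↥PG0)) := by
  have B := base_fi23
  have h := M22.card_orbit (G := ↥PG0) y
  have himg : (fun x : ↥PG0 => (x : Spor.Fi23)) '' MulAction.orbit (ConjAct ↥PG0) y = perp classD tz := by
    ext x
    constructor
    · rintro ⟨_, ⟨g, rfl⟩, rfl⟩
      show ((g • y : ↥PG0) : Spor.Fi23) ∈ _
      rw [ConjAct.smul_def, Subgroup.coe_mul, Subgroup.coe_mul, Subgroup.coe_inv]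
      exact perp_conj' B.set.cls (commute_tz (ConjAct.ofConjAct g)) hy
    · intro hx
      obtain ⟨g, hg, e⟩ := transitive_perp B.set.hyp tz_mem hy hx
      exact ⟨_, ⟨ConjAct.toConjAct (⟨g, hg⟩ : ↥PG0), rfl⟩, by
        show (((ConjAct.toConjAct (⟨g, hg⟩ : ↥PG0)) • y : ↥PG0) : Spor.Fi23) = x
        rw [ConjAct.smul_def]; simpa using e⟩
  have hc : (MulAction.orbit (ConjAct ↥PG0) y).ncard = 3510 := by
    rw [← Set.ncard_image_of_injective _ (Subtype.val_injective (p := fun x => x ∈ PG0)), himg,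
      M23.card_perp B tz_mem (M23.counts B _ tz_mem)]
  rw [hc, M23.card_perpGroup B tz_mem] at h
  exact ⟨3344302080, by omega⟩

theorem card_psu_six : Nat.card (PSU 6 Cfsg.Agent.Spor.USixTwo.K4 2) = 9196830720 := by
  have h := Cfsg.Agent.S0280.result (F := Cfsg.Agent.Spor.USixTwo.K4) (q := 2)
    (U62Four.hK4.trans (by norm_num)) 6 (by norm_num)
  norm_num [Finset.prod_range_succ, Nat.even_iff] at h
  omega

variable [Finite G] {z : G} {Q : Subgroup (Subgroup.centralizer ({z} : Set G))} [hQn : Q.Normal]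
  {m : Model z Q}

theorem centralizer_z_card (hF : IsOfLargeFischerTypeAt z Q) :
    Nat.card ↥(Subgroup.centralizer ({z} : Set G)) = 160526499840 := by
  obtain ⟨m⟩ := exists_model hF
  obtain ⟨-, N, M, hNn, hMn, -, hNM, hN, ⟨K, iF, iT, hK, ⟨e⟩⟩, hM⟩ := hF
  have hQ : Nat.card Q = 2 ^ 13 := by
    rw [← m.card_QG]
    exact (Subgroup.card_map_of_injective (Subgroup.subtype_injective _)).symm
  have hP : Nat.card (PSU 4 K 3) = 3265920 := by
    have h := Cfsg.Agent.S0280.result (F := K) (q := 3) (hK.trans (by norm_num)) 4 (by norm_num)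
    norm_num [Finset.prod_range_succ, Nat.even_iff] at h
    omega
  have hMc : Nat.card M = 3265920 * (3 * 2 ^ 13) := by
    rw [Subgroup.card_eq_card_quotient_mul_card_subgroup (N.subgroupOf M), Nat.card_congr e.toEquiv, hP,
      Nat.card_congr (Subgroup.subgroupOfEquivOfLe hNM).toEquiv, hN, hQ]
  rw [← M.card_mul_index, hM, hMc]
  norm_num

theorem centralizer_z_not_eleven (hF : IsOfLargeFischerTypeAt z Q) :
    ¬ 11 ∣ Nat.card ↥(Subgroup.centralizer ({z} : Set G)) := by
  rw [centralizer_z_card hF]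
  norm_num

variable (C : Ctx m) {K : Subgroup G}

theorem centralizer_card_conj {x y : G} (hc : IsConj x y) :
    Nat.card ↥(Subgroup.centralizer ({y} : Set G)) = Nat.card ↥(Subgroup.centralizer ({x} : Set G)) := by
  obtain ⟨g, rfl⟩ := _root_.isConj_iff.1 hc
  refine (Nat.card_congr ((MulAut.conj g).toEquiv.subtypeEquiv fun y => ?_)).symm
  rw [Subgroup.mem_centralizer_singleton_iff, Subgroup.mem_centralizer_singleton_iff]
  show y * x = x * y ↔ g * y * g⁻¹ * (g * x * g⁻¹) = g * x * g⁻¹ * (g * y * g⁻¹)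
  constructor
  · intro e
    calc g * y * g⁻¹ * (g * x * g⁻¹) = g * (y * x) * g⁻¹ := by group
      _ = _ := by rw [e]; group
  · intro e
    calc y * x = g⁻¹ * (g * y * g⁻¹ * (g * x * g⁻¹)) * g := by group
      _ = _ := by rw [e]; group

theorem eleven_not_conj (hF : IsOfLargeFischerTypeAt z Q) {x : G}
    (h : 11 ∣ Nat.card ↥(Subgroup.centralizer ({x} : Set G))) : ¬ IsConj z x := fun hc =>
  centralizer_z_not_eleven hF (h.trans (dvd_of_eq (centralizer_card_conj hc)))

/-- Two pairs and the four-set are told apart. -/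
theorem four_conj {p q r s : GolayPt} (h : [p, q, r, s].Nodup) : IsConj z (C.val {p, q, r, s}) := by
  classical
  obtain ⟨σ, hσ, hmap⟩ := exists_map (n := 4) (by norm_num) (x := ![C.a, C.b, C.c, C.w]) (y := ![p, q, r, s])
    (inj_of_nodup (by simpa [List.ofFn_succ] using C.nodup)) (inj_of_nodup (by simpa [List.ofFn_succ] using h))
  obtain ⟨n, -, hact⟩ := C.pic.lift σ hσ
  have hn := C.nodup
  simp only [List.nodup_cons, List.mem_cons, List.not_mem_nil, or_false, not_or, List.nodup_nil, and_true,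
    not_false_eq_true] at hn
  refine _root_.isConj_iff.2 ⟨n, ?_⟩
  refine (congrArg (fun x => n * x * n⁻¹) C.hz).trans ?_
  rw [hact _ (by simp [hn.1.1, hn.1.2.1, hn.1.2.2, hn.2.1.1, hn.2.1.2, hn.2.2]; decide)]
  simp [Finset.smul_finset_insert, Finset.smul_finset_singleton, Equiv.Perm.smul_def,
    show σ C.a = p from hmap 0, show σ C.b = q from hmap 1, show σ C.c = r from hmap 2,
    show σ C.w = s from hmap 3]

theorem pair_move {n : G} {σ : Equiv.Perm GolayPt}
    (hact : ∀ s : Finset GolayPt, Even s.card → n * C.val s * n⁻¹ = C.val (σ • s)) {x y x' y' : GolayPt}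
    (h : x ≠ y) (ex : σ x = x') (ey : σ y = y') : n * C.val {x, y} * n⁻¹ = C.val {x', y'} := by
  rw [hact _ (by rw [Finset.card_pair h]; exact even_two), Finset.smul_finset_insert, Finset.smul_finset_singleton,
    Equiv.Perm.smul_def, Equiv.Perm.smul_def, ex, ey]

variable (hF : IsOfLargeFischerTypeAt z Q)
include hF

theorem index_two_mem {t : G} (hle : K ≤ Subgroup.centralizer ({t} : Set G))
    (hidx : (K.subgroupOf (Subgroup.centralizer ({t} : Set G))).index = 2) :
    ⁅Subgroup.centralizer ({t} : Set G), Subgroup.centralizer ({t} : Set G)⁆ ≤ K := by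
  rw [Subgroup.commutator_le]
  intro a ha b hb
  have key : (⟨a, ha⟩ * ⟨b, hb⟩ * (⟨a, ha⟩)⁻¹ * (⟨b, hb⟩)⁻¹ : ↥(Subgroup.centralizer ({t} : Set G))) ∈
      K.subgroupOf (Subgroup.centralizer ({t} : Set G)) := by
    simp only [Subgroup.mul_mem_iff_of_index_two hidx, inv_mem_iff]
    tauto
  exact key

/-- The group on the points lies in the normal subgroup. -/
theorem A_le (hle : K ≤ Subgroup.centralizer ({gv C.e1} : Set G))
    (hidx : (K.subgroupOf (Subgroup.centralizer ({gv C.e1} : Set G))).index = 2) : C.A ≤ K := by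
  obtain ⟨hq, -⟩ := U62Four.good C hF
  intro x hx
  have hxX : x ∈ Subgroup.centralizer (EG C : Set G) := by rw [centralizer_EG]; exact A_le_CE C hx
  have hperf : ⁅Subgroup.centralizer (EG C : Set G), Subgroup.centralizer (EG C : Set G)⁆ =
      Subgroup.centralizer (EG C : Set G) := by
    have h2 := congrArg (Subgroup.map (Subgroup.centralizer (EG C : Set G)).subtype) hq.1.commutator_eq_top
    rwa [commutator_def, Subgroup.map_commutator, ← MonoidHom.range_eq_map, Subgroup.range_subtype] at h2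
  have hsub : Subgroup.centralizer (EG C : Set G) ≤ Subgroup.centralizer ({gv C.e1} : Set G) :=
    Subgroup.centralizer_le (Set.singleton_subset_iff.2 ((mem_EG C).2 (Or.inr (Or.inl rfl))))
  rw [← hperf] at hxX
  exact index_two_mem hF hle hidx (Subgroup.commutator_mono hsub hsub hxX)

/-- The identification with the centraliser in Fi23. -/
theorem exists_emb {t : G} (ht : orderOf t = 2) (htK : t ∈ K) (Kd : Kdata t K) :
    ∃ emb : ↥PG0 →* G, Function.Injective emb ∧ emb.range = K ∧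
      ∀ y : ↥PG0, (y : Spor.Fi23) = tz → emb y = t := by
  obtain ⟨hn, ⟨eq⟩⟩ := Kd.quot
  let t' : ↥K := ⟨t, htK⟩
  have htop : Subgroup.centralizer ({t'} : Set ↥K) = ⊤ := eq_top_iff.2 fun y _ =>
    Subgroup.mem_centralizer_singleton_iff.2 (Subtype.ext (Subgroup.mem_centralizer_singleton_iff.1 (Kd.le y.2)))
  let ε : ↥(Subgroup.centralizer ({t'} : Set ↥K)) ≃* ↥K :=
    (MulEquiv.subgroupCongr htop).trans Subgroup.topEquiv
  have himg : ((Subgroup.zpowers t').subgroupOf (Subgroup.centralizer ({t'} : Set ↥K))).map ε.toMonoidHom =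
      (Subgroup.zpowers t).subgroupOf K := by
    ext y
    constructor
    · rintro ⟨x, ⟨n, hx⟩, rfl⟩
      exact ⟨n, (congrArg Subtype.val hx : _)⟩
    · rintro ⟨n, hn'⟩
      exact ⟨⟨y, htop ▸ Subgroup.mem_top y⟩, ⟨n, Subtype.ext hn'⟩, rfl⟩
  haveI : ((Subgroup.zpowers t').subgroupOf (Subgroup.centralizer ({t'} : Set ↥K))).Normal := by
    refine ⟨fun a ha g => ?_⟩
    have h' := hn.conj_mem (ε a) (himg ▸ Subgroup.mem_map_of_mem _ ha) (ε g)
    rw [← himg] at h'
    obtain ⟨b, hb, eb⟩ := h'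
    rw [show g * a * g⁻¹ = b from ε.injective (by rw [map_mul, map_mul, map_inv]; exact eb.symm)]
    exact hb
  haveI : Finite Spor.Fi22 := Cfsg.Agent.Spor.Cos.Fi22.finite
  obtain ⟨φ, hφ⟩ := Block.M23Up.exists_iso_perp (d := t') ((Subgroup.orderOf_coe t').symm.trans ht)
    ((Grp.isQuasisimple_congr ε).2 Kd.qs) ⟨(QuotientGroup.congr _ _ ε himg).trans eq⟩
  let ψ : ↥K ≃* ↥PG0 := ε.symm.trans φ
  refine ⟨K.subtype.comp ψ.symm.toMonoidHom, Subtype.val_injective.comp ψ.symm.injective, ?_, fun y hy => ?_⟩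
  · ext x
    constructor
    · rintro ⟨y, rfl⟩; exact (ψ.symm y).2
    · intro hx
      exact ⟨ψ ⟨x, hx⟩, congrArg Subtype.val (ψ.symm_apply_apply _)⟩
  · have e : ψ t' = y := by
      refine Subtype.ext ?_
      rw [hy]
      exact hφ (Subgroup.mem_centralizer_singleton_iff.2 rfl)
    show ((ψ.symm y : ↥K) : G) = t
    rw [← e, ψ.symm_apply_apply]

/-- One class over the transpositions consists of the pairs through one of the two points. -/
theorem exists_points {emb : ↥PG0 →* G} (hinj : Function.Injective emb) (hrange : emb.range = K)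
    (htz : ∀ y : ↥PG0, (y : Spor.Fi23) = tz → emb y = gv C.e1) (hA : C.A ≤ K) :
    ∃ (T : Sylow 2 ↥PG0) (p q : GolayPt), p ≠ q ∧ gv C.e1 = C.val {p, q} ∧
      (∀ y : ↥PG0, (y : Spor.Fi23) ∈ cliq T → (y : Spor.Fi23) ≠ tz →
        ∃ r, r ≠ p ∧ r ≠ q ∧ emb y = C.val {p, r}) ∧
      ∀ r, r ≠ p → r ≠ q → ∃ y : ↥PG0, (y : Spor.Fi23) ∈ perp classD tz ∧ emb y = C.val {p, r} := by
  classical
  haveI : Fact (Nat.Prime 2) := ⟨Nat.prime_two⟩
  have B := base_fi23
  have hd := tz_mem
  set A' : Subgroup ↥PG0 := C.A.comap emb with hA'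
  have hmapA : A'.map emb = C.A := by
    rw [hA', Subgroup.map_comap_eq, hrange, inf_eq_right.2 hA]
  have hel' : Block.M23Up.Elem A' := ⟨fun x hx y hy => hinj (by
      rw [map_mul, map_mul]; exact C.pic.comm _ hx _ hy),
    fun x hx => hinj (by rw [map_mul, map_one]; exact C.pic.pts.sq _ hx)⟩
  have hcA : Nat.card C.A = 2 ^ 11 := by
    obtain ⟨h, e⟩ := C.conjA
    rw [e, Subgroup.card_map_of_injective (MulAut.conj h).injective, LargeFischerLocal.card_AK]
  have hc' : Nat.card A' = 2 ^ 11 := by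
    rw [← Subgroup.card_map_of_injective (K := A') hinj, hmapA, hcA]
  obtain ⟨T, hT⟩ := hel'.isPGroup.exists_le_sylow
  have hbig : A'.map PG0.subtype = big T := by
    refine Block.M23Up.uniq_perp B hd (sylIn T) (Block.M23Up.sylIn_le T) (Block.M23Up.sylIn_two T) _ _
      (Subgroup.map_mono hT) (Block.M23Up.big_le T) (hel'.map _) (Block.M23Up.big_elem B hd T) ?_ ?_
    · rw [Subgroup.card_map_of_injective (Subgroup.subtype_injective _), hc']
    · rw [(Block.M23Up.cliq_facts B hd T).2]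
  have inA : ∀ y : ↥PG0, (y : Spor.Fi23) ∈ cliq T → emb y ∈ C.A := by
    intro y hy
    obtain ⟨x, hx, e⟩ := hbig.ge (Subgroup.subset_closure hy : (y : Spor.Fi23) ∈ big T)
    rw [← Subtype.ext e]
    exact hx
  have hperp : ∀ y : ↥PG0, (y : Spor.Fi23) ∈ cliq T → (y : Spor.Fi23) ≠ tz → (y : Spor.Fi23) ∈ perp classD tz :=
    fun y hy k => ⟨hy.1, k, Block.M23Up.cliq_commute B hd T (Block.M23Up.self_mem_cliq B hd T) hy⟩
  set z0 : ↥PG0 := ⟨tz, pg0_self⟩
  have hz0 : emb z0 = gv C.e1 := htz z0 rfl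
  set a := C.a with ha
  set b := C.b with hb
  obtain ⟨⟨hab, -, -⟩, -⟩ := pts_facts C
  have he : gv C.e1 = C.val {a, b} := C.he1
  -- each member gives a pair meeting the pair of the centre in a point
  have hpair : ∀ y : ↥PG0, (y : Spor.Fi23) ∈ cliq T → (y : Spor.Fi23) ≠ tz →
      ∃ r, r ≠ a ∧ r ≠ b ∧ (emb y = C.val {a, r} ∨ emb y = C.val {b, r}) := by
    intro y hy hne
    have hy1 : emb y ≠ 1 := fun e => by
      have e' : y = 1 := hinj (e.trans emb.map_one.symm)
      have h2 := B.set.cls.1.1 _ hy.1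
      rw [show (y : Spor.Fi23) = 1 from congrArg Subtype.val e', orderOf_one] at h2
      omega
    have h11 := perp_centralizer (hperp y hy hne)
    have nc : Nc z (emb y) := by
      refine ⟨hy1, eleven_not_conj hF (h11.trans ?_)⟩
      rw [← Subgroup.card_map_of_injective (K := Subgroup.centralizer ({y} : Set ↥PG0)) hinj]
      refine Subgroup.card_dvd_of_le ?_
      rintro _ ⟨x, hx, rfl⟩
      rw [Subgroup.mem_centralizer_singleton_iff, ← map_mul, ← map_mul, Subgroup.mem_centralizer_singleton_iff.1 hx]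
    have nc2 : Nc z (emb (z0 * y)) := by
      refine ⟨fun e => hne ?_, eleven_not_conj hF (h11.trans ?_)⟩
      · have e' : z0 * y = 1 := hinj (e.trans emb.map_one.symm)
        rw [eq_inv_of_mul_eq_one_right e', Subgroup.coe_inv]
        exact inv_eq_of_mul_eq_one_right (mul_self B.set.cls.1 hd)
      rw [← Subgroup.card_map_of_injective (K := Subgroup.centralizer ({y} : Set ↥PG0)) hinj]
      refine Subgroup.card_dvd_of_le ?_
      rintro _ ⟨x, hx, rfl⟩
      rw [Subgroup.mem_centralizer_singleton_iff, ← map_mul, ← map_mul]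
      refine congrArg emb ?_
      have hxz : Commute x z0 := Subtype.ext (commute_tz x).eq
      exact (hxz.mul_right (Subgroup.mem_centralizer_singleton_iff.1 hx : Commute x y)).eq
    rw [map_mul, hz0] at nc2
    obtain ⟨s, hs, es⟩ := (C.pic.pairs _).2 ⟨inA y hy, nc⟩
    have hab2 : ({a, b} : Finset GolayPt).card = 2 := Finset.card_pair hab
    have hi := (C.pic.pts.val_pair_mem hab2 hs).1 ((C.pic.pairs _).2
      ⟨mul_mem (C.pic.pts.mem _) (C.pic.pts.mem _), by rw [← he, es]; exact nc2⟩)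
    obtain ⟨x, hx⟩ := Finset.card_eq_one.1 hi
    obtain ⟨hx1, hx2⟩ := Finset.mem_inter.1 (hx.symm ▸ Finset.mem_singleton_self x)
    obtain ⟨r, hr, hrx⟩ := Finset.exists_mem_ne (by rw [hs]; norm_num) x
    have es' : s = {x, r} := pair_eq (Ne.symm hrx) hs hx2 hr
    have hr' : r ∉ ({a, b} : Finset GolayPt) := fun k =>
      hrx (Finset.mem_singleton.1 (hx ▸ Finset.mem_inter.2 ⟨k, hr⟩))
    simp only [Finset.mem_insert, Finset.mem_singleton, not_or] at hr'
    refine ⟨r, hr'.1, hr'.2, ?_⟩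
    rcases Finset.mem_insert.1 hx1 with k | k
    · exact Or.inl (by rw [← es, es', k])
    · exact Or.inr (by rw [← es, es', Finset.mem_singleton.1 k])
  -- members on different sides are impossible
  have mix : ∀ (u u' w : ↥PG0), (u : Spor.Fi23) ∈ cliq T → (u' : Spor.Fi23) ∈ cliq T → (w : Spor.Fi23) ∈ cliq T →
      (u : Spor.Fi23) ≠ tz → (u' : Spor.Fi23) ≠ tz → (w : Spor.Fi23) ≠ tz → u ≠ u' → u ≠ w → u' ≠ w →
      ∀ x x' : GolayPt, ({x, x'} : Finset GolayPt) = {a, b} → x ≠ x' → ∀ r r' r'' : GolayPt,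
      r ≠ x → r ≠ x' → r' ≠ x → r' ≠ x' → r'' ≠ x → r'' ≠ x' →
      emb u = C.val {x, r} → emb u' = C.val {x, r'} → emb w = C.val {x', r''} → False := by
    intro u u' w hu hu' hw nu nu' nw n1 n2 n3 x x' hxx hne r r' r'' h1 h2 h3 h4 h5 h6 eu eu' ew
    have cm : ∀ {v v' : ↥PG0}, (v : Spor.Fi23) ∈ cliq T → (v' : Spor.Fi23) ∈ cliq T →
        Commute (v : Spor.Fi23) v' := fun hv hv' => Block.M23Up.cliq_commute B hd T hv hv'
    have nv : ∀ {v v' : ↥PG0}, v ≠ v' → (v : Spor.Fi23) ≠ v' := fun h k => h (Subtype.ext k)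
    obtain ⟨g, g0, g1, g2, -⟩ := Block.M23Up.trans_below B hd (hperp u hu nu) (hperp u' hu' nu') (hperp w hw nw)
      (hperp u hu nu) (hperp w hw nw) (hperp u' hu' nu') (cm hu hu') (cm hu hw) (cm hu' hw) (nv n1) (nv n2)
      (nv n3) (cm hu hw) (cm hu hu') (cm hw hu') (nv n2) (nv n1) (nv (Ne.symm n3))
    have hgP : g ∈ PG0 := by
      show g ∈ PerpGroup classD tz
      rw [← M23.centralizer_eq B hd, Subgroup.mem_centralizer_singleton_iff]
      exact mul_inv_eq_iff_eq_mul.1 g0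
    have move : (⟨g, hgP⟩ : ↥PG0) * (u * u') * (⟨g, hgP⟩)⁻¹ = u * w := Subtype.ext (by
      simp only [Subgroup.coe_mul, Subgroup.coe_inv]
      calc g * ((u : Spor.Fi23) * u') * g⁻¹ = (g * u * g⁻¹) * (g * u' * g⁻¹) := by group
        _ = _ := by rw [g1, g2])
    have hrr' : r ≠ r' := fun e => n1 (hinj (by rw [eu, eu', e]))
    have hrr'' : r ≠ r'' := by
      intro e
      refine perp_ne_tz_mul (hperp w hw nw) (hperp u hu nu) ?_
      refine congrArg Subtype.val (hinj (a₁ := w) (a₂ := z0 * u) ?_)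
      rw [map_mul, hz0, he, eu, ew, ← hxx, ← C.pic.pts.mul, e]
      congr 1
      ext v
      simp only [Finset.mem_symmDiff, Finset.mem_insert, Finset.mem_singleton]
      constructor
      · rintro (rfl | rfl)
        · exact Or.inl ⟨Or.inr rfl, by simp [Ne.symm hne, Ne.symm h6]⟩
        · exact Or.inr ⟨Or.inr rfl, by simp [h5, h6]⟩
      · tauto
    have e1 : emb (u * u') = C.val {r, r'} := by
      rw [map_mul, eu, eu', ← C.pic.pts.mul]
      congr 1
      ext v
      simp only [Finset.mem_symmDiff, Finset.mem_insert, Finset.mem_singleton]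
      constructor
      · tauto
      · rintro (rfl | rfl)
        · exact Or.inl ⟨Or.inr rfl, by simp [h1, hrr']⟩
        · exact Or.inr ⟨Or.inr rfl, by simp [h3, Ne.symm hrr']⟩
    have e2 : emb (u * w) = C.val {x, r, x', r''} := by
      rw [map_mul, eu, ew, ← C.pic.pts.mul]
      congr 1
      ext v
      simp only [Finset.mem_symmDiff, Finset.mem_insert, Finset.mem_singleton]
      constructor
      · tauto
      · rintro (rfl | rfl | rfl | rfl)
        · exact Or.inl ⟨Or.inl rfl, by simp [hne, Ne.symm h5]⟩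
        · exact Or.inl ⟨Or.inr rfl, by simp [h2, hrr'']⟩
        · exact Or.inr ⟨Or.inl rfl, by simp [Ne.symm hne, Ne.symm h2]⟩
        · exact Or.inr ⟨Or.inr rfl, by simp [h5, Ne.symm hrr'']⟩
    have hconj : IsConj (C.val {r, r'}) (C.val {x, r, x', r''}) := by
      refine _root_.isConj_iff.2 ⟨emb ⟨g, hgP⟩, ?_⟩
      rw [← e1, ← e2, ← map_inv, ← map_mul, ← map_mul, move]
    exact (C.pic.nc_pair hrr').2 ((four_conj C (p := x) (q := r) (r := x') (s := r'') (by
      simp [Ne.symm h1, hne, Ne.symm h5, h2, hrr'', Ne.symm h6])).trans hconj.symm)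
  -- the twenty-two
  let S : Set ↥PG0 := {y | (y : Spor.Fi23) ∈ cliq T ∧ (y : Spor.Fi23) ≠ tz}
  have hS : S.ncard = 22 := by
    have : (fun y : ↥PG0 => (y : Spor.Fi23)) '' S = cliq T \ {tz} := by
      ext x
      constructor
      · rintro ⟨y, ⟨h1, h2⟩, rfl⟩; exact ⟨h1, h2⟩
      · rintro ⟨h1, h2⟩
        exact ⟨⟨x, Block.M23Up.sylIn_le T h1.2⟩, ⟨h1, h2⟩, rfl⟩
    rw [← Set.ncard_image_of_injective S (Subtype.val_injective (p := fun x => x ∈ PG0)), this,
      Set.ncard_sdiff_singleton_of_mem (Block.M23Up.self_mem_cliq B hd T), (Block.M23Up.cliq_facts B hd T).1]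
  have huni : ∃ x x' : GolayPt, ({x, x'} : Finset GolayPt) = {a, b} ∧ x ≠ x' ∧
      ∀ y ∈ S, ∃ r, r ≠ x ∧ r ≠ x' ∧ emb y = C.val {x, r} := by
    by_contra hno
    push Not at hno
    obtain ⟨u, hu, hu'⟩ := hno a b rfl hab
    obtain ⟨w, hw, hw'⟩ := hno b a (Finset.pair_comm _ _) (Ne.symm hab)
    obtain ⟨r, hr1, hr2, er⟩ := hpair u hu.1 hu.2
    obtain ⟨r', hr1', hr2', er'⟩ := hpair w hw.1 hw.2
    replace er := er.resolve_left (hu' r hr1 hr2)
    replace er' := er'.resolve_right (hw' r' hr2' hr1')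
    have huw : u ≠ w := fun e => hu' r' hr1' hr2' (e ▸ er')
    obtain ⟨v, hv, hvu⟩ : ∃ v ∈ S, v ∉ ({u, w} : Set ↥PG0) := by
      by_contra hcon
      push Not at hcon
      have := (Set.ncard_le_ncard (s := S) (t := {u, w}) fun y hy => hcon y hy).trans (Set.ncard_insert_le _ _)
      rw [hS, Set.ncard_singleton] at this
      omega
    simp only [Set.mem_insert_iff, Set.mem_singleton_iff, not_or] at hvu
    obtain ⟨s, hs1, hs2, es | es⟩ := hpair v hv.1 hv.2
    · exact mix w v u hw.1 hv.1 hu.1 hw.2 hv.2 hu.2 (Ne.symm hvu.2) (Ne.symm huw) hvu.1 a b rfl hab r' s r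
        hr1' hr2' hs1 hs2 hr1 hr2 er' es er
    · exact mix u v w hu.1 hv.1 hw.1 hu.2 hv.2 hw.2 (Ne.symm hvu.1) huw hvu.2 b a (Finset.pair_comm _ _)
        (Ne.symm hab) r s r' hr2 hr1 hs2 hs1 hr2' hr1' er es er'
  obtain ⟨p, q, hpq, hne, hall⟩ := huni
  refine ⟨T, p, q, hne, by rw [he, hpq], fun y h1 h2 => hall y ⟨h1, h2⟩, fun r hrp hrq => ?_⟩
  choose f hf1 hf2 hf3 using hall
  let F : {y // y ∈ S} → {r : GolayPt // r ≠ p ∧ r ≠ q} := fun y => ⟨f y y.2, hf1 y y.2, hf2 y y.2⟩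
  have hFinj : Function.Injective F := fun y y' e => Subtype.ext (hinj (by
    have e' : f y y.2 = f y' y'.2 := congrArg Subtype.val e
    rw [hf3 y y.2, hf3 y' y'.2, e']))
  have hcard : Nat.card {r : GolayPt // r ≠ p ∧ r ≠ q} = 22 := by
    rw [Nat.card_eq_fintype_card, Fintype.card_subtype,
      show (Finset.univ.filter fun r : GolayPt => r ≠ p ∧ r ≠ q) = (Finset.univ.erase p).erase q by
        ext v; simp [and_comm],
      Finset.card_erase_of_mem (by simp [Ne.symm hne]), Finset.card_erase_of_mem (Finset.mem_univ _),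
      Finset.card_univ, Cfsg.Agent.Spor.Golay.card_golayPt]
  have hsurj : Function.Surjective F :=
    (hFinj.bijective_of_nat_card_le (by rw [hcard, Nat.card_coe_set_eq, hS])).surjective
  obtain ⟨y, hy⟩ := hsurj ⟨r, hrp, hrq⟩
  refine ⟨y, hperp y y.2.1 y.2.2, ?_⟩
  rw [hf3 y y.2]
  exact congrArg (fun v => C.val {p, v}) (congrArg Subtype.val hy)

/-- The centraliser with the class through one point. -/
theorem exists_base (Kd : Kdata (gv C.e1) K) : Nonempty (Base (gv C.e1) K) := by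
  classical
  have B := base_fi23
  have hd := tz_mem
  obtain ⟨⟨hab, -, -⟩, -⟩ := pts_facts C
  have hne : gv C.e1 ≠ 1 := by rw [C.he1]; exact (C.pic.nc_pair hab).1
  have hsq : gv C.e1 * gv C.e1 = 1 := (e_sq C).1
  have ht : orderOf (gv C.e1) = 2 := orderOf_eq_prime (by rw [pow_two]; exact hsq) hne
  have hA := A_le C hF Kd.le Kd.idx
  have htK : gv C.e1 ∈ K := hA (by rw [C.he1]; exact C.pic.pts.mem _)
  obtain ⟨emb, hinj, hrange, htz⟩ := exists_emb hF ht htK Kd
  obtain ⟨T, p, q, hpq, hpqt, hcl, hpts⟩ := exists_points C hF hinj hrange htz hA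
  have inT : ∀ (Y : Set Spor.Fi23), Y ⊆ perp classD tz → (∀ x ∈ Y, ∀ y ∈ Y, Commute x y) →
      ∃ g : ↥PG0, ∀ y : ↥PG0, (y : Spor.Fi23) ∈ Y →
        ∃ r, r ≠ p ∧ r ≠ q ∧ emb (g * y * g⁻¹) = C.val {p, r} := by
    intro Y hY hc
    obtain ⟨g, hg, hgc⟩ := Block.M23Up.into_cliq_perp B hd T hY hc
    refine ⟨⟨g, hg⟩, fun y hy => hcl _ (hgc _ hy) ?_⟩
    intro e
    refine (hY hy).2.1 ?_
    have e' : g * (y : Spor.Fi23) * g⁻¹ = tz := e
    have e'' : g * tz * g⁻¹ = tz := conj_self_eq (commute_tz ⟨g, hg⟩).eq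
    exact mul_left_cancel (mul_right_cancel (e'.trans e''.symm))
  have hfix : ∀ g : ↥PG0, emb g * gv C.e1 * (emb g)⁻¹ = gv C.e1 := fun g => by
    rw [← htz ⟨tz, pg0_self⟩ rfl, ← map_inv, ← map_mul, ← map_mul]
    exact congrArg emb (Subtype.ext (conj_self_eq (commute_tz g).eq))
  have hfour : ∀ a : ↥PG0, (a : Spor.Fi23) ∈ perp classD tz → ∀ b : ↥PG0, (b : Spor.Fi23) ∈ perp classD tz →
      a ≠ b → Commute a b → IsConj z (gv C.e1 * emb a * emb b) := by
    intro a ha b hb hab' hc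
    obtain ⟨g, hg⟩ := inT {(a : Spor.Fi23), (b : Spor.Fi23)}
      (by simp [Set.insert_subset_iff, ha, hb]) (by
        rintro x (rfl | rfl) y (rfl | rfl)
        exacts [Commute.refl _, congrArg Subtype.val hc.eq, congrArg Subtype.val hc.symm.eq, Commute.refl _])
    obtain ⟨r, hrp, hrq, er⟩ := hg a (Set.mem_insert _ _)
    obtain ⟨s, hsp, hsq', es⟩ := hg b (Set.mem_insert_of_mem _ rfl)
    have hrs : r ≠ s := fun e => hab' (by
      have e' : g * a * g⁻¹ = g * b * g⁻¹ := hinj (by rw [er, es, e])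
      simpa using e')
    have e1 : gv C.e1 * (C.val {p, r} * C.val {p, s}) = C.val {p, q, r, s} := by
      rw [hpqt, ← C.pic.pts.mul, ← C.pic.pts.mul]
      congr 1
      ext v
      simp only [Finset.mem_symmDiff, Finset.mem_insert, Finset.mem_singleton]
      have d1 := hpq; have d2 := hrp; have d3 := hrq; have d4 := hsp; have d5 := hsq'; have d6 := hrs
      grind
    refine (four_conj C (p := p) (q := q) (r := r) (s := s) (by
      simp [hpq, Ne.symm hrp, Ne.symm hsp, Ne.symm hrq, Ne.symm hsq', hrs])).trans ?_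
    rw [← e1]
    refine _root_.isConj_iff.2 ⟨(emb g)⁻¹, ?_⟩
    rw [← er, ← es, inv_inv, map_mul, map_mul, map_mul, map_mul, map_inv]
    calc (emb g)⁻¹ * (gv C.e1 * (emb g * emb a * (emb g)⁻¹ * (emb g * emb b * (emb g)⁻¹))) * emb g
        = (emb g)⁻¹ * (emb g * gv C.e1 * (emb g)⁻¹) * emb g * (emb a * emb b) := by
          nth_rw 1 [hfix g]; group
      _ = _ := by group
  refine ⟨{
    emb := emb, inj := hinj, range := hrange, map_tz := htz, sq := hsq, ne := hne, le := Kd.le, idx := Kd.idx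
    isConj := ?_, swap := ?_, rev := ?_
    triple := fun a ha b hb hab' hc hconj => (C.pic.nc_pair hpq).2
      (hpqt ▸ (hfour a ha b hb hab' hc).trans hconj.symm)
    card_triple := fun a ha b hb hab' hc => by
      rw [centralizer_card_conj (hfour a ha b hb hab' hc), centralizer_z_card hF] }⟩
  · intro y hy
    obtain ⟨g, hg⟩ := inT {(y : Spor.Fi23)} (Set.singleton_subset_iff.2 hy) (by simp)
    obtain ⟨r, hrp, hrq, er⟩ := hg y rfl
    obtain ⟨σ, hσ, hmap⟩ := exists_map (n := 2) (by norm_num) (x := ![p, q]) (y := ![p, r])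
      (inj_of_nodup (by simp [List.ofFn_succ, hpq])) (inj_of_nodup (by simp [List.ofFn_succ, Ne.symm hrp]))
    obtain ⟨n, -, hact⟩ := C.pic.lift σ hσ
    refine _root_.isConj_iff.2 ⟨(emb g)⁻¹ * n, ?_⟩
    have e : n * gv C.e1 * n⁻¹ = emb (g * y * g⁻¹) := by
      rw [er, hpqt]; exact pair_move C hact hpq (hmap 0) (hmap 1)
    calc (emb g)⁻¹ * n * gv C.e1 * ((emb g)⁻¹ * n)⁻¹ = (emb g)⁻¹ * (n * gv C.e1 * n⁻¹) * emb g := by group
      _ = emb y := by rw [e, map_mul, map_mul, map_inv]; group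
  · obtain ⟨r, hr⟩ := exists_other [p, q] (by simp)
    simp only [List.mem_cons, List.not_mem_nil, or_false, not_or] at hr
    obtain ⟨σ, hσ, hmap⟩ := exists_map (n := 3) (by norm_num) (x := ![p, q, r]) (y := ![q, p, r])
      (inj_of_nodup (by simp [List.ofFn_succ, hpq, Ne.symm hr.1, Ne.symm hr.2]))
      (inj_of_nodup (by simp [List.ofFn_succ, Ne.symm hpq, Ne.symm hr.1, Ne.symm hr.2]))
    obtain ⟨n, -, hact⟩ := C.pic.lift σ hσ
    have hnt : n * gv C.e1 * n⁻¹ = gv C.e1 := by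
      rw [hpqt, pair_move C hact hpq (hmap 0) (hmap 1), Finset.pair_comm]
      rfl
    obtain ⟨y0, hy0, ey0⟩ := hpts r hr.1 hr.2
    have hny0 : n * emb y0 * n⁻¹ = gv C.e1 * emb y0 := by
      rw [ey0, pair_move C hact (Ne.symm hr.1) (hmap 0) (hmap 2), hpqt, ← C.pic.pts.mul]
      congr 1
      ext v
      simp only [Finset.mem_symmDiff, Finset.mem_insert, Finset.mem_singleton]
      constructor
      · rintro (rfl | rfl)
        · exact Or.inl ⟨Or.inr rfl, by simp [Ne.symm hpq, Ne.symm hr.2]⟩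
        · exact Or.inr ⟨Or.inr rfl, by simp [hr.1, hr.2]⟩
      · tauto
    refine ⟨n, hnt, ?_⟩
    rintro x ⟨y, hy, rfl⟩
    obtain ⟨k, hk, ek⟩ := transitive_perp B.set.hyp tz_mem hy0 hy
    have hn : n ∈ Subgroup.centralizer ({gv C.e1} : Set G) :=
      Subgroup.mem_centralizer_singleton_iff.2 (mul_inv_eq_iff_eq_mul.1 hnt)
    have hkK : n * emb ⟨k, hk⟩ * n⁻¹ ∈ K := by
      have hmemK : emb ⟨k, hk⟩ ∈ K := hrange ▸ ⟨⟨k, hk⟩, rfl⟩
      have hN := Subgroup.normal_of_index_eq_two Kd.idx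
      exact hN.conj_mem ⟨emb ⟨k, hk⟩, Kd.le hmemK⟩ hmemK ⟨n, hn⟩
    rw [← hrange] at hkK
    obtain ⟨l, el⟩ := hkK
    refine ⟨l * y0 * l⁻¹, ?_, ?_⟩
    · simp only [Subgroup.coe_mul, Subgroup.coe_inv]
      exact perp_conj' B.set.cls (commute_tz l) hy0
    · rw [show y = ⟨k, hk⟩ * y0 * (⟨k, hk⟩)⁻¹ from Subtype.ext ek.symm, map_mul, map_mul, map_inv, map_mul,
        map_mul, map_inv, el]
      have ht' : Commute (emb l) (gv C.e1) := by
        have hlK : emb l ∈ K := hrange ▸ ⟨l, rfl⟩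
        exact Subgroup.mem_centralizer_singleton_iff.1 (Kd.le hlK)
      rw [el] at ht'
      calc n * (emb ⟨k, hk⟩ * emb y0 * (emb ⟨k, hk⟩)⁻¹) * n⁻¹
          = (n * emb ⟨k, hk⟩ * n⁻¹) * (n * emb y0 * n⁻¹) * (n * emb ⟨k, hk⟩ * n⁻¹)⁻¹ := by group
        _ = (n * emb ⟨k, hk⟩ * n⁻¹) * gv C.e1 * emb y0 * (n * emb ⟨k, hk⟩ * n⁻¹)⁻¹ := by rw [hny0]; group
        _ = _ := by rw [ht'.eq]; group
  · intro a ha b hb hab' hc
    obtain ⟨g, hg⟩ := inT {(a : Spor.Fi23), (b : Spor.Fi23)}
      (by simp [Set.insert_subset_iff, ha, hb]) (by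
        rintro x (rfl | rfl) y (rfl | rfl)
        exacts [Commute.refl _, congrArg Subtype.val hc.eq, congrArg Subtype.val hc.symm.eq, Commute.refl _])
    obtain ⟨r, hrp, hrq, er⟩ := hg a (Set.mem_insert _ _)
    obtain ⟨s, hsp, hsq', es⟩ := hg b (Set.mem_insert_of_mem _ rfl)
    have hrs : r ≠ s := fun e => hab' (by
      have e' : g * a * g⁻¹ = g * b * g⁻¹ := hinj (by rw [er, es, e])
      simpa using e')
    obtain ⟨σ, hσ, hmap⟩ := exists_map (n := 4) (by norm_num) (x := ![p, q, r, s]) (y := ![p, r, q, s])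
      (inj_of_nodup (by simp [List.ofFn_succ, hpq, Ne.symm hrp, Ne.symm hsp, Ne.symm hrq, Ne.symm hsq', hrs]))
      (inj_of_nodup (by simp [List.ofFn_succ, hpq, Ne.symm hrp, Ne.symm hsp, hrq, Ne.symm hsq', hrs]))
    obtain ⟨n, -, hact⟩ := C.pic.lift σ hσ
    have m1 : n * gv C.e1 * n⁻¹ = emb (g * a * g⁻¹) := by
      rw [hpqt, er]; exact pair_move C hact hpq (hmap 0) (hmap 1)
    have m2 : n * emb (g * a * g⁻¹) * n⁻¹ = gv C.e1 := by
      rw [hpqt, er]; exact pair_move C hact (Ne.symm hrp) (hmap 0) (hmap 2)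
    have m3 : n * emb (g * b * g⁻¹) * n⁻¹ = emb (g * b * g⁻¹) := by
      rw [es]; exact pair_move C hact (Ne.symm hsp) (hmap 0) (hmap 3)
    simp only [map_mul, map_inv] at m1 m2 m3
    refine ⟨(emb g)⁻¹ * n * emb g, ?_, ?_, ?_⟩
    · calc _ = (emb g)⁻¹ * (n * (emb g * gv C.e1 * (emb g)⁻¹) * n⁻¹) * emb g := by group
        _ = _ := by rw [hfix, m1]; group
    · calc _ = (emb g)⁻¹ * (n * (emb g * emb a * (emb g)⁻¹) * n⁻¹) * emb g := by group
        _ = (emb g)⁻¹ * (emb g * gv C.e1 * (emb g)⁻¹) * emb g := by rw [m2, hfix]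
        _ = _ := by group
    · calc _ = (emb g)⁻¹ * (n * (emb g * emb b * (emb g)⁻¹) * n⁻¹) * emb g := by group
        _ = _ := by rw [m3]; group

end Cfsg.Agent.Fus.Fi24Rec
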