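/-
Automorphisms of 2.Fi22 carrying the class over the transpositions to itself are inner, as the outer ones
exchange it with the other one.
-/
import Cfsg.Agent.Lib.Fus.Fi24Rec.Side
import Cfsg.Agent.Lib.Fus.M23U.TypeOf.Below
import Cfsg.Agent.S2079

set_option autoImplicit false
set_option linter.style.haveILetI false
set_option linter.unusedSectionVars false
set_option maxRecDepth 100000

open Cfsg Cfsg.Agent.Spor.ThreeTrans Cfsg.Agent.Block.FischerTypes
open Cfsg.Agent.Block.M23Up (base_fi23 tz_mem)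
open Cfsg.Agent.Fus.M23U.TypeOf (classD)
open scoped commutatorElement

namespace Cfsg.Agent.Fus.Fi24Rec

/-- The transposition inside its centraliser. -/
noncomputable def z0 : ↥PG0 := ⟨tz, pg0_self⟩

/-- The class over the transpositions. -/
def side : Set ↥PG0 := {y | (y : Spor.Fi23) ∈ perp classD tz}

theorem z0_central : z0 ∈ Subgroup.center ↥PG0 :=
  Subgroup.mem_center_iff.2 fun y => Subtype.ext (commute_tz y).eq

theorem z0_sq : z0 * z0 = 1 := Subtype.ext (mul_self base_fi23.set.cls.1 tz_mem)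

theorem center_cases {x : ↥PG0} (hx : x ∈ Subgroup.center ↥PG0) : x = 1 ∨ x = z0 := by
  rw [M23.centre base_fi23 tz_mem, Subgroup.mem_subgroupOf] at hx
  obtain ⟨n, hn⟩ := Subgroup.mem_zpowers_iff.1 hx
  have hsq : tz * tz = 1 := mul_self base_fi23.set.cls.1 tz_mem
  rcases Int.even_or_odd' n with ⟨m, rfl | rfl⟩
  · exact Or.inl (Subtype.ext (by rw [← hn, zpow_mul, zpow_two, hsq, one_zpow]; rfl))
  · exact Or.inr (Subtype.ext (by rw [← hn, zpow_add, zpow_mul, zpow_two, hsq, one_zpow, one_mul, zpow_one]; rfl))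

theorem side_conj_mem (k : ↥PG0) {y : ↥PG0} (hy : y ∈ side) : k * y * k⁻¹ ∈ side := by
  show ((k * y * k⁻¹ : ↥PG0) : Spor.Fi23) ∈ perp classD tz
  simp only [Subgroup.coe_mul, Subgroup.coe_inv]
  exact perp_conj' base_fi23.set.cls (commute_tz k) hy

theorem side_gen : Subgroup.closure side = ⊤ := Subgroup.closure_closure_coe_preimage

theorem side_nonempty' : side.Nonempty := by
  obtain ⟨y, hy⟩ := perp_nonempty base_fi23.set.hyp tz_mem
  exact ⟨⟨y, perp_mem hy⟩, hy⟩

theorem not_side_z0_mul {y : ↥PG0} (hy : y ∈ side) : z0 * y ∉ side := fun h => perp_ne_tz_mul h hy rfl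

theorem map_z0 (ψ : MulAut ↥PG0) : ψ z0 = z0 := by
  have h := (Subgroup.characteristic_iff_map_eq.1 (inferInstance : (Subgroup.center ↥PG0).Characteristic)) ψ
  rcases center_cases (h ▸ Subgroup.mem_map_of_mem _ z0_central : ψ z0 ∈ Subgroup.center ↥PG0) with e | e
  · exfalso
    have := ψ.injective (e.trans (map_one ψ).symm)
    exact ne_one base_fi23.set.cls.1 tz_mem (congrArg Subtype.val this)
  · exact e

theorem pg0_perfect : commutator ↥PG0 = ⊤ := (M23.quasisimple base_fi23 tz_mem).1.commutator_eq_top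

/-- An automorphism trivial modulo the centre is trivial. -/
theorem eq_one_of_mod_center (ψ : MulAut ↥PG0) (h : ∀ y, y⁻¹ * ψ y ∈ Subgroup.center ↥PG0) (y : ↥PG0) : ψ y = y := by
  let f : ↥PG0 →* ↥(Subgroup.center ↥PG0) :=
    { toFun := fun y => ⟨_, h y⟩
      map_one' := Subtype.ext (by simp)
      map_mul' := fun a b => Subtype.ext (by
        show (a * b)⁻¹ * ψ (a * b) = a⁻¹ * ψ a * (b⁻¹ * ψ b)
        have hc : Commute (a⁻¹ * ψ a) b⁻¹ := ((Subgroup.mem_center_iff.1 (h a)) b⁻¹).symm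
        calc (a * b)⁻¹ * ψ (a * b) = b⁻¹ * (a⁻¹ * ψ a) * ψ b := by rw [map_mul]; group
          _ = _ := by rw [← hc.eq]; group) }
  have hker : commutator ↥PG0 ≤ f.ker := by
    rw [commutator_def, Subgroup.commutator_le]
    intro a _ b _
    rw [MonoidHom.mem_ker, map_commutatorElement, commutatorElement_eq_one_iff_commute]
    exact Subtype.ext ((Subgroup.mem_center_iff.1 (f b).2 (f a : ↥PG0)))
  rw [pg0_perfect] at hker
  exact (inv_mul_eq_one.1 (congrArg Subtype.val (hker (Subgroup.mem_top y)))).symm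

/-- An automorphism exchanging the two classes makes every one keeping them inner. -/
theorem aut_inner (ν ψ : MulAut ↥PG0) (hν : ∀ y ∈ side, z0 * ν y ∈ side) (hψ : ∀ y ∈ side, ψ y ∈ side) :
    ∃ k : ↥PG0, ∀ y, ψ y = k * y * k⁻¹ := by
  classical
  haveI : Finite Spor.Fi22 := Cfsg.Agent.Spor.Cos.Fi22.finite
  obtain ⟨e, -⟩ := M23U.TypeOf.quot_model
  let pr' : ↥PG0 →* PerpQuot classD tz := QuotientGroup.mk' _
  have hchar : ∀ φ : MulAut ↥PG0, (Subgroup.center ↥PG0).map φ.toMonoidHom = Subgroup.center ↥PG0 :=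
    Subgroup.characteristic_iff_map_eq.1 inferInstance
  let ind : MulAut ↥PG0 → MulAut Spor.Fi22 := fun φ =>
    e.trans ((QuotientGroup.congr _ _ φ (hchar φ)).trans e.symm)
  have hind : ∀ φ y, e (ind φ (e.symm (pr' y))) = pr' (φ y) := fun φ y => by
    show e (e.symm (QuotientGroup.congr _ _ φ (hchar φ) (e (e.symm (pr' y))))) = _
    rw [e.apply_symm_apply, e.apply_symm_apply]
    rfl
  have toK : ∀ (φ : MulAut ↥PG0) (x : Spor.Fi22), ind φ = MulAut.conj x →
      ∃ k : ↥PG0, ∀ y, φ y = k * y * k⁻¹ := by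
    intro φ x hx
    obtain ⟨k, hk⟩ := QuotientGroup.mk'_surjective (Subgroup.center ↥PG0) (e x)
    refine ⟨k, fun y => ?_⟩
    have h1 : ∀ y, y⁻¹ * (φ.trans (MulAut.conj k⁻¹)) y ∈ Subgroup.center ↥PG0 := fun y => by
      show y⁻¹ * (k⁻¹ * φ y * k⁻¹⁻¹) ∈ _
      rw [← QuotientGroup.eq_one_iff]
      have := hind φ y
      rw [hx, MulAut.conj_apply, map_mul, map_mul, map_inv, e.apply_symm_apply, ← hk] at this
      show pr' (y⁻¹ * (k⁻¹ * φ y * k⁻¹⁻¹)) = 1
      rw [map_mul, map_mul, map_mul, map_inv, inv_inv, map_inv, ← this]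
      show (pr' y)⁻¹ * ((pr' k)⁻¹ * (pr' k * pr' y * (pr' k)⁻¹) * pr' k) = 1
      group
    have := eq_one_of_mod_center _ h1 y
    have h2 : k⁻¹ * φ y * k⁻¹⁻¹ = y := this
    calc φ y = k * (k⁻¹ * φ y * k⁻¹⁻¹) * k⁻¹ := by group
      _ = _ := by rw [h2]
  obtain ⟨y0, hy0⟩ := side_nonempty'
  have notinn : ind ν ∉ Inn Spor.Fi22 := by
    rintro ⟨x, hx⟩
    obtain ⟨k, hk⟩ := toK ν x hx.symm
    have := hν y0 hy0
    rw [hk] at this
    exact not_side_z0_mul (side_conj_mem k hy0) this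
  by_cases h : ind ψ ∈ Inn Spor.Fi22
  · obtain ⟨x, hx⟩ := h
    exact toK ψ x hx.symm
  exfalso
  have hidx : (Inn Spor.Fi22).index = 2 := by
    rw [Subgroup.index_eq_card]; exact Cfsg.Agent.S2079.result
  have hm : ind (ν.symm.trans ψ) ∈ Inn Spor.Fi22 := by
    have e1 : ind (ν.symm.trans ψ) = ind ψ * (ind ν)⁻¹ := by
      refine eq_mul_inv_iff_mul_eq.2 ?_
      refine MulEquiv.ext fun x => e.injective ?_
      obtain ⟨y, hy⟩ := QuotientGroup.mk'_surjective (Subgroup.center ↥PG0) (e x)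
      have hx : x = e.symm (pr' y) := by rw [show pr' y = e x from hy, e.symm_apply_apply]
      show e (ind (ν.symm.trans ψ) (ind ν x)) = e (ind ψ x)
      rw [hx, hind]
      conv_lhs => rw [show ind ν (e.symm (pr' y)) = e.symm (pr' (ν y)) by
        rw [← hind, e.symm_apply_apply]]
      rw [hind]
      exact congrArg pr' (congrArg ψ (ν.symm_apply_apply y))
    rw [e1, Subgroup.mul_mem_iff_of_index_two hidx, inv_mem_iff]
    exact iff_of_false h notinn
  obtain ⟨x, hx⟩ := hm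
  obtain ⟨k, hk⟩ := toK _ x hx.symm
  have h1 : ψ y0 = k * ν y0 * k⁻¹ := by rw [← hk]; exact (congrArg ψ (ν.symm_apply_apply y0)).symm
  have h2 := side_conj_mem k (hν y0 hy0)
  rw [show k * (z0 * ν y0) * k⁻¹ = z0 * (k * ν y0 * k⁻¹) by
    rw [← mul_assoc k, Subgroup.mem_center_iff.1 z0_central k]; group, ← h1] at h2
  exact not_side_z0_mul (hψ y0 hy0) h2

/-- Two exchanging automorphisms differ by an inner one. -/
theorem swap_unique (ν ν' : MulAut ↥PG0) (hν : ∀ y ∈ side, z0 * ν y ∈ side) (hν' : ∀ y ∈ side, z0 * ν' y ∈ side) :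
    ∃ k : ↥PG0, ∀ y, ν' y = ν (k * y * k⁻¹) := by
  have hinv : ∀ y ∈ side, ν.symm (z0 * y) ∈ side := by
    intro y hy
    have hinj : Function.Injective (fun u : ↥PG0 => z0 * ν u) := fun a b h => ν.injective (mul_left_cancel h)
    have hbij : (fun u : ↥PG0 => z0 * ν u) '' side = side :=
      Set.eq_of_subset_of_ncard_le (fun _ ⟨u, hu, e⟩ => e ▸ hν u hu)
        (Set.ncard_image_of_injective side hinj).ge side.toFinite
    obtain ⟨u, hu, e⟩ := hbij.ge hy
    have hu2 : z0 * y = ν u := by rw [← e, ← mul_assoc, z0_sq, one_mul]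
    rw [hu2, ν.symm_apply_apply]
    exact hu
  obtain ⟨k, hk⟩ := aut_inner ν (ν'.trans ν.symm) hν fun y hy => by
    have := hinv _ (hν' y hy)
    rw [← mul_assoc, z0_sq, one_mul] at this
    exact this
  exact ⟨k, fun y => by rw [← hk]; exact (ν.apply_symm_apply _).symm⟩

end Cfsg.Agent.Fus.Fi24Rec
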