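/-
Points with neighbours, each neighbourhood seen as a class of type M(22): components have diameter two.
-/
import Cfsg.Agent.Lib.Block.FischerTypes.M23Up.Local

set_option autoImplicit false
set_option linter.style.haveILetI false
set_option linter.unusedSectionVars false

namespace Cfsg.Agent.Fus.Fi24Rec

open Cfsg Cfsg.Agent.Spor.ThreeTrans Cfsg.Agent.Block.FischerTypes

variable {G Φ K : Type*} [Group G] [MulAction G Φ] [Group K]

/-- What one point sees. -/
structure World (el : Φ → G) (adj : Φ → Φ → Prop) (F : Set K) (u : Φ) where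
  f : Φ → K
  mem : ∀ x, adj u x → f x ∈ F
  inj : ∀ x, adj u x → ∀ y, adj u y → f x = f y → x = y
  surj : ∀ q ∈ F, ∃ x, adj u x ∧ f x = q
  comm : ∀ x, adj u x → ∀ y, adj u y → (Commute (f x) (f y) ↔ x = y ∨ adj x y)
  triple : ∀ x, adj u x → ∀ y, adj u y → f (el x • y) = f x * f y * f x

/-- The geometry: every point carries an involution fixing it and its neighbours. -/
structure Geom (el : Φ → G) (adj : Φ → Φ → Prop) (F : Set K) : Prop where
  el_smul : ∀ (g : G) (φ : Φ), el (g • φ) = g * el φ * g⁻¹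
  adj_smul : ∀ (g : G) (φ ψ : Φ), adj φ ψ → adj (g • φ) (g • ψ)
  symm : ∀ φ ψ, adj φ ψ → adj ψ φ
  sq : ∀ φ, el φ * el φ = 1
  fix : ∀ φ, el φ • φ = φ
  fix_adj : ∀ φ ψ, adj φ ψ → el φ • ψ = ψ
  comm_el : ∀ φ ψ, adj φ ψ → Commute (el φ) (el ψ)
  el_ne : ∀ φ ψ, adj φ ψ → el φ ≠ el ψ
  ctx : M22.Ctx F
  world : ∀ u, Nonempty (World el adj F u)

/-- Equal or neighbours. -/
def Touch (adj : Φ → Φ → Prop) (a b : Φ) : Prop := a = b ∨ adj a b

/-- Joined by a path of length at most two. -/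
def Near (adj : Φ → Φ → Prop) (a b : Φ) : Prop := a = b ∨ adj a b ∨ ∃ z, adj z a ∧ adj z b

variable {el : Φ → G} {adj : Φ → Φ → Prop} {F : Set K} [Finite K] (Γ : Geom el adj F)
include Γ

namespace Geom

theorem irrefl {a : Φ} : ¬ adj a a := fun h => Γ.el_ne a a h rfl

theorem adj_smul_iff (g : G) (a b : Φ) : adj (g • a) (g • b) ↔ adj a b :=
  ⟨fun h => by simpa using Γ.adj_smul g⁻¹ _ _ h, Γ.adj_smul g a b⟩

theorem triple_mem {u x y : Φ} (hx : adj u x) (hy : adj u y) : adj u (el x • y) := by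
  have h := Γ.adj_smul (el x) u y hy
  rwa [Γ.fix_adj x u (Γ.symm u x hx)] at h

theorem toWorld {u : Φ} (W : World el adj F u) {x y : Φ} (hx : adj u x) (hy : adj u y) :
    W.f y ∈ perp F (W.f x) ↔ adj x y := by
  constructor
  · rintro ⟨-, hne, hc⟩
    exact ((W.comm x hx y hy).mp hc).resolve_left fun e => hne (by rw [e])
  · intro h
    refine ⟨W.mem y hy, fun k => ?_, (W.comm x hx y hy).mpr (Or.inr h)⟩
    rw [W.inj y hy x hx k] at h
    exact Γ.irrefl h

theorem apart_world {u : Φ} (W : World el adj F u) {x y : Φ} (hx : adj u x) (hy : adj u y)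
    (h : ¬ Touch adj x y) : ¬ Commute (W.f x) (W.f y) := fun k => h ((W.comm x hx y hy).mp k)

theorem linked {d f u : Φ} (hdf : ¬ Touch adj d f) (hud : adj d u) (huf : adj f u) :
    ∃ y, adj d y ∧ adj f y ∧ adj u y := by
  obtain ⟨W⟩ := Γ.world u
  have du := Γ.symm d u hud
  have fu := Γ.symm f u huf
  obtain ⟨r, hr⟩ := Γ.ctx.meets _ (W.mem d du) _ (W.mem f fu) (Γ.apart_world W du fu hdf)
  obtain ⟨y, hy, rfl⟩ := W.surj r hr.1.1
  exact ⟨y, (Γ.toWorld W du hy).mp hr.1, (Γ.toWorld W fu hy).mp hr.2, hy⟩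

/-- A point of a neighbourhood meets the common neighbours there. -/
theorem z_lemma {d f w x : Φ} (hdf : ¬ Touch adj d f) (hxd : adj d x) (hxf : adj f x) (hw : adj d w)
    (hxw : ¬ Touch adj x w) : ∃ z, adj d z ∧ adj f z ∧ Touch adj z w := by
  obtain ⟨Wd⟩ := Γ.world d
  let S' : Set K := Wd.f '' {y | adj d y ∧ adj f y}
  obtain ⟨r, ⟨z, hz, rfl⟩, -, hzw⟩ := M22.meet Γ.ctx (S := S') (x := Wd.f x) (w := Wd.f w)
    (fun r ⟨u, hu, e⟩ => e ▸ Wd.mem u hu.1)
    (by
      rintro _ ⟨u, hu, rfl⟩ _ ⟨v, hv, rfl⟩ -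
      exact ⟨el u • v, ⟨Γ.triple_mem hu.1 hv.1, Γ.triple_mem hu.2 hv.2⟩, Wd.triple u hu.1 v hv.1⟩)
    (by
      rintro _ ⟨u, hu, rfl⟩
      obtain ⟨y, hyd, hyf, hc⟩ := Γ.linked hdf hu.1 hu.2
      exact ⟨_, ⟨y, ⟨hyd, hyf⟩, rfl⟩, (Γ.toWorld Wd hu.1 hyd).mpr hc⟩)
    (by
      rintro _ ⟨u, hu, rfl⟩ _ ⟨v, hv, rfl⟩ hvu c hc
      obtain ⟨c, hcd, rfl⟩ := Wd.surj c hc.1.1
      have kvu := (Γ.toWorld Wd hu.1 hv.1).mp hvu
      have kcu := (Γ.toWorld Wd hu.1 hcd).mp hc.1
      have kcv := (Γ.toWorld Wd hv.1 hcd).mp hc.2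
      obtain ⟨Wu⟩ := Γ.world u
      have du := Γ.symm d u hu.1
      have fu := Γ.symm f u hu.2
      obtain ⟨e, he, e1, e2, htw⟩ := M22.line_meet Γ.ctx (Wu.mem v kvu)
        ((Γ.toWorld Wu kvu du).mpr (Γ.symm d v hv.1)) ((Γ.toWorld Wu kvu fu).mpr (Γ.symm f v hv.2))
        (Γ.apart_world Wu du fu hdf) ((Γ.toWorld Wu kvu kcu).mpr kcv)
        ((Wu.comm c kcu d du).mpr (Or.inr (Γ.symm d c hcd))) (fun k => by
          rw [← Wu.inj c kcu d du k] at hcd
          rw [Wu.inj c kcu d du k] at hcd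
          exact Γ.irrefl hcd)
      obtain ⟨e, heu, rfl⟩ := Wu.surj e he.1
      have kev := (Γ.toWorld Wu kvu heu).mp he
      have ked := (Wu.comm e heu d du).mp e1
      have kef := (Wu.comm e heu f fu).mp e2
      have hed : adj d e := by
        rcases ked with rfl | h
        · exact absurd kef hdf
        · exact Γ.symm e d h
      have hef : adj f e := by
        rcases kef with rfl | h
        · exact absurd (Or.inr hed) hdf
        · exact Γ.symm e f h
      refine ⟨_, ⟨e, ⟨hed, hef⟩, rfl⟩,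
        ⟨(Γ.toWorld Wd hu.1 hed).mpr heu, (Γ.toWorld Wd hv.1 hed).mpr kev⟩, fun y hy => ?_⟩
      obtain ⟨y, hyd, rfl⟩ := Wd.surj y hy.1.1
      have kyu := (Γ.toWorld Wd hu.1 hyd).mp hy.1
      have kyv := (Γ.toWorld Wd hv.1 hyd).mp hy.2
      have := htw _ ((Γ.toWorld Wu kvu kyu).mpr kyv) ((Wu.comm y kyu d du).mpr (Or.inr (Γ.symm d y hyd)))
      rw [Wu.comm y kyu c kcu, Wu.comm y kyu e heu] at this
      rw [Wd.comm y hyd c hcd, Wd.comm y hyd e hed]
      exact this)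
    (by
      rintro _ ⟨u, hu, rfl⟩ _ ⟨v, hv, rfl⟩ hvu _ ⟨e, he, rfl⟩ _ ⟨e', he', rfl⟩ k k' htw
      have kvu := (Γ.toWorld Wd hu.1 hv.1).mp hvu
      have keu := (Γ.toWorld Wd hu.1 he.1).mp k.1
      have kev := (Γ.toWorld Wd hv.1 he.1).mp k.2
      have keu' := (Γ.toWorld Wd hu.1 he'.1).mp k'.1
      have kev' := (Γ.toWorld Wd hv.1 he'.1).mp k'.2
      obtain ⟨Wu⟩ := Γ.world u
      have du := Γ.symm d u hu.1
      have fu := Γ.symm f u hu.2
      have := M22.line_unique Γ.ctx (Wu.mem v kvu) ((Γ.toWorld Wu kvu du).mpr (Γ.symm d v hv.1))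
        ((Γ.toWorld Wu kvu fu).mpr (Γ.symm f v hv.2)) (Γ.apart_world Wu du fu hdf)
        ((Γ.toWorld Wu kvu keu).mpr kev) ((Γ.toWorld Wu kvu keu').mpr kev')
        ((Wu.comm e keu d du).mpr (Or.inr (Γ.symm d e he.1))) ((Wu.comm e keu f fu).mpr (Or.inr (Γ.symm f e he.2)))
        ((Wu.comm e' keu' d du).mpr (Or.inr (Γ.symm d e' he'.1)))
        ((Wu.comm e' keu' f fu).mpr (Or.inr (Γ.symm f e' he'.2)))
        fun y hy hne hyc => by
          obtain ⟨y, hyu, rfl⟩ := Wu.surj y hy.1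
          have kyv := (Γ.toWorld Wu kvu hyu).mp hy
          have hyd : adj d y := Γ.symm y d (((Wu.comm y hyu d du).mp hyc).resolve_left fun q => hne (by rw [q]))
          have := htw _ ⟨(Γ.toWorld Wd hu.1 hyd).mpr hyu, (Γ.toWorld Wd hv.1 hyd).mpr kyv⟩
          rw [Wd.comm y hyd e he.1, Wd.comm y hyd e' he'.1] at this
          rw [Wu.comm y hyu e keu, Wu.comm y hyu e' keu']
          exact this
      rw [Wu.inj e keu e' keu' this])
    ⟨x, ⟨hxd, hxf⟩, rfl⟩ (Wd.mem w hw) (Γ.apart_world Wd hxd hw hxw)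
  exact ⟨z, hz.1, hz.2, (Wd.comm z hz.1 w hw).mp hzw⟩

theorem near_symm {a b : Φ} (h : Near adj a b) : Near adj b a := by
  rcases h with h | h | ⟨z, h1, h2⟩
  exacts [Or.inl h.symm, Or.inr (Or.inl (Γ.symm a b h)), Or.inr (Or.inr ⟨z, h2, h1⟩)]

/-- One more step keeps the distance at most two. -/
theorem near_step {d f y : Φ} (h : Near adj d f) (hc : adj f y) : Near adj d y := by
  by_cases hdy : Touch adj d y
  · exact hdy.elim Or.inl fun k => Or.inr (Or.inl k)
  by_cases hdf : Touch adj d f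
  · rcases hdf with rfl | k
    · exact Or.inr (Or.inl hc)
    · exact Or.inr (Or.inr ⟨f, Γ.symm d f k, hc⟩)
  rcases h with h | h | ⟨e, hed, hef⟩
  · exact absurd (Or.inl h) hdf
  · exact absurd (Or.inr h) hdf
  by_cases hey : Touch adj e y
  · rcases hey with rfl | k
    · exact absurd (Or.inr (Γ.symm _ d hed)) hdy
    · exact Or.inr (Or.inr ⟨e, hed, k⟩)
  obtain ⟨z, hzf, hzd, hzy⟩ := Γ.z_lemma (fun k => hdf (k.elim (fun q => Or.inl q.symm) fun q => Or.inr (Γ.symm f d q)))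
    (Γ.symm e f hef) (Γ.symm e d hed) hc hey
  rcases hzy with rfl | k
  · exact absurd (Or.inr hzd) hdy
  · exact Or.inr (Or.inr ⟨z, Γ.symm d z hzd, k⟩)

theorem near_trans {a b c : Φ} (h1 : Near adj a b) (h2 : Near adj b c) : Near adj a c := by
  rcases h2 with h | h | ⟨z, hzb, hzc⟩
  · exact h ▸ h1
  · exact Γ.near_step h1 h
  · exact Γ.near_step (Γ.near_step h1 (Γ.symm z b hzb)) hzc

theorem near_smul (g : G) {a b : Φ} (h : Near adj a b) : Near adj (g • a) (g • b) := by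
  rcases h with h | h | ⟨z, h1, h2⟩
  · exact Or.inl (by rw [h])
  · exact Or.inr (Or.inl (Γ.adj_smul g a b h))
  · exact Or.inr (Or.inr ⟨g • z, Γ.adj_smul g z a h1, Γ.adj_smul g z b h2⟩)

theorem el_inv (a : Φ) : (el a)⁻¹ = el a := inv_eq_of_mul_eq_one_right (Γ.sq a)

theorem el_smul_el (a b : Φ) : el (el a • b) = el a * el b * el a := by rw [Γ.el_smul, Γ.el_inv]

/-- Two points at distance two carry non-commuting involutions braiding. -/
theorem near_braid {a b : Φ} (h : Near adj a b) (hn : ¬ Touch adj a b) :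
    el a * el b * el a = el b * el a * el b ∧ ¬ Commute (el a) (el b) := by
  rcases h with h | h | ⟨z, haz, hbz⟩
  · exact absurd (Or.inl h) hn
  · exact absurd (Or.inr h) hn
  obtain ⟨W⟩ := Γ.world z
  have k := Γ.apart_world W haz hbz hn
  have hbr : el a • b = el b • a := W.inj _ (Γ.triple_mem haz hbz) _ (Γ.triple_mem hbz haz) (by
    rw [W.triple a haz b hbz, W.triple b hbz a haz]
    exact braid Γ.ctx.set.cls.1 (W.mem a haz) (W.mem b hbz) k)
  have e : el a * el b * el a = el b * el a * el b := by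
    rw [← Γ.el_smul_el, ← Γ.el_smul_el, hbr]
  refine ⟨e, fun hc => k ?_⟩
  have hab : el a = el b := by
    rw [hc.eq, mul_assoc, Γ.sq, mul_one, mul_assoc, hc.eq, ← mul_assoc, Γ.sq, one_mul] at e
    exact e.symm
  have e2 := W.triple a haz b hbz
  rw [hab, Γ.fix b] at e2
  have hsq : W.f a * W.f a = 1 := mul_self Γ.ctx.set.cls.1 (W.mem a haz)
  have e3 := congrArg (W.f a * ·) e2
  simp only [← mul_assoc, hsq, one_mul] at e3
  exact e3

/-- Nearby points are told apart by their involutions. -/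
theorem el_inj {a b : Φ} (h : Near adj a b) (e : el a = el b) : a = b := by
  by_contra hne
  by_cases k : adj a b
  · exact Γ.el_ne a b k e
  · exact (Γ.near_braid h (fun q => q.elim hne k)).2 (e ▸ Commute.refl (el a))

/-- Their involutions commute only for neighbours. -/
theorem commute_iff {a b : Φ} (h : Near adj a b) : Commute (el a) (el b) ↔ Touch adj a b := by
  refine ⟨fun hc => by_contra fun hn => (Γ.near_braid h hn).2 hc, ?_⟩
  rintro (rfl | k)
  exacts [Commute.refl _, Γ.comm_el a b k]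

end Geom

end Cfsg.Agent.Fus.Fi24Rec
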