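/-
The involutions of one component generate a group in which they are the transpositions of Fi23.
-/
import Cfsg.Agent.Lib.Fus.Fi24Rec.Local
import Cfsg.Agent.Lib.Block.FischerTypes.M23Up.Final

set_option autoImplicit false
set_option linter.style.haveILetI false
set_option linter.unusedSectionVars false

namespace Cfsg.Agent.Fus.Fi24Rec

open Cfsg Cfsg.Agent.Spor.ThreeTrans Cfsg.Agent.Block.FischerTypes
open Cfsg.Agent.Fus.M23U.TypeOf (classD)

variable {G Φ K : Type*} [Group G] [MulAction G Φ] [Group K]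

/-- The component of a point. -/
def Comp (adj : Φ → Φ → Prop) (d : Φ) : Set Φ := {x | Near adj d x}

/-- Its involutions. -/
def compEl (el : Φ → G) (adj : Φ → Φ → Prop) (d : Φ) : Set G := el '' Comp adj d

/-- The group they generate. -/
def compG (el : Φ → G) (adj : Φ → Φ → Prop) (d : Φ) : Subgroup G := Subgroup.closure (compEl el adj d)

/-- The same inside that group. -/
def compD (el : Φ → G) (adj : Φ → Φ → Prop) (d : Φ) : Set ↥(compG el adj d) :=
  {x | (x : G) ∈ compEl el adj d}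

/-- What is known at one point. -/
structure Root (el : Φ → G) (adj : Φ → Φ → Prop) (F : Set K) (d : Φ) (C : Subgroup G) : Prop where
  stab : ∀ g : G, g • d = d → g ∈ C
  gen : Subgroup.closure (el '' {y | adj d y}) = C
  qs : IsQuasisimple ↥C
  cen : ∀ z ∈ C, (∀ y ∈ C, Commute y z) → z = 1 ∨ z = el d
  quot : ∃ σ : K ≃* PerpQuot (compEl el adj d) (el d), σ '' F = perpSet (compEl el adj d) (el d)

variable [Finite G] [Finite K] {el : Φ → G} {adj : Φ → Φ → Prop} {F : Set K} {d : Φ} (Γ : Geom el adj F)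
include Γ

theorem self_mem : d ∈ Comp adj d := Or.inl rfl

theorem el_mem {x : Φ} (hx : x ∈ Comp adj d) : el x ∈ compG el adj d := Subgroup.subset_closure ⟨x, hx, rfl⟩

theorem adj_mem {x y : Φ} (hx : x ∈ Comp adj d) (h : adj x y) : y ∈ Comp adj d := Γ.near_step hx h

theorem near_mem {x y : Φ} (hx : x ∈ Comp adj d) (hy : y ∈ Comp adj d) : Near adj x y :=
  Γ.near_trans (Γ.near_symm hx) hy

theorem smul_mem {g : G} (hg : g ∈ compG el adj d) : ∀ x ∈ Comp adj d, g • x ∈ Comp adj d := by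
  induction hg using Subgroup.closure_induction'' with
  | one => intro x hx; rwa [one_smul]
  | mem g hg =>
    obtain ⟨a, ha, rfl⟩ := hg
    intro x hx
    have h1 : Near adj a (el a • d) := by
      have := Γ.near_smul (el a) (Γ.near_symm ha)
      rwa [Γ.fix] at this
    exact Γ.near_trans (Γ.near_trans ha h1) (Γ.near_smul (el a) hx)
  | inv_mem g hg =>
    obtain ⟨a, ha, rfl⟩ := hg
    intro x hx
    rw [Γ.el_inv]
    have h1 : Near adj a (el a • d) := by
      have := Γ.near_smul (el a) (Γ.near_symm ha)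
      rwa [Γ.fix] at this
    exact Γ.near_trans (Γ.near_trans ha h1) (Γ.near_smul (el a) hx)
  | mul g h _ _ ig ih =>
    intro x hx
    rw [mul_smul]
    exact ig _ (ih x hx)

theorem el_injOn : Set.InjOn el (Comp adj d) := fun _ ha _ hb e => Γ.el_inj (near_mem Γ ha hb) e

theorem perp_compD {x : Φ} (hx : x ∈ Comp adj d) :
    perp (compD el adj d) ⟨el x, el_mem Γ hx⟩ = {g : ↥(compG el adj d) | ∃ y, adj x y ∧ el y = (g : G)} := by
  ext g
  constructor
  · rintro ⟨⟨y, hy, ey⟩, hne, hc⟩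
    refine ⟨y, ?_, ey⟩
    have hc' : Commute (el x) (el y) := by
      show el x * el y = el y * el x
      rw [ey]
      exact congrArg Subtype.val hc.eq
    rcases (Γ.commute_iff (near_mem Γ hx hy)).mp hc' with rfl | k
    · exact absurd (Subtype.ext ey.symm) hne
    · exact k
  · rintro ⟨y, hy, ey⟩
    refine ⟨⟨y, adj_mem Γ hx hy, ey⟩, fun e => ?_, Subtype.ext ?_⟩
    · exact Γ.el_ne x y hy (by rw [ey, e])
    · show el x * (g : G) = (g : G) * el x
      rw [← ey]
      exact (Γ.comm_el x y hy).eq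

theorem compD_loc : Block.M23Up.Loc (compD el adj d) F := by
  classical
  haveI : Nonempty Φ := ⟨d⟩
  refine ⟨?_, ?_, Γ.ctx, ?_⟩
  · rintro g x ⟨y, hy, ey⟩
    refine ⟨(g : G) • y, smul_mem Γ g.2 y hy, ?_⟩
    rw [Γ.el_smul, ey]
    rfl
  · rintro x ⟨y, -, ey⟩
    refine Subtype.ext ?_
    show (x : G) * (x : G) = 1
    rw [← ey, Γ.sq]
  rintro ⟨u, hu'⟩ ⟨x, hx, ex⟩
  subst ex
  obtain ⟨W⟩ := Γ.world x
  let pre : G → Φ := Function.invFunOn el (Comp adj d)
  have hpre : ∀ {y}, y ∈ Comp adj d → pre (el y) = y := fun {y} hy =>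
    el_injOn Γ (Function.invFunOn_mem ⟨y, hy, rfl⟩) hy (Function.invFunOn_eq ⟨y, hy, rfl⟩)
  have hP := perp_compD Γ hx
  have get : ∀ g : ↥(compG el adj d), g ∈ perp (compD el adj d) ⟨el x, el_mem Γ hx⟩ →
      ∃ y, adj x y ∧ el y = (g : G) ∧ pre (g : G) = y := fun g hg => by
    obtain ⟨y, hy, ey⟩ := hP.le hg
    exact ⟨y, hy, ey, ey ▸ hpre (adj_mem Γ hx hy)⟩
  refine ⟨⟨fun g => W.f (pre g), fun g hg => ?_, fun g hg g' hg' e => ?_, fun q hq => ?_, fun g hg g' hg' => ?_,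
    fun g hg g' hg' => ?_⟩⟩
  · obtain ⟨y, hy, -, e⟩ := get g hg
    show W.f (pre g) ∈ F
    rw [e]; exact W.mem y hy
  · obtain ⟨y, hy, ey, e1⟩ := get g hg
    obtain ⟨y', hy', ey', e2⟩ := get g' hg'
    rw [e1, e2] at e
    exact Subtype.ext (by rw [← ey, ← ey', W.inj y hy y' hy' e])
  · obtain ⟨y, hy, rfl⟩ := W.surj q hq
    exact ⟨⟨el y, el_mem Γ (adj_mem Γ hx hy)⟩, hP.ge ⟨y, hy, rfl⟩, congrArg W.f (hpre (adj_mem Γ hx hy))⟩
  · obtain ⟨y, hy, ey, e1⟩ := get g hg
    obtain ⟨y', hy', ey', e2⟩ := get g' hg'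
    rw [e1, e2, W.comm y hy y' hy']
    have hk := Γ.commute_iff (near_mem Γ (adj_mem Γ hx hy) (adj_mem Γ hx hy'))
    rw [ey, ey'] at hk
    exact hk.symm.trans ⟨fun k => Subtype.ext k.eq, fun k => congrArg Subtype.val k.eq⟩
  · obtain ⟨y, hy, ey, e1⟩ := get g hg
    obtain ⟨y', hy', ey', e2⟩ := get g' hg'
    show W.f (pre ((g * g' * g : ↥(compG el adj d)) : G)) = W.f (pre g) * W.f (pre g') * W.f (pre g)
    rw [e1, e2, Subgroup.coe_mul, Subgroup.coe_mul, ← ey, ← ey', ← Γ.el_smul_el,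
      hpre (adj_mem Γ hx (Γ.triple_mem hy hy'))]
    exact W.triple y hy y' hy'

variable {C : Subgroup G} (R : Root el adj F d C)
include R

theorem root_le : C ≤ compG el adj d := by
  rw [← R.gen]
  exact Subgroup.closure_mono (Set.image_mono fun y hy => adj_mem Γ (self_mem Γ) hy)

theorem cent_root (g : ↥(compG el adj d)) :
    g ∈ Subgroup.centralizer ({⟨el d, el_mem Γ (self_mem Γ)⟩} : Set ↥(compG el adj d)) ↔ (g : G) ∈ C := by
  rw [Subgroup.mem_centralizer_singleton_iff]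
  constructor
  · intro h
    refine R.stab _ (Γ.el_inj (Γ.near_symm (smul_mem Γ g.2 d (self_mem Γ))) ?_)
    rw [Γ.el_smul, conj_self_eq (congrArg Subtype.val h)]
  · intro h
    refine Subtype.ext ?_
    show (g : G) * el d = el d * (g : G)
    have hle : C ≤ Subgroup.centralizer ({el d} : Set G) := by
      rw [← R.gen, Subgroup.closure_le]
      rintro _ ⟨y, hy, rfl⟩
      exact Subgroup.mem_centralizer_singleton_iff.2 (Γ.comm_el d y hy).eq.symm
    exact Subgroup.mem_centralizer_singleton_iff.1 (hle h)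

theorem compD_seed : Block.M23Up.Seed (compD el adj d) F ⟨el d, el_mem Γ (self_mem Γ)⟩ := by
  set H := compG el adj d
  set d' : ↥H := ⟨el d, el_mem Γ (self_mem Γ)⟩
  have himg : H.subtype '' perp (compD el adj d) d' = el '' {y | adj d y} := by
    rw [perp_compD Γ (self_mem Γ)]
    ext g
    constructor
    · rintro ⟨h, ⟨y, hy, ey⟩, rfl⟩
      exact ⟨y, hy, ey⟩
    · rintro ⟨y, hy, rfl⟩
      exact ⟨⟨el y, el_mem Γ (adj_mem Γ (self_mem Γ) hy)⟩, ⟨y, hy, rfl⟩, rfl⟩
  have hperp : perp (compEl el adj d) (el d) = el '' {y | adj d y} := by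
    ext g
    constructor
    · rintro ⟨⟨y, hy, rfl⟩, hne, hc⟩
      refine ⟨y, ?_, rfl⟩
      rcases (Γ.commute_iff hy).mp hc with rfl | k
      · exact absurd rfl hne
      · exact k
    · rintro ⟨y, hy, rfl⟩
      exact ⟨⟨y, adj_mem Γ (self_mem Γ) hy, rfl⟩, (Γ.el_ne d y hy).symm, Γ.comm_el d y hy⟩
  have hcent : (Subgroup.centralizer ({d'} : Set ↥H)).map H.subtype = C := by
    ext g
    constructor
    · rintro ⟨h, hh, rfl⟩
      exact (cent_root Γ R h).mp hh
    · intro hg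
      exact ⟨⟨g, root_le Γ R hg⟩, (cent_root Γ R _).mpr hg, rfl⟩
  let ε : ↥(Subgroup.centralizer ({d'} : Set ↥H)) ≃* ↥C :=
    ((Subgroup.centralizer ({d'} : Set ↥H)).equivMapOfInjective _ H.subtype_injective).trans
      (MulEquiv.subgroupCongr hcent)
  refine ⟨⟨d, self_mem Γ, rfl⟩, ?_, (Grp.isQuasisimple_congr ε).mpr R.qs, fun z hz hzc => ?_, ?_⟩
  · refine Subgroup.map_injective H.subtype_injective ?_
    rw [MonoidHom.map_closure, himg, R.gen, hcent]
  · have h1 : ∀ y ∈ C, Commute y (z : G) := fun y hy =>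
      congrArg Subtype.val (hzc ⟨y, root_le Γ R hy⟩ ((cent_root Γ R _).mpr hy)).eq
    rcases R.cen z ((cent_root Γ R z).mp hz) h1 with e | e
    · exact Or.inl (Subtype.ext e)
    · exact Or.inr (Subtype.ext e)
  · obtain ⟨σ, hσ⟩ := R.quot
    obtain ⟨τ, hτ⟩ := Block.M23Up.quot_embed H.subtype H.subtype_injective (himg.trans hperp.symm)
    refine ⟨σ.trans τ.symm, ?_⟩
    show (fun x => τ.symm (σ x)) '' F = _
    rw [← Set.image_image (g := τ.symm) (f := σ), hσ, ← hτ, ← Set.image_comp]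
    simp
    rfl

/-- The component carries Fi23. -/
theorem exists_fi23 : ∃ e : Spor.Fi23 ≃* ↥(compG el adj d), e '' classD = compD el adj d := by
  haveI : Finite Spor.Fi22 := Cfsg.Agent.Spor.Cos.Fi22.finite
  have Lc := compD_loc (d := d) Γ
  have S := compD_seed Γ R
  have hall : Block.M23Up.comp (compD el adj d) ⟨el d, el_mem Γ (self_mem Γ)⟩ = compD el adj d := by
    refine Set.ext fun x => ⟨fun h => h.1, fun h => ⟨h, ?_⟩⟩
    obtain ⟨y, hy, ey⟩ := h
    rcases hy with rfl | k | ⟨w, hwd, hwy⟩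
    · exact Or.inl (Subtype.ext ey)
    · exact Or.inr (Or.inl (Subtype.ext (by
        show el d * (x : G) = (x : G) * el d
        rw [← ey]; exact (Γ.comm_el d y k).eq)))
    · have hw : w ∈ Comp adj d := Or.inr (Or.inl (Γ.symm w d hwd))
      refine Or.inr (Or.inr ⟨⟨el w, el_mem Γ hw⟩, ⟨w, hw, rfl⟩,
        (perp_compD Γ (self_mem Γ)).ge ⟨w, Γ.symm w d hwd, rfl⟩, ?_⟩)
      have hy' : x = ⟨el y, el_mem Γ (adj_mem Γ hw hwy)⟩ := Subtype.ext ey.symm
      rw [hy', perp_compD Γ (adj_mem Γ hw hwy)]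
      exact ⟨w, Γ.symm w y hwy, rfl⟩
  have htop : Block.M23Up.compGroup (compD el adj d) ⟨el d, el_mem Γ (self_mem Γ)⟩ = ⊤ := by
    rw [Block.M23Up.compGroup, hall]
    exact Subgroup.closure_closure_coe_preimage
  obtain ⟨e, he⟩ := Cfsg.Agent.Fus.M23U.exists_iso (Block.M23Up.comp_base Lc S)
    ⟨⟨_, Subgroup.subset_closure (Block.M23Up.self_comp Lc S)⟩, Block.M23Up.self_comp Lc S⟩
  refine ⟨e.trans ((MulEquiv.subgroupCongr htop).trans Subgroup.topEquiv), ?_⟩
  ext x
  constructor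
  · rintro ⟨y, hy, rfl⟩
    exact hall.le (show ((e y : ↥(Block.M23Up.compGroup (compD el adj d) _)) : ↥(compG el adj d)) ∈
      Block.M23Up.comp (compD el adj d) _ from he.le ⟨y, hy, rfl⟩)
  · intro hx
    obtain ⟨y, hy, ey⟩ := he.ge (show (⟨x, htop.ge (Subgroup.mem_top x)⟩ :
      ↥(Block.M23Up.compGroup (compD el adj d) _)) ∈ Block.M23Up.compSet (compD el adj d) _ from hall.ge hx)
    exact ⟨y, hy, congrArg Subtype.val ey⟩

end Cfsg.Agent.Fus.Fi24Rec
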