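/-
The cosets of the double cover as points: each component gives a subgroup isomorphic to Fi23.
-/
import Cfsg.Agent.Lib.Fus.Fi24Rec.Side
import Cfsg.Agent.Lib.Fus.Fi24Rec.Component

set_option autoImplicit false
set_option linter.style.haveILetI false
set_option linter.unusedSectionVars false
set_option maxRecDepth 100000

open Cfsg Cfsg.Agent.Spor.ThreeTrans Cfsg.Agent.Block.FischerTypes
open Cfsg.Agent.Block.M23Up (base_fi23 tz_mem)
open Cfsg.Agent.Fus.M23U.TypeOf (classD)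

namespace Cfsg.Agent.Fus.Fi24Rec

variable {G : Type*} [Group G] {t : G} {K : Subgroup G} (B : Base t K)

theorem inv_conj {H : Type*} [Group H] {g a b : H} (e : g * a * g⁻¹ = b) : g⁻¹ * b * g = a := by
  subst e; group

namespace Base

/-- The class at the base point. -/
def side0 : Set G := {x | ∃ y : ↥PG0, (y : Spor.Fi23) ∈ perp classD tz ∧ B.emb y = x}

/-- The involution of a point. -/
noncomputable def el (_B : Base t K) (φ : G ⧸ K) : G := φ.out * t * φ.out⁻¹

/-- The class at a point. -/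
noncomputable def sd (φ : G ⧸ K) : Set G := {x | φ.out⁻¹ * x * φ.out ∈ B.side0}

/-- Two points are neighbours when each sees the other. -/
def adj (φ ψ : G ⧸ K) : Prop := B.el ψ ∈ B.sd φ ∧ B.el φ ∈ B.sd ψ

/-- The base point. -/
def base (_B : Base t K) : G ⧸ K := (1 : G)

theorem mem_K {x : G} : x ∈ K ↔ ∃ y, B.emb y = x :=
  ⟨fun h => B.range.ge h, fun h => B.range.le h⟩

theorem emb_commute (y : ↥PG0) : Commute (B.emb y) t := by
  have h := (show Commute y ⟨tz, pg0_self⟩ from Subtype.ext (commute_tz y).eq).map B.emb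
  rwa [B.map_tz ⟨tz, pg0_self⟩ rfl] at h

theorem side_conj {k x : G} (hk : k ∈ K) (hx : x ∈ B.side0) : k * x * k⁻¹ ∈ B.side0 := by
  obtain ⟨l, rfl⟩ := B.mem_K.1 hk
  obtain ⟨y, hy, rfl⟩ := hx
  refine ⟨l * y * l⁻¹, ?_, by rw [map_mul, map_mul, map_inv]⟩
  simp only [Subgroup.coe_mul, Subgroup.coe_inv]
  exact perp_conj' base_fi23.set.cls (commute_tz l) hy

theorem side_ne {x : G} (hx : x ∈ B.side0) : x ≠ t := by
  obtain ⟨y, hy, rfl⟩ := hx
  intro e
  refine hy.2.1 ?_
  exact congrArg Subtype.val (B.inj (e.trans (B.map_tz ⟨tz, pg0_self⟩ rfl).symm))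

theorem side_K {x : G} (hx : x ∈ B.side0) : x ∈ K := by
  obtain ⟨y, -, rfl⟩ := hx
  exact B.mem_K.2 ⟨y, rfl⟩

theorem side_disjoint {x : G} (hx : x ∈ B.side0) : t * x ∉ B.side0 := by
  rintro ⟨y', hy', e⟩
  obtain ⟨y, hy, rfl⟩ := hx
  have e' : B.emb y' = B.emb (⟨tz, pg0_self⟩ * y) := by rw [map_mul, B.map_tz ⟨tz, pg0_self⟩ rfl]; exact e
  exact perp_ne_tz_mul hy' hy (congrArg Subtype.val (B.inj e'))

include B in
theorem t_mem_K : t ∈ K := B.mem_K.2 ⟨_, B.map_tz ⟨tz, pg0_self⟩ rfl⟩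

theorem el_mk (g : G) : B.el (g : G ⧸ K) = g * t * g⁻¹ := by
  obtain ⟨k, hk⟩ := QuotientGroup.mk_out_eq_mul K g
  obtain ⟨l, el⟩ := B.mem_K.1 k.2
  show (g : G ⧸ K).out * t * ((g : G ⧸ K).out)⁻¹ = _
  rw [hk, ← el]
  calc g * B.emb l * t * (g * B.emb l)⁻¹ = g * (B.emb l * t) * (B.emb l)⁻¹ * g⁻¹ := by group
    _ = _ := by rw [(B.emb_commute l).eq]; group

theorem mem_sd_mk {g x : G} : x ∈ B.sd (g : G ⧸ K) ↔ g⁻¹ * x * g ∈ B.side0 := by
  obtain ⟨k, hk⟩ := QuotientGroup.mk_out_eq_mul K g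
  show ((g : G ⧸ K).out)⁻¹ * x * (g : G ⧸ K).out ∈ B.side0 ↔ _
  rw [hk, show (g * (k : G))⁻¹ * x * (g * k) = (k : G)⁻¹ * (g⁻¹ * x * g) * k by group]
  constructor
  · intro h
    have := B.side_conj k.2 h
    rwa [show (k : G) * ((k : G)⁻¹ * (g⁻¹ * x * g) * k) * (k : G)⁻¹ = g⁻¹ * x * g by group] at this
  · intro h
    have := B.side_conj (inv_mem k.2) h
    rwa [inv_inv] at this

theorem el_base : B.el B.base = t := by
  show B.el ((1 : G) : G ⧸ K) = t
  rw [B.el_mk, one_mul, inv_one, mul_one]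

theorem sd_base : B.sd B.base = B.side0 := by
  ext x
  show x ∈ B.sd ((1 : G) : G ⧸ K) ↔ _
  rw [B.mem_sd_mk, inv_one, one_mul, mul_one]

theorem smul_mk (g h : G) : g • (h : G ⧸ K) = ((g * h : G) : G ⧸ K) := rfl

theorem el_smul (g : G) (φ : G ⧸ K) : B.el (g • φ) = g * B.el φ * g⁻¹ := by
  induction φ using QuotientGroup.induction_on with
  | H h => rw [smul_mk, B.el_mk, B.el_mk]; group

theorem mem_sd_smul (g x : G) (φ : G ⧸ K) : g * x * g⁻¹ ∈ B.sd (g • φ) ↔ x ∈ B.sd φ := by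
  induction φ using QuotientGroup.induction_on with
  | H h =>
    rw [smul_mk, B.mem_sd_mk, B.mem_sd_mk, show (g * h)⁻¹ * (g * x * g⁻¹) * (g * h) = h⁻¹ * x * h by group]

theorem adj_smul (g : G) (φ ψ : G ⧸ K) (h : B.adj φ ψ) : B.adj (g • φ) (g • ψ) :=
  ⟨by rw [B.el_smul, B.mem_sd_smul]; exact h.1, by rw [B.el_smul, B.mem_sd_smul]; exact h.2⟩

/-- An element of the centraliser keeping one member on its side lies in the double cover. -/
theorem side_stab {g x : G} (hg : g * t * g⁻¹ = t) (hx : x ∈ B.side0) (h : g * x * g⁻¹ ∈ B.side0) : g ∈ K := by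
  obtain ⟨n, hn, hswap⟩ := B.swap
  by_contra hgK
  have hgC : g ∈ Subgroup.centralizer ({t} : Set G) :=
    Subgroup.mem_centralizer_singleton_iff.2 (mul_inv_eq_iff_eq_mul.1 hg)
  have hnC : n ∈ Subgroup.centralizer ({t} : Set G) :=
    Subgroup.mem_centralizer_singleton_iff.2 (mul_inv_eq_iff_eq_mul.1 hn)
  have hnK : n ∉ K := fun k => by
    obtain ⟨y, hy, e⟩ := hswap x hx
    have h1 := B.side_conj k hx
    rw [e] at h1
    exact B.side_disjoint ⟨y, hy, rfl⟩ h1
  have hk : n⁻¹ * g ∈ K := by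
    have : (⟨n, hnC⟩⁻¹ * ⟨g, hgC⟩ : ↥(Subgroup.centralizer ({t} : Set G))) ∈
        K.subgroupOf (Subgroup.centralizer ({t} : Set G)) := by
      rw [Subgroup.mul_mem_iff_of_index_two B.idx, inv_mem_iff]
      exact iff_of_false hnK hgK
    exact this
  obtain ⟨y, hy, e⟩ := hswap _ (B.side_conj hk hx)
  rw [show n * (n⁻¹ * g * x * (n⁻¹ * g)⁻¹) * n⁻¹ = g * x * g⁻¹ by group] at e
  rw [e] at h
  exact B.side_disjoint ⟨y, hy, rfl⟩ h

variable [Finite G]

theorem exists_partner {a : ↥PG0} (ha : (a : Spor.Fi23) ∈ perp classD tz) :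
    ∃ b : ↥PG0, (b : Spor.Fi23) ∈ perp classD tz ∧ a ≠ b ∧ Commute a b := by
  have hc := M23.card_common base_fi23 tz_mem ha (M23.counts base_fi23 _ tz_mem)
  obtain ⟨b, hb⟩ := Set.nonempty_of_ncard_ne_zero (s := common classD tz (a : Spor.Fi23)) (by rw [hc]; norm_num)
  exact ⟨⟨b, perp_mem hb.1⟩, hb.1, fun e => hb.2.2.1 (congrArg Subtype.val e).symm, Subtype.ext hb.2.2.2.eq⟩

/-- The neighbour of the base point over a member. -/
theorem exists_nb {x : G} (hx : x ∈ B.side0) : ∃ φ, B.adj B.base φ ∧ B.el φ = x := by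
  obtain ⟨a, ha, rfl⟩ := id hx
  obtain ⟨b, hb, hab, hc⟩ := exists_partner ha
  obtain ⟨g, g1, g2, -⟩ := B.rev a ha b hb hab hc
  have e : B.el (g : G ⧸ K) = B.emb a := by rw [B.el_mk]; exact g1
  refine ⟨(g : G ⧸ K), ⟨by rw [e, B.sd_base]; exact hx, ?_⟩, e⟩
  rw [B.el_base, B.mem_sd_mk, inv_conj g2]
  exact hx

theorem nb_unique {φ ψ : G ⧸ K} (h : B.adj B.base φ) (h' : B.adj B.base ψ) (e : B.el φ = B.el ψ) : φ = ψ := by
  induction φ using QuotientGroup.induction_on with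
  | H g =>
  induction ψ using QuotientGroup.induction_on with
  | H k =>
  rw [B.el_mk, B.el_mk] at e
  have h1 := h.2
  have h2 := h'.2
  rw [B.el_base, B.mem_sd_mk] at h1 h2
  refine QuotientGroup.eq.2 (inv_mem_iff.1 ?_)
  rw [_root_.mul_inv_rev, inv_inv]
  refine B.side_stab (x := g⁻¹ * t * g) ?_ h1 ?_
  · calc k⁻¹ * g * t * (k⁻¹ * g)⁻¹ = k⁻¹ * (g * t * g⁻¹) * k := by group
      _ = t := by rw [e]; group
  · rwa [show k⁻¹ * g * (g⁻¹ * t * g) * (k⁻¹ * g)⁻¹ = k⁻¹ * t * k by group]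

theorem coherent {φ ψ : G ⧸ K} (h : B.adj B.base φ) (h' : B.adj B.base ψ) (hne : φ ≠ ψ)
    (hc : Commute (B.el φ) (B.el ψ)) : B.adj φ ψ := by
  have key : ∀ {φ ψ : G ⧸ K}, B.adj B.base φ → B.adj B.base ψ → φ ≠ ψ → Commute (B.el φ) (B.el ψ) →
      B.el ψ ∈ B.sd φ := by
    intro φ ψ h h' hne hc
    have h1 := h.1
    have h2 := h'.1
    rw [B.sd_base] at h1 h2
    obtain ⟨a, ha, ea⟩ := h1
    obtain ⟨b, hb, eb⟩ := id h2
    have hab : a ≠ b := fun e => hne (B.nb_unique h h' (by rw [← ea, ← eb, e]))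
    have hc' : Commute a b := B.inj (by rw [map_mul, map_mul, ea, eb, hc.eq])
    obtain ⟨g, g1, g2, g3⟩ := B.rev a ha b hb hab hc'
    have e1 : B.el (g : G ⧸ K) = B.el φ := by rw [B.el_mk, g1, ea]
    have hg : B.adj B.base (g : G ⧸ K) := by
      refine ⟨by rw [e1]; exact h.1, ?_⟩
      rw [B.el_base, B.mem_sd_mk, inv_conj g2]
      exact ⟨a, ha, rfl⟩
    rw [← B.nb_unique hg h e1, B.mem_sd_mk, ← eb,
      show g⁻¹ * B.emb b * g = g⁻¹ * (g * B.emb b * g⁻¹) * g by rw [g3],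
      show g⁻¹ * (g * B.emb b * g⁻¹) * g = B.emb b by group]
    exact ⟨b, hb, rfl⟩
  exact ⟨key h h' hne hc, key h' h (Ne.symm hne) hc.symm⟩

theorem fix (φ : G ⧸ K) : B.el φ • φ = φ := by
  induction φ using QuotientGroup.induction_on with
  | H g =>
    rw [B.el_mk, smul_mk]
    refine QuotientGroup.eq.2 ?_
    rw [show (g * t * g⁻¹ * g)⁻¹ * g = t⁻¹ by group]
    exact inv_mem B.t_mem_K

theorem fix_adj {φ ψ : G ⧸ K} (h : B.adj φ ψ) : B.el φ • ψ = ψ := by
  have h2 := h.2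
  induction ψ using QuotientGroup.induction_on with
  | H g =>
    rw [B.mem_sd_mk] at h2
    rw [smul_mk]
    refine QuotientGroup.eq.2 ?_
    rw [show (B.el φ * g)⁻¹ * g = (g⁻¹ * B.el φ * g)⁻¹ by group]
    exact inv_mem (B.side_K h2)

theorem sd_commute {φ : G ⧸ K} {x : G} (hx : x ∈ B.sd φ) : Commute (B.el φ) x ∧ B.el φ ≠ x := by
  induction φ using QuotientGroup.induction_on with
  | H g =>
    rw [B.mem_sd_mk] at hx
    have hne := B.side_ne hx
    obtain ⟨y, -, e⟩ := hx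
    have hc := B.emb_commute y
    rw [e] at hc
    rw [B.el_mk]
    refine ⟨?_, fun k => hne (by rw [← k]; group)⟩
    have := hc.symm.map (MulAut.conj g).toMonoidHom
    simp only [MulEquiv.toMonoidHom_eq_coe, MonoidHom.coe_coe, MulAut.conj_apply] at this
    rwa [show g * (g⁻¹ * x * g) * g⁻¹ = x by group] at this

theorem world_base : Nonempty (World B.el B.adj (perpSet classD tz) B.base) := by
  classical
  have h := base_fi23.set.cls
  have htf := base_fi23.set.tf
  have hget : ∀ φ, B.adj B.base φ → ∃ y : ↥PG0, (y : Spor.Fi23) ∈ perp classD tz ∧ B.emb y = B.el φ ∧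
      Function.invFun B.emb (B.el φ) = y := by
    intro φ hφ
    have h1 := hφ.1
    rw [B.sd_base] at h1
    obtain ⟨y, hy, e⟩ := h1
    exact ⟨y, hy, e, by rw [← e]; exact Function.leftInverse_invFun B.inj y⟩
  refine ⟨⟨fun φ => QuotientGroup.mk (Function.invFun B.emb (B.el φ)), fun φ hφ => ?_, fun φ hφ ψ hψ e => ?_,
    fun q hq => ?_, fun φ hφ ψ hψ => ?_, fun φ hφ ψ hψ => ?_⟩⟩
  · obtain ⟨y, hy, -, ey⟩ := hget φ hφ
    show (QuotientGroup.mk (Function.invFun B.emb (B.el φ)) : PerpQuot classD tz) ∈ _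
    rw [ey]
    exact pr_mem hy
  · obtain ⟨y, hy, e1, ey⟩ := hget φ hφ
    obtain ⟨y', hy', e2, ey'⟩ := hget ψ hψ
    rw [ey, ey'] at e
    refine B.nb_unique hφ hψ ?_
    rw [← e1, ← e2, show y = y' from Subtype.ext (pr_injective h htf tz_mem hy hy' e)]
  · obtain ⟨u, hu, rfl⟩ := exists_of_mem hq
    obtain ⟨φ, hφ, e⟩ := B.exists_nb (x := B.emb ⟨u, perp_mem hu⟩) ⟨_, hu, rfl⟩
    refine ⟨φ, hφ, ?_⟩
    show (QuotientGroup.mk (Function.invFun B.emb (B.el φ)) : PerpQuot classD tz) = _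
    rw [e, Function.leftInverse_invFun B.inj]
  · obtain ⟨y, hy, e1, ey⟩ := hget φ hφ
    obtain ⟨y', hy', e2, ey'⟩ := hget ψ hψ
    rw [ey, ey']
    constructor
    · intro k
      have k' : Commute y y' := Subtype.ext (commute_of_pr h htf tz_mem hy hy' k).eq
      rw [or_iff_not_imp_left]
      intro hne
      exact B.coherent hφ hψ hne (by rw [← e1, ← e2]; exact k'.map B.emb)
    · rintro (rfl | k)
      · rw [show y' = y from B.inj (e2.trans e1.symm)]
      · have hc := (B.sd_commute k.1).1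
        rw [← e1, ← e2] at hc
        exact (show Commute y y' from B.inj (by rw [map_mul, map_mul, hc.eq])).map (QuotientGroup.mk' _)
  · obtain ⟨y, hy, e1, ey⟩ := hget φ hφ
    obtain ⟨y', hy', e2, ey'⟩ := hget ψ hψ
    have hsq : y * y = 1 := Subtype.ext (mul_self h.1 hy.1)
    have e3 : Function.invFun B.emb (B.el (B.el φ • ψ)) = y * y' * y := by
      rw [B.el_smul, ← e1, ← e2, show (B.emb y)⁻¹ = B.emb y by
        rw [← map_inv, inv_eq_of_mul_eq_one_right hsq], ← map_mul, ← map_mul,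
        Function.leftInverse_invFun B.inj]
    show (QuotientGroup.mk _ : PerpQuot classD tz) = _
    rw [e3, ey, ey']
    rfl

theorem world (u : G ⧸ K) : Nonempty (World B.el B.adj (perpSet classD tz) u) := by
  induction u using QuotientGroup.induction_on with
  | H g =>
    obtain ⟨W⟩ := B.world_base
    have hb : (g : G ⧸ K) = g • B.base := by show _ = ((g * 1 : G) : G ⧸ K); rw [mul_one]
    have down : ∀ {x}, B.adj (g : G ⧸ K) x → B.adj B.base (g⁻¹ • x) := fun {x} hx => by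
      have := B.adj_smul g⁻¹ _ _ hx
      rwa [hb, inv_smul_smul] at this
    refine ⟨⟨fun x => W.f (g⁻¹ • x), fun x hx => W.mem _ (down hx), fun x hx y hy e => ?_, fun q hq => ?_,
      fun x hx y hy => ?_, fun x hx y hy => ?_⟩⟩
    · exact MulAction.injective g⁻¹ (W.inj _ (down hx) _ (down hy) e)
    · obtain ⟨x, hx, e⟩ := W.surj q hq
      refine ⟨g • x, ?_, by rw [inv_smul_smul]; exact e⟩
      rw [hb]
      exact B.adj_smul g _ _ hx
    · rw [W.comm _ (down hx) _ (down hy)]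
      constructor
      · rintro (k | k)
        · exact Or.inl (MulAction.injective g⁻¹ k)
        · have := B.adj_smul g _ _ k
          rw [smul_inv_smul, smul_inv_smul] at this
          exact Or.inr this
      · rintro (rfl | k)
        exacts [Or.inl rfl, Or.inr (B.adj_smul _ _ _ k)]
    · rw [← W.triple _ (down hx) _ (down hy)]
      congr 1
      rw [B.el_smul, ← mul_smul, ← mul_smul]
      group

theorem geom : Geom B.el B.adj (perpSet classD tz) where
  el_smul := B.el_smul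
  adj_smul := B.adj_smul
  symm _ _ h := ⟨h.2, h.1⟩
  sq φ := by
    induction φ using QuotientGroup.induction_on with
    | H g => rw [B.el_mk, show g * t * g⁻¹ * (g * t * g⁻¹) = g * (t * t) * g⁻¹ by group, B.sq, mul_one,
        mul_inv_cancel]
  fix := B.fix
  fix_adj _ _ h := B.fix_adj h
  comm_el _ _ h := (B.sd_commute h.1).1
  el_ne _ _ h := (B.sd_commute h.1).2
  ctx := base_fi23.ctx tz tz_mem
  world := B.world

theorem perp_comp : perp (compEl B.el B.adj B.base) t = B.side0 := by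
  ext x
  constructor
  · rintro ⟨⟨φ, hφ, rfl⟩, hne, hc⟩
    have hc' : Commute (B.el B.base) (B.el φ) := by rw [B.el_base]; exact hc
    rcases (B.geom.commute_iff hφ).1 hc' with e | k
    · exact absurd (by rw [← e, B.el_base]) hne
    · exact B.sd_base ▸ k.1
  · intro hx
    obtain ⟨φ, hφ, rfl⟩ := B.exists_nb hx
    refine ⟨⟨φ, Or.inr (Or.inl hφ), rfl⟩, B.side_ne hx, ?_⟩
    have := B.geom.comm_el _ _ hφ
    rwa [B.el_base] at this

theorem root : Root B.el B.adj (perpSet classD tz) B.base K where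
  stab g hg := by
    have e : ((g * 1 : G) : G ⧸ K) = ((1 : G) : G ⧸ K) := hg
    have := QuotientGroup.eq.1 e
    rwa [mul_one, mul_one, inv_mem_iff] at this
  gen := by
    have himg : B.el '' {y | B.adj B.base y} = B.emb '' ((PG0).subtype ⁻¹' perp classD tz) := by
      ext x
      constructor
      · rintro ⟨φ, hφ, rfl⟩
        obtain ⟨y, hy, e⟩ := B.sd_base ▸ hφ.1
        exact ⟨y, hy, e⟩
      · rintro ⟨y, hy, rfl⟩
        obtain ⟨φ, hφ, e⟩ := B.exists_nb ⟨y, hy, rfl⟩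
        exact ⟨φ, hφ, e⟩
    rw [himg, ← MonoidHom.map_closure, show Subgroup.closure ((PG0).subtype ⁻¹' perp classD tz) = ⊤ from
      Subgroup.closure_closure_coe_preimage, ← MonoidHom.range_eq_map, B.range]
  qs := (Grp.isQuasisimple_congr ((MonoidHom.ofInjective B.inj).trans (MulEquiv.subgroupCongr B.range))).1
    (M23.quasisimple base_fi23 tz_mem)
  cen w hw hwc := by
    obtain ⟨y, rfl⟩ := B.mem_K.1 hw
    have hy : y ∈ Subgroup.center ↥PG0 := Subgroup.mem_center_iff.2 fun x =>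
      B.inj (by rw [map_mul, map_mul]; exact (hwc _ (B.mem_K.2 ⟨x, rfl⟩)).eq)
    rw [M23.centre base_fi23 tz_mem, Subgroup.mem_subgroupOf] at hy
    have hsq : tz * tz = 1 := mul_self base_fi23.set.cls.1 tz_mem
    obtain ⟨n, hn⟩ := Subgroup.mem_zpowers_iff.1 hy
    rw [B.el_base]
    rcases Int.even_or_odd' n with ⟨k, rfl | rfl⟩
    · rw [zpow_mul, zpow_two, hsq, one_zpow] at hn
      left
      rw [show y = 1 from Subtype.ext hn.symm, map_one]
    · rw [zpow_add, zpow_mul, zpow_two, hsq, one_zpow, one_mul, zpow_one] at hn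
      exact Or.inr (B.map_tz y hn.symm)
  quot := by
    rw [B.el_base]
    let E' : Set ↥PG0 := {x | (x : Spor.Fi23) ∈ classD}
    let z0 : ↥PG0 := ⟨tz, pg0_self⟩
    have h1 : (PG0).subtype '' perp E' z0 = perp classD tz := by
      ext x
      constructor
      · rintro ⟨y, ⟨hy, hne, hc⟩, rfl⟩
        exact ⟨hy, fun e => hne (Subtype.ext e), congrArg Subtype.val hc.eq⟩
      · intro hx
        exact ⟨⟨x, perp_mem hx⟩, ⟨hx.1, fun e => hx.2.1 (congrArg Subtype.val e), Subtype.ext hx.2.2.eq⟩, rfl⟩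
    have h2 : B.emb '' perp E' z0 = perp (compEl B.el B.adj B.base) t := by
      rw [B.perp_comp]
      ext x
      constructor
      · rintro ⟨y, hy, rfl⟩
        exact ⟨y, h1.le ⟨y, hy, rfl⟩, rfl⟩
      · rintro ⟨y, hy, rfl⟩
        obtain ⟨y', hy', e⟩ := h1.ge hy
        rw [Subtype.ext e] at hy'
        exact ⟨y, hy', rfl⟩
    obtain ⟨σ, hσ⟩ := Block.M23Up.quot_embed (PG0).subtype (PG0).subtype_injective h1
    obtain ⟨τ, hτ⟩ := Block.M23Up.quot_embed B.emb B.inj h2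
    refine ⟨σ.symm.trans τ, ?_⟩
    rw [← hσ, ← Set.image_comp]
    exact (by simp : _ = τ '' perpSet E' z0).trans hτ

/-- The group of the base component. -/
noncomputable abbrev grp : Subgroup G := compG B.el B.adj B.base

/-- It is Fi23, the involutions of the component its transpositions. -/
theorem exists_fi23 : ∃ e : Spor.Fi23 ≃* ↥B.grp, e '' classD = compD B.el B.adj B.base :=
  Fi24Rec.exists_fi23 B.geom B.root

end Base

end Cfsg.Agent.Fus.Fi24Rec
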