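/-
The graph on the components: a flag and its partner are the two ends of an edge, edges are determined by their
ends, and two neighbours of a vertex are joined exactly when their edges commute.
-/
import Cfsg.Agent.Lib.Fus.Fi24Rec.Flags
import Cfsg.Agent.Lib.Block.FischerTypes.M23Invol

set_option autoImplicit false
set_option linter.style.haveILetI false
set_option linter.unusedSectionVars false
set_option maxRecDepth 100000

open Cfsg Cfsg.Agent.Spor.ThreeTrans Cfsg.Agent.Block.FischerTypes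
open Cfsg.Agent.Block.M23Up (base_fi23 tz_mem)
open Cfsg.Agent.Fus.M23U.TypeOf (classD)

namespace Cfsg.Agent.Fus.Fi24Rec

variable {G : Type*} [Group G] [Finite G] {t : G} {K : Subgroup G}

namespace Base

variable (B : Base t K)

/-- An element exchanging the two classes at the base point. -/
noncomputable def flip : G := B.swap.choose

theorem flip_spec : B.flip * t * B.flip⁻¹ = t ∧ ∀ x ∈ B.side0,
    ∃ y : ↥PG0, (y : Spor.Fi23) ∈ perp classD tz ∧ B.flip * x * B.flip⁻¹ = t * B.emb y := B.swap.choose_spec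

theorem flip_cent : B.flip ∈ Subgroup.centralizer ({t} : Set G) :=
  Subgroup.mem_centralizer_singleton_iff.2 (mul_inv_eq_iff_eq_mul.1 B.flip_spec.1)

theorem side_nonempty : B.side0.Nonempty := by
  obtain ⟨y, hy⟩ := perp_nonempty base_fi23.set.hyp tz_mem
  exact ⟨_, ⟨y, perp_mem hy⟩, hy, rfl⟩

theorem flip_not_mem : B.flip ∉ K := fun k => by
  obtain ⟨x, hx⟩ := B.side_nonempty
  obtain ⟨y, hy, e⟩ := B.flip_spec.2 x hx
  have h1 := B.side_conj k hx
  rw [e] at h1
  exact B.side_disjoint ⟨y, hy, rfl⟩ h1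

theorem flip_conj_mem {k : G} (hk : k ∈ K) : B.flip⁻¹ * k * B.flip ∈ K := by
  have hN := Subgroup.normal_of_index_eq_two B.idx
  have := hN.conj_mem ⟨k, B.le hk⟩ hk ⟨B.flip⁻¹, inv_mem B.flip_cent⟩
  simpa [Subgroup.mem_subgroupOf] using this

theorem flip_mul_flip : B.flip * B.flip ∈ K := by
  have : (⟨B.flip, B.flip_cent⟩ * ⟨B.flip, B.flip_cent⟩ : ↥(Subgroup.centralizer ({t} : Set G))) ∈
      K.subgroupOf (Subgroup.centralizer ({t} : Set G)) := Subgroup.mul_self_mem_of_index_two B.idx _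
  exact this

/-- The other flag over the same involution. -/
noncomputable def sw (φ : G ⧸ K) : G ⧸ K := ((φ.out * B.flip : G) : G ⧸ K)

theorem sw_mk (g : G) : B.sw (g : G ⧸ K) = ((g * B.flip : G) : G ⧸ K) := by
  obtain ⟨k, hk⟩ := QuotientGroup.mk_out_eq_mul K g
  show (((g : G ⧸ K).out * B.flip : G) : G ⧸ K) = _
  rw [hk]
  refine QuotientGroup.eq.2 ?_
  rw [show (g * (k : G) * B.flip)⁻¹ * (g * B.flip) = B.flip⁻¹ * (k : G)⁻¹ * B.flip by group]
  exact B.flip_conj_mem (inv_mem k.2)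

theorem sw_smul (g : G) (φ : G ⧸ K) : B.sw (g • φ) = g • B.sw φ := by
  induction φ using QuotientGroup.induction_on with
  | H h => rw [smul_mk, B.sw_mk, B.sw_mk, smul_mk, mul_assoc]

theorem sw_sw (φ : G ⧸ K) : B.sw (B.sw φ) = φ := by
  induction φ using QuotientGroup.induction_on with
  | H g =>
    rw [B.sw_mk, B.sw_mk]
    refine QuotientGroup.eq.2 ?_
    rw [show (g * B.flip * B.flip)⁻¹ * g = (B.flip * B.flip)⁻¹ by group]
    exact inv_mem B.flip_mul_flip

theorem el_sw (φ : G ⧸ K) : B.el (B.sw φ) = B.el φ := by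
  induction φ using QuotientGroup.induction_on with
  | H g =>
    rw [B.sw_mk, B.el_mk, B.el_mk]
    calc g * B.flip * t * (g * B.flip)⁻¹ = g * (B.flip * t * B.flip⁻¹) * g⁻¹ := by group
      _ = _ := by rw [B.flip_spec.1]

/-- Two flags over one involution. -/
theorem flags_over {φ ψ : G ⧸ K} (e : B.el φ = B.el ψ) : ψ = φ ∨ ψ = B.sw φ := by
  induction φ using QuotientGroup.induction_on with
  | H g =>
  induction ψ using QuotientGroup.induction_on with
  | H k =>
  rw [B.el_mk, B.el_mk] at e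
  have hC : g⁻¹ * k ∈ Subgroup.centralizer ({t} : Set G) := by
    refine Subgroup.mem_centralizer_singleton_iff.2 (mul_inv_eq_iff_eq_mul.1 ?_)
    calc g⁻¹ * k * t * (g⁻¹ * k)⁻¹ = g⁻¹ * (k * t * k⁻¹) * g := by group
      _ = t := by rw [← e]; group
  by_cases h : g⁻¹ * k ∈ K
  · exact Or.inl (QuotientGroup.eq.2 h).symm
  refine Or.inr ?_
  rw [B.sw_mk]
  refine QuotientGroup.eq.2 ?_
  rw [show k⁻¹ * (g * B.flip) = (g⁻¹ * k)⁻¹ * B.flip by group]
  have : ((⟨g⁻¹ * k, hC⟩)⁻¹ * ⟨B.flip, B.flip_cent⟩ : ↥(Subgroup.centralizer ({t} : Set G))) ∈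
      K.subgroupOf (Subgroup.centralizer ({t} : Set G)) := by
    rw [Subgroup.mul_mem_iff_of_index_two B.idx, inv_mem_iff]
    exact iff_of_false h B.flip_not_mem
  exact this

theorem mem_sd_sw {φ : G ⧸ K} {x : G} : x ∈ B.sd (B.sw φ) ↔ B.el φ * x ∈ B.sd φ := by
  induction φ using QuotientGroup.induction_on with
  | H g =>
    rw [B.sw_mk, B.mem_sd_mk, B.el_mk, B.mem_sd_mk,
      show g⁻¹ * (g * t * g⁻¹ * x) * g = t * (g⁻¹ * x * g) by group,
      show (g * B.flip)⁻¹ * x * (g * B.flip) = B.flip⁻¹ * (g⁻¹ * x * g) * B.flip by group]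
    generalize g⁻¹ * x * g = u
    constructor
    · intro h
      obtain ⟨y, hy, e⟩ := B.flip_spec.2 _ h
      rw [show B.flip * (B.flip⁻¹ * u * B.flip) * B.flip⁻¹ = u by group] at e
      rw [e, ← mul_assoc, B.sq, one_mul]
      exact ⟨y, hy, rfl⟩
    · intro h
      obtain ⟨y, hy, e⟩ := B.flip_spec.2 _ (B.side_conj (inv_mem B.flip_mul_flip) h)
      have ht : Commute B.flip t := Subgroup.mem_centralizer_singleton_iff.1 B.flip_cent
      have e2 : B.flip * ((B.flip * B.flip)⁻¹ * (t * u) * ((B.flip * B.flip)⁻¹)⁻¹) * B.flip⁻¹ =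
          t * (B.flip⁻¹ * u * B.flip) := by
        calc _ = B.flip⁻¹ * t * (u * B.flip) := by group
          _ = _ := by rw [ht.inv_left.eq]; group
      rw [e2] at e
      exact ⟨y, hy, (mul_left_cancel e).symm⟩

theorem sd_disjoint {φ : G ⧸ K} {x : G} (h : x ∈ B.sd φ) : B.el φ * x ∉ B.sd φ := by
  induction φ using QuotientGroup.induction_on with
  | H g =>
    rw [B.mem_sd_mk] at h
    rw [B.el_mk, B.mem_sd_mk, show g⁻¹ * (g * t * g⁻¹ * x) * g = t * (g⁻¹ * x * g) by group]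
    exact B.side_disjoint h

/-- A neighbour over every member. -/
theorem exists_adj {φ : G ⧸ K} {x : G} (h : x ∈ B.sd φ) : ∃ ψ, B.adj φ ψ ∧ B.el ψ = x := by
  induction φ using QuotientGroup.induction_on with
  | H g =>
    have hb : (g : G ⧸ K) = g • B.base := by show _ = ((g * 1 : G) : G ⧸ K); rw [mul_one]
    rw [B.mem_sd_mk] at h
    obtain ⟨ψ, hψ, e⟩ := B.exists_nb h
    refine ⟨g • ψ, ?_, by rw [B.el_smul, e]; group⟩
    rw [hb]
    exact B.adj_smul g _ _ hψ

/-- The involution exchanged for its partner is no neighbour. -/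
theorem not_adj_sw {φ : G ⧸ K} : ¬ B.adj φ (B.sw φ) := fun h => (B.sd_commute h.1).2 (B.el_sw φ).symm

theorem sw_ne (φ : G ⧸ K) : B.sw φ ≠ φ := by
  induction φ using QuotientGroup.induction_on with
  | H g =>
    rw [B.sw_mk]
    intro e
    have := QuotientGroup.eq.1 e
    rw [show (g * B.flip)⁻¹ * g = B.flip⁻¹ by group, inv_mem_iff] at this
    exact B.flip_not_mem this

theorem K_le_grp : K ≤ B.grp := root_le B.geom B.root

theorem flip_not_grp : B.flip ∉ B.grp := fun h => B.flip_not_mem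
  ((cent_root B.geom B.root ⟨B.flip, h⟩).1 (Subgroup.mem_centralizer_singleton_iff.2 (Subtype.ext (by
    show B.flip * B.el B.base = B.el B.base * B.flip
    rw [B.el_base]; exact Subgroup.mem_centralizer_singleton_iff.1 B.flip_cent))))

theorem mk_eq_smul (g : G) : (g : G ⧸ K) = g • B.base := by show _ = ((g * 1 : G) : G ⧸ K); rw [mul_one]

/-- A flag lies in the base component exactly when it comes from the group. -/
theorem mem_comp_iff {g : G} : (g : G ⧸ K) ∈ Comp B.adj B.base ↔ g ∈ B.grp := by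
  refine ⟨fun h => ?_, fun h => ?_⟩
  · obtain ⟨e, he⟩ := B.exists_fi23
    have hx : (⟨B.el (g : G ⧸ K), el_mem B.geom h⟩ : ↥B.grp) ∈ compD B.el B.adj B.base := ⟨_, h, rfl⟩
    have hb : (⟨B.el B.base, el_mem B.geom (self_mem B.geom)⟩ : ↥B.grp) ∈ compD B.el B.adj B.base :=
      ⟨_, self_mem B.geom, rfl⟩
    rw [← he] at hx hb
    obtain ⟨a, ha, ea⟩ := hb
    obtain ⟨b, hb', eb⟩ := hx
    obtain ⟨w, hw⟩ := transitive base_fi23.set.cls ha hb'
    have hk := smul_mem B.geom (e w).2 B.base (self_mem B.geom)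
    have e1 : B.el (((e w : ↥B.grp) : G) • B.base) = B.el (g : G ⧸ K) := by
      rw [B.el_smul]
      have e2 : e w * e a * (e w)⁻¹ = e b := by rw [← map_inv, ← map_mul, ← map_mul, hw]
      rw [ea, eb] at e2
      exact congrArg Subtype.val e2
    have e3 := B.geom.el_inj (near_mem B.geom hk h) e1
    rw [← B.mk_eq_smul] at e3
    have h3 := mul_mem (e w).2 (B.K_le_grp (QuotientGroup.eq.1 e3))
    rwa [mul_inv_cancel_left] at h3
  · rw [B.mk_eq_smul]
    exact smul_mem B.geom h B.base (self_mem B.geom)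

/-- The vertex of a flag: its component. -/
noncomputable def vert (φ : G ⧸ K) : G ⧸ B.grp := ((φ.out : G) : G ⧸ B.grp)

theorem vert_mk (g : G) : B.vert (g : G ⧸ K) = (g : G ⧸ B.grp) := by
  obtain ⟨k, hk⟩ := QuotientGroup.mk_out_eq_mul K g
  show ((((g : G ⧸ K).out) : G) : G ⧸ B.grp) = _
  rw [hk]
  exact QuotientGroup.eq.2 (by rw [show (g * (k : G))⁻¹ * g = (k : G)⁻¹ by group]; exact inv_mem (B.K_le_grp k.2))

theorem vert_smul (g : G) (φ : G ⧸ K) : B.vert (g • φ) = g • B.vert φ := by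
  induction φ using QuotientGroup.induction_on with
  | H h => rw [smul_mk, B.vert_mk, B.vert_mk]; rfl

theorem exists_vert (γ : G ⧸ B.grp) : ∃ φ, B.vert φ = γ := by
  induction γ using QuotientGroup.induction_on with
  | H g => exact ⟨(g : G ⧸ K), B.vert_mk g⟩

theorem vert_eq_iff {φ ψ : G ⧸ K} : B.vert φ = B.vert ψ ↔ Near B.adj φ ψ := by
  induction φ using QuotientGroup.induction_on with
  | H g =>
  induction ψ using QuotientGroup.induction_on with
  | H k =>
  rw [B.vert_mk, B.vert_mk, QuotientGroup.eq, ← B.mem_comp_iff]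
  show Near B.adj B.base _ ↔ _
  constructor
  · intro h
    have := B.geom.near_smul g h
    rwa [← B.mk_eq_smul, smul_mk, mul_inv_cancel_left] at this
  · intro h
    have := B.geom.near_smul g⁻¹ h
    rwa [smul_mk, smul_mk, inv_mul_cancel] at this

theorem vert_eq_of_adj {φ ψ : G ⧸ K} (h : B.adj φ ψ) : B.vert φ = B.vert ψ :=
  B.vert_eq_iff.2 (Or.inr (Or.inl h))

theorem vert_sw_ne (φ : G ⧸ K) : B.vert (B.sw φ) ≠ B.vert φ := by
  induction φ using QuotientGroup.induction_on with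
  | H g =>
    rw [B.sw_mk, B.vert_mk, B.vert_mk]
    intro e
    have := QuotientGroup.eq.1 e
    rw [show (g * B.flip)⁻¹ * g = B.flip⁻¹ by group, inv_mem_iff] at this
    exact B.flip_not_grp this

/-- Commuting edges at a vertex have different far ends. -/
theorem far_ne_of_adj {φ ψ : G ⧸ K} (h : B.adj φ ψ) : B.vert (B.sw φ) ≠ B.vert (B.sw ψ) := by
  intro e
  have hc : Commute (B.el (B.sw φ)) (B.el (B.sw ψ)) := by
    rw [B.el_sw, B.el_sw]; exact B.geom.comm_el _ _ h
  rcases (B.geom.commute_iff (B.vert_eq_iff.1 e)).1 hc with k | k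
  · exact B.geom.el_ne _ _ h (by rw [← B.el_sw φ, k, B.el_sw])
  · have := k.1
    rw [B.el_sw, B.mem_sd_sw] at this
    exact B.sd_disjoint h.1 this

/-- Two commuting edges at a vertex give the third side. -/
theorem triangle {φ ψ : G ⧸ K} (h : B.adj φ ψ) : ∃ χ, B.el χ = B.el φ * B.el ψ ∧
    B.adj (B.sw φ) χ ∧ B.adj (B.sw ψ) (B.sw χ) ∧
    B.vert χ = B.vert (B.sw φ) ∧ B.vert (B.sw χ) = B.vert (B.sw ψ) := by
  have hc := (B.geom.comm_el _ _ h).eq
  have h1 : B.el φ * B.el ψ ∈ B.sd (B.sw φ) := by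
    rw [B.mem_sd_sw, ← mul_assoc, B.geom.sq, one_mul]; exact h.1
  have h2 : B.el φ * B.el ψ ∈ B.sd (B.sw ψ) := by
    rw [B.mem_sd_sw, hc, ← mul_assoc, B.geom.sq, one_mul]; exact h.2
  obtain ⟨χ, hχ, eχ⟩ := B.exists_adj h1
  obtain ⟨χ', hχ', eχ'⟩ := B.exists_adj h2
  rcases B.flags_over (eχ.trans eχ'.symm) with rfl | rfl
  · exact absurd ((B.vert_eq_of_adj hχ).trans (B.vert_eq_of_adj hχ').symm) (B.far_ne_of_adj h)
  · exact ⟨χ, eχ, hχ, hχ', (B.vert_eq_of_adj hχ).symm, (B.vert_eq_of_adj hχ').symm⟩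

theorem root_fix {k : G} (hk : k ∈ K) : k • B.base = B.base := by
  rw [← B.mk_eq_smul]
  exact QuotientGroup.eq.2 (by rw [mul_one]; exact inv_mem hk)

/-- Edges with both ends equal coincide. -/
theorem edge_inj {φ ψ : G ⧸ K} (h : B.vert φ = B.vert ψ) (h' : B.vert (B.sw φ) = B.vert (B.sw ψ)) : φ = ψ := by
  induction φ using QuotientGroup.induction_on with
  | H g =>
  suffices key : ∀ y, B.vert B.base = B.vert y → B.vert (B.sw B.base) = B.vert (B.sw y) → B.base = y by
    have := key (g⁻¹ • ψ) (by rw [B.vert_smul, ← h, B.mk_eq_smul, B.vert_smul, inv_smul_smul])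
      (by rw [B.sw_smul, B.vert_smul, ← h', B.mk_eq_smul, B.sw_smul, B.vert_smul, inv_smul_smul])
    rw [B.mk_eq_smul, this, smul_inv_smul]
  intro y hy hy'
  by_contra hne
  have hyC : y ∈ Comp B.adj B.base := B.vert_eq_iff.1 hy
  have happ : ¬ Touch B.adj B.base y := fun k => k.elim hne fun k => B.far_ne_of_adj k hy'
  have hnc : ¬ Commute (B.el B.base) (B.el y) := fun k => happ ((B.geom.commute_iff hyC).1 k)
  obtain ⟨e, he⟩ := B.exists_fi23
  have hb : (⟨B.el B.base, el_mem B.geom (self_mem B.geom)⟩ : ↥B.grp) ∈ compD B.el B.adj B.base :=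
    ⟨_, self_mem B.geom, rfl⟩
  have hx : (⟨B.el y, el_mem B.geom hyC⟩ : ↥B.grp) ∈ compD B.el B.adj B.base := ⟨_, hyC, rfl⟩
  rw [← he] at hb hx
  obtain ⟨x0, hx0, ex0⟩ := hb
  obtain ⟨q, hq, eq⟩ := hx
  have hqa : q ∈ apart classD x0 := ⟨hq, fun k => hnc (by
    have := (k.symm.map e.toMonoidHom).map B.grp.subtype
    simpa [ex0, eq] using this)⟩
  obtain ⟨d, hd⟩ := perp_nonempty base_fi23.set.hyp hx0
  obtain ⟨a, ha, had⟩ := exists_apart_partner base_fi23.set.hyp hx0 hd
  obtain ⟨w, hw⟩ := transitive base_fi23.set.cls ha.1 hx0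
  have hcls := base_fi23.set.cls
  -- the commuting pair apart from the centre
  have hc1 : w * x0 * w⁻¹ ∈ apart classD x0 := ⟨conj_mem hcls w hx0, fun k => ha.2 (by
    rw [← hw, commute_conj_iff] at k
    rw [hw] at k
    exact k.symm)⟩
  have hc2 : w * d * w⁻¹ ∈ apart classD x0 := ⟨conj_mem hcls w hd.1, fun k => had (by
    rw [← hw, commute_conj_iff] at k
    exact k.symm)⟩
  have move : ∀ c ∈ apart classD x0, ∃ ψ, ψ ∈ Comp B.adj B.base ∧ B.el ψ = ((e c : ↥B.grp) : G) ∧
      B.vert (B.sw ψ) = B.vert (B.sw B.base) := by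
    intro c hc
    obtain ⟨k, hk, ek⟩ := transitive_apart base_fi23.set.hyp hx0 hqa hc
    have hkK : ((e k : ↥B.grp) : G) ∈ K := (cent_root B.geom B.root _).1 (by
      rw [Subgroup.mem_centralizer_singleton_iff]
      have := ((localGroup_commute hk).map e.toMonoidHom).eq
      simpa [ex0] using this)
    refine ⟨((e k : ↥B.grp) : G) • y, smul_mem B.geom (e k).2 y hyC, ?_, ?_⟩
    · rw [B.el_smul, ← ek, map_mul, map_mul, map_inv, eq]
      rfl
    · rw [B.sw_smul, B.vert_smul, ← hy', ← B.vert_smul, ← B.sw_smul]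
      congr 2
      exact B.root_fix hkK
  obtain ⟨φ1, m1, e1, v1⟩ := move _ hc1
  obtain ⟨φ2, m2, e2, v2⟩ := move _ hc2
  have hcc : Commute (w * x0 * w⁻¹) (w * d * w⁻¹) := (commute_conj_iff w _ _).mpr hd.2.2
  have hcm : Commute (B.el φ1) (B.el φ2) := by
    rw [e1, e2]; exact (hcc.map e.toMonoidHom).map B.grp.subtype
  rcases (B.geom.commute_iff (near_mem B.geom m1 m2)).1 hcm with k | k
  · subst k
    have := Subtype.ext (e1.symm.trans e2)
    have k2 := e.injective this
    simp at k2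
    exact hd.2.1 k2.symm
  · exact B.far_ne_of_adj k (v1.trans v2.symm)

end Base

end Cfsg.Agent.Fus.Fi24Rec
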