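/-
Two neighbours of a vertex are joined exactly when the edges to them commute; the vertices fixed by the
involution of an edge are its ends and their common neighbours.
-/
import Cfsg.Agent.Lib.Fus.Fi24Rec.Graph

set_option autoImplicit false
set_option linter.style.haveILetI false
set_option linter.unusedSectionVars false
set_option maxRecDepth 100000

open Cfsg Cfsg.Agent.Spor.ThreeTrans Cfsg.Agent.Block.FischerTypes
open Cfsg.Agent.Block.M23Up (base_fi23 tz_mem)
open Cfsg.Agent.Fus.M23U.TypeOf (classD)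

namespace Cfsg.Agent.Fus.Fi24Rec

variable {G : Type*} [Group G] [Finite G] {t : G} {K : Subgroup G}

namespace Base

variable (B : Base t K)

/-- Two vertices are the ends of an edge. -/
def Linked (α β : G ⧸ B.grp) : Prop := ∃ φ, B.vert φ = α ∧ B.vert (B.sw φ) = β

theorem linked_symm {α β : G ⧸ B.grp} (h : B.Linked α β) : B.Linked β α := by
  obtain ⟨φ, h1, h2⟩ := h
  exact ⟨B.sw φ, h2, by rwa [B.sw_sw]⟩

theorem not_linked_self (α : G ⧸ B.grp) : ¬ B.Linked α α := fun ⟨φ, h1, h2⟩ =>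
  B.vert_sw_ne φ (h2.trans h1.symm)

theorem linked_smul (g : G) {α β : G ⧸ B.grp} (h : B.Linked α β) : B.Linked (g • α) (g • β) := by
  obtain ⟨φ, rfl, rfl⟩ := h
  exact ⟨g • φ, B.vert_smul g φ, by rw [B.sw_smul, B.vert_smul]⟩

/-- The far end is fixed by the involution of an edge. -/
theorem el_fix_ends (φ : G ⧸ K) : B.el φ • B.vert φ = B.vert φ ∧ B.el φ • B.vert (B.sw φ) = B.vert (B.sw φ) := by
  refine ⟨by rw [← B.vert_smul, B.fix], ?_⟩
  rw [← B.el_sw φ, ← B.vert_smul, B.fix]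

theorem el_fix_far {φ ψ : G ⧸ K} (h : B.adj φ ψ) : B.el φ • B.vert (B.sw ψ) = B.vert (B.sw ψ) := by
  rw [← B.vert_smul, ← B.sw_smul, B.fix_adj h]

/-- Two neighbours of a vertex are joined exactly when their edges commute. -/
theorem linked_far_iff {φ ψ : G ⧸ K} (h : B.vert φ = B.vert ψ) :
    B.Linked (B.vert (B.sw φ)) (B.vert (B.sw ψ)) ↔ B.adj φ ψ := by
  refine ⟨?_, fun k => ?_⟩
  swap
  · obtain ⟨χ, -, -, -, h1, h2⟩ := B.triangle k
    exact ⟨χ, h1, h2⟩
  rintro ⟨χ, hχ1, hχ2⟩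
  by_contra hadj
  rcases B.vert_eq_iff.1 h with e | k | ⟨a, haφ, haψ⟩
  · subst e
    exact B.vert_sw_ne χ (hχ2.trans hχ1.symm)
  · exact hadj k
  have haf : B.el a • φ = φ := B.fix_adj haφ
  have has : B.el a • ψ = ψ := B.fix_adj haψ
  have hfix : B.el a • χ = χ := by
    refine B.edge_inj ?_ ?_
    · rw [B.vert_smul, hχ1, ← B.vert_smul, ← B.sw_smul, haf]
    · rw [B.sw_smul, B.vert_smul, hχ2, ← B.vert_smul, ← B.sw_smul, has]
  have hcu : B.el χ * B.el a = B.el a * B.el χ := by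
    have := B.el_smul (B.el a) χ
    rw [hfix] at this
    rw [eq_mul_inv_iff_mul_eq] at this
    exact this
  have hnear : Near B.adj χ (B.sw φ) := B.vert_eq_iff.1 hχ1
  have happ : ¬ Touch B.adj χ (B.sw φ) := by
    rintro (e | k)
    · rw [e, B.sw_sw] at hχ2
      exact B.vert_sw_ne ψ (hχ2.symm.trans h)
    · obtain ⟨ρ, -, -, k2, k3, k4⟩ := B.triangle k
      rw [B.sw_sw] at k2 k4
      have hρ : B.sw ρ = ψ := B.edge_inj (k4.trans h) (by rw [B.sw_sw, k3, hχ2])
      rw [hρ] at k2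
      exact hadj k2
  obtain ⟨hbr, hnc⟩ := B.geom.near_braid hnear happ
  have hsame : B.el (B.el χ • a) = B.el a := by
    rw [B.el_smul, hcu, mul_inv_cancel_right]
  have hva : B.vert a = B.vert φ := B.vert_eq_of_adj haφ
  have hmove : B.vert (B.el χ • B.sw φ) = B.vert (B.sw φ) := by
    rw [B.vert_smul, ← hχ1, (B.el_fix_ends χ).1]
  rcases B.flags_over hsame.symm with e | e
  · have hα : B.el χ • B.vert φ = B.vert φ := by rw [← hva, ← B.vert_smul, e]
    have hfx : B.el χ • B.sw φ = B.sw φ :=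
      B.edge_inj hmove (by rw [B.sw_smul, B.sw_sw, B.vert_smul, hα])
    refine hnc ?_
    have := B.el_smul (B.el χ) (B.sw φ)
    rw [hfx, eq_mul_inv_iff_mul_eq] at this
    exact this.symm
  · obtain ⟨η, -, k1, -, k3, k4⟩ := B.triangle (show B.adj φ a from ⟨haφ.2, haφ.1⟩)
    have he : B.el χ • B.sw φ = η := B.edge_inj (hmove.trans k3.symm) (by
      rw [B.sw_smul, B.sw_sw, B.vert_smul, ← hva, ← B.vert_smul, e, k4])
    rw [← he] at k1
    have hc := (B.geom.comm_el _ _ k1).eq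
    rw [B.geom.el_smul_el] at hc
    refine hnc ?_
    -- e (u e u) = (u e u) e and u e u = e u e give e u = u e
    have hsq := B.geom.sq (B.sw φ)
    rw [hbr, ← mul_assoc, ← mul_assoc, hsq, one_mul, mul_assoc (B.el (B.sw φ) * B.el χ), hsq, mul_one] at hc
    exact hc

/-- The vertices fixed by the involution of an edge. -/
theorem fixed_vertices {φ : G ⧸ K} {γ : G ⧸ B.grp} (h : B.el φ • γ = γ) :
    γ = B.vert φ ∨ γ = B.vert (B.sw φ) ∨ ∃ ψ, B.adj φ ψ ∧ γ = B.vert (B.sw ψ) := by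
  classical
  induction γ using QuotientGroup.induction_on with
  | H g =>
  have hmem : g⁻¹ * B.el φ * g ∈ B.grp := by
    have h' : ((B.el φ * g : G) : G ⧸ B.grp) = (g : G ⧸ B.grp) := h
    have := QuotientGroup.eq.1 h'.symm
    rwa [← mul_assoc] at this
  have hsq := B.geom.sq φ
  have hne : B.el φ ≠ 1 := by
    induction φ using QuotientGroup.induction_on with
    | H k =>
      rw [B.el_mk]
      intro e
      exact B.ne (by rw [show t = k⁻¹ * (k * t * k⁻¹) * k by group, e]; group)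
  obtain ⟨e, he⟩ := B.exists_fi23
  set w := e.symm ⟨_, hmem⟩ with hw
  have hew : e w = ⟨_, hmem⟩ := e.apply_symm_apply _
  have hord : orderOf w = 2 := by
    refine orderOf_eq_prime ?_ fun k => hne ?_
    · refine e.injective (Subtype.ext ?_)
      rw [map_pow, hew, map_one]
      show (g⁻¹ * B.el φ * g) ^ 2 = 1
      rw [pow_two, show g⁻¹ * B.el φ * g * (g⁻¹ * B.el φ * g) = g⁻¹ * (B.el φ * B.el φ) * g by group, hsq]
      group
    · have := congrArg (Subtype.val) (hew.symm.trans (by rw [k, map_one]))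
      rw [show B.el φ = g * (g⁻¹ * B.el φ * g) * g⁻¹ by group, show g⁻¹ * B.el φ * g = 1 from this]
      group
  obtain ⟨m, h1, h3, l, hn, hlen, hD, hc, hprod⟩ :=
    M23.invol_fact base_fi23 ⟨tz, tz_mem⟩ hord
  have lift : ∀ c ∈ classD, ∃ ψ ∈ Comp B.adj B.base, B.el ψ = ((e c : ↥B.grp) : G) := fun c hc =>
    he.le ⟨c, hc, rfl⟩
  have hback : ∀ c, B.vert ((g : G) • c) = (g : G ⧸ B.grp) ↔ c ∈ Comp B.adj B.base := by
    intro c
    rw [B.vert_smul, show (g : G ⧸ B.grp) = g • B.vert B.base by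
      rw [← B.vert_smul, ← B.mk_eq_smul, B.vert_mk], smul_left_cancel_iff, eq_comm, B.vert_eq_iff]
    rfl
  have eval : ∀ {ψ : G ⧸ K} {x : G}, B.el ψ = x → B.el (g • ψ) = g * x * g⁻¹ := fun {ψ x} k => by
    rw [B.el_smul, k]
  interval_cases m
  · obtain ⟨a, rfl⟩ := List.length_eq_one_iff.mp hlen
    obtain ⟨ψ, hψ, eψ⟩ := lift a (hD a (by simp))
    rw [List.prod_singleton] at hprod
    rw [hprod, hew] at eψ
    have k : B.el φ = B.el (g • ψ) := by rw [eval eψ]; group
    rcases B.flags_over k with r | r <;> have := (hback ψ).2 hψ <;> rw [r] at this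
    exacts [Or.inl this.symm, Or.inr (Or.inl this.symm)]
  · obtain ⟨a, b, rfl⟩ := List.length_eq_two.mp hlen
    simp only [List.prod_cons, List.prod_nil, mul_one] at hprod
    obtain ⟨ψ, hψ, eψ⟩ := lift a (hD a (by simp))
    obtain ⟨ψ', hψ', eψ'⟩ := lift b (hD b (by simp))
    have hab : a ≠ b := by simpa using hn
    have hk : B.el φ = B.el (g • ψ) * B.el (g • ψ') := by
      have : g⁻¹ * B.el φ * g = B.el ψ * B.el ψ' := by
        rw [eψ, eψ', ← Subgroup.coe_mul, ← map_mul, hprod, hew]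
      rw [eval rfl, eval rfl, show g * B.el ψ * g⁻¹ * (g * B.el ψ' * g⁻¹) = g * (B.el ψ * B.el ψ') * g⁻¹ by group,
        ← this]
      group
    have hadj : B.adj (g • ψ) (g • ψ') := by
      refine B.adj_smul g _ _ ?_
      refine ((B.geom.commute_iff (near_mem B.geom hψ hψ')).1 ?_).resolve_left fun k => hab ?_
      · rw [eψ, eψ']
        exact ((hc a (by simp) b (by simp)).map e.toMonoidHom).map B.grp.subtype
      · exact e.injective (Subtype.ext (by rw [← eψ, ← eψ', k]))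
    obtain ⟨χ, eχ, k1, k2, -, -⟩ := B.triangle hadj
    right; right
    rcases B.flags_over (hk.trans eχ.symm) with r | r <;> rw [r] at k1 k2
    · exact ⟨B.sw (g • ψ), ⟨k1.2, k1.1⟩, by rw [B.sw_sw, (hback ψ).2 hψ]⟩
    · rw [B.sw_sw] at k2
      exact ⟨B.sw (g • ψ'), ⟨k2.2, k2.1⟩, by rw [B.sw_sw, (hback ψ').2 hψ']⟩
  · exfalso
    obtain ⟨a, b, c, rfl⟩ := List.length_eq_three.mp hlen
    simp only [List.prod_cons, List.prod_nil, mul_one] at hprod
    obtain ⟨hab, hac, hbc⟩ : a ≠ b ∧ a ≠ c ∧ b ≠ c := by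
      simp only [List.nodup_cons, List.mem_cons, List.not_mem_nil, or_false, not_or, List.nodup_nil] at hn
      exact ⟨hn.1.1, hn.1.2, hn.2.1⟩
    obtain ⟨ψ, hψ, eψ⟩ := lift a (hD a (by simp))
    obtain ⟨ψb, hψb, eb⟩ := lift b (hD b (by simp))
    obtain ⟨ψc, hψc, ec⟩ := lift c (hD c (by simp))
    have hcomm : ∀ {u v : Spor.Fi23} {p q : G ⧸ K}, B.el p = ((e u : ↥B.grp) : G) →
        B.el q = ((e v : ↥B.grp) : G) → p ∈ Comp B.adj B.base → q ∈ Comp B.adj B.base → Commute u v → u ≠ v →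
        B.adj p q := by
      intro u v p q ep eq hp hq k hne'
      refine ((B.geom.commute_iff (near_mem B.geom hp hq)).1 ?_).resolve_left fun r => hne' ?_
      · rw [ep, eq]; exact (k.map e.toMonoidHom).map B.grp.subtype
      · exact e.injective (Subtype.ext (by rw [← ep, ← eq, r]))
    have ab := hcomm eψ eb hψ hψb (hc a (by simp) b (by simp)) hab
    have ac := hcomm eψ ec hψ hψc (hc a (by simp) c (by simp)) hac
    have bc := hcomm eb ec hψb hψc (hc b (by simp) c (by simp)) hbc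
    induction ψ using QuotientGroup.induction_on with
    | H k =>
      have hb' : B.el (k⁻¹ • ψb) ∈ B.side0 := by
        have := (B.adj_smul k⁻¹ _ _ ab).1
        rwa [smul_mk, inv_mul_cancel, ← B.sd_base] at *
      have hc' : B.el (k⁻¹ • ψc) ∈ B.side0 := by
        have := (B.adj_smul k⁻¹ _ _ ac).1
        rwa [smul_mk, inv_mul_cancel, ← B.sd_base] at *
      obtain ⟨y, hy, ey⟩ := hb'
      obtain ⟨y', hy', ey'⟩ := hc'
      have hc2 := B.geom.comm_el _ _ (B.adj_smul k⁻¹ _ _ bc)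
      rw [← ey, ← ey'] at hc2
      refine B.triple y hy y' hy' (fun r => B.geom.el_ne _ _ (B.adj_smul k⁻¹ _ _ bc) (by rw [← ey, ← ey', r]))
        (B.inj (by rw [map_mul, map_mul]; exact hc2.eq)) ?_
      have hprod' : B.el (k : G ⧸ K) * (B.el ψb * B.el ψc) = g⁻¹ * B.el φ * g := by
        rw [eψ, eb, ec, ← Subgroup.coe_mul, ← Subgroup.coe_mul, ← map_mul, ← map_mul, hprod, hew]
      obtain ⟨g1, e1⟩ : ∃ g1 : G, g1 * t * g1⁻¹ = B.el φ := by
        induction φ using QuotientGroup.induction_on with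
        | H g1 => exact ⟨g1, (B.el_mk g1).symm⟩
      refine _root_.isConj_iff.2 ⟨k⁻¹ * g⁻¹ * g1, ?_⟩
      calc k⁻¹ * g⁻¹ * g1 * t * (k⁻¹ * g⁻¹ * g1)⁻¹ = k⁻¹ * (g⁻¹ * (g1 * t * g1⁻¹) * g) * k := by group
        _ = k⁻¹ * (k * t * k⁻¹ * (B.el ψb * B.el ψc)) * k := by rw [e1, ← hprod', B.el_mk]
        _ = t * (k⁻¹ * B.el ψb * k⁻¹⁻¹) * (k⁻¹ * B.el ψc * k⁻¹⁻¹) := by group
        _ = _ := by rw [← B.el_smul, ← B.el_smul, ← ey, ← ey']

end Base

end Cfsg.Agent.Fus.Fi24Rec
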