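/-
Valency and stabilisers in the graph on the components.
-/
import Cfsg.Agent.Lib.Fus.Fi24Rec.Link

set_option autoImplicit false
set_option linter.style.haveILetI false
set_option linter.unusedSectionVars false
set_option maxRecDepth 100000

open Cfsg Cfsg.Agent.Spor.ThreeTrans Cfsg.Agent.Block.FischerTypes
open Cfsg.Agent.Block.M23Up (base_fi23 tz_mem)
open Cfsg.Agent.Fus.M23U.TypeOf (classD)

namespace Cfsg.Agent.Fus.Fi24Rec

variable {G : Type*} [Group G] [Finite G] {t : G} {K : Subgroup G}

namespace Base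

variable (B : Base t K)

/-- The base vertex. -/
noncomputable def root_vert : G ⧸ B.grp := B.vert B.base

theorem root_vert_eq : B.root_vert = ((1 : G) : G ⧸ B.grp) := B.vert_mk 1

theorem smul_root_vert (g : G) : g • B.root_vert = (g : G ⧸ B.grp) := by
  rw [root_vert, ← B.vert_smul, ← B.mk_eq_smul, B.vert_mk]

theorem fix_root_vert {g : G} : g • B.root_vert = B.root_vert ↔ g ∈ B.grp := by
  rw [B.smul_root_vert, B.root_vert_eq, QuotientGroup.eq, mul_one, inv_mem_iff]

theorem comp_eq : Comp B.adj B.base = {φ | B.vert φ = B.root_vert} :=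
  Set.ext fun _ => ⟨fun h => (B.vert_eq_iff.2 h).symm, fun h => B.vert_eq_iff.1 h.symm⟩

/-- The neighbours of a vertex. -/
def nbrs (α : G ⧸ B.grp) : Set (G ⧸ B.grp) := {β | B.Linked α β}

theorem nbrs_root : B.nbrs B.root_vert = (fun φ => B.vert (B.sw φ)) '' Comp B.adj B.base := by
  rw [B.comp_eq]; rfl

theorem ncard_comp : (Comp B.adj B.base).ncard = 31671 := by
  haveI : Finite Spor.Fi23 := inferInstance
  obtain ⟨e, he⟩ := B.exists_fi23
  have h1 : compEl B.el B.adj B.base = (fun x => ((e x : ↥B.grp) : G)) '' classD := by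
    rw [← Set.image_image (fun x : ↥B.grp => (x : G)) e, he]
    ext x
    constructor
    · rintro ⟨φ, hφ, rfl⟩
      exact ⟨⟨_, el_mem B.geom hφ⟩, ⟨φ, hφ, rfl⟩, rfl⟩
    · rintro ⟨y, hy, rfl⟩
      exact hy
  have h2 := Set.ncard_image_of_injective (f := fun x => ((e x : ↥B.grp) : G)) classD
    (Subtype.val_injective.comp e.injective)
  rw [← h1, M23.total base_fi23 ⟨tz, tz_mem⟩ (M23.counts base_fi23)] at h2
  rw [← h2]
  exact ((el_injOn B.geom).ncard_image).symm

theorem ncard_nbrs (α : G ⧸ B.grp) : (B.nbrs α).ncard = 31671 := by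
  induction α using QuotientGroup.induction_on with
  | H g =>
    have h : B.nbrs (g : G ⧸ B.grp) = (g • ·) '' B.nbrs B.root_vert := by
      ext β
      constructor
      · intro h
        refine ⟨g⁻¹ • β, ?_, smul_inv_smul g β⟩
        have := B.linked_smul g⁻¹ h
        rwa [← B.smul_root_vert g, inv_smul_smul] at this
      · rintro ⟨β, hβ, rfl⟩
        rw [← B.smul_root_vert g]
        exact B.linked_smul g hβ
    rw [h, Set.ncard_image_of_injective _ (MulAction.injective g), B.nbrs_root, ← B.ncard_comp]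
    refine Set.InjOn.ncard_image fun φ hφ ψ hψ e => B.edge_inj ?_ e
    rw [B.comp_eq] at hφ hψ
    exact hφ.trans hψ.symm

/-- Only the double cover fixes both ends of the base edge. -/
theorem edge_stab {g : G} :
    g • B.root_vert = B.root_vert ∧ g • B.vert (B.sw B.base) = B.vert (B.sw B.base) ↔ g ∈ K := by
  constructor
  · rintro ⟨h1, h2⟩
    refine B.root.stab g (B.edge_inj ?_ ?_)
    · rw [B.vert_smul]; exact h1
    · rw [B.sw_smul, B.vert_smul]; exact h2
  · intro hg
    exact ⟨by rw [root_vert, ← B.vert_smul, B.root_fix hg],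
      by rw [← B.vert_smul, ← B.sw_smul, B.root_fix hg]⟩

/-- Every flag is the base moved, with the ends of its edge. -/
theorem exists_move (φ : G ⧸ K) : ∃ g : G, g • B.base = φ := by
  induction φ using QuotientGroup.induction_on with
  | H g => exact ⟨g, (B.mk_eq_smul g).symm⟩

end Base

end Cfsg.Agent.Fus.Fi24Rec
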