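/-
Fi23 at the root vertex, an element turning the base edge round, and the neighbourhood of the other end.
-/
import Cfsg.Agent.Lib.Fus.Fi24Rec.Vertex
import Cfsg.Agent.Lib.Fus.Fi24Rec.Auto

set_option autoImplicit false
set_option linter.style.haveILetI false
set_option linter.unusedSectionVars false
set_option maxRecDepth 100000

open Cfsg Cfsg.Agent.Spor.ThreeTrans Cfsg.Agent.Block.FischerTypes
open Cfsg.Agent.Block.M23Up (base_fi23 tz_mem)
open Cfsg.Agent.Fus.M23U.TypeOf (classD)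

namespace Cfsg.Agent.Fus.Fi24Rec

theorem mem_PG0_of_commute {y : Spor.Fi23} (h : Commute y tz) : y ∈ PG0 := by
  show y ∈ PerpGroup classD tz
  rw [← M23.centralizer_eq base_fi23 tz_mem]
  exact Subgroup.mem_centralizer_singleton_iff.2 h.eq

theorem side_surj (ν : MulAut ↥PG0) (hν : ∀ y ∈ side, z0 * ν y ∈ side) {x : ↥PG0} (hx : x ∈ side) :
    ∃ b ∈ side, z0 * ν b = x := by
  have hinj : Function.Injective (fun u : ↥PG0 => z0 * ν u) := fun a b h => ν.injective (mul_left_cancel h)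
  have hbij : (fun u : ↥PG0 => z0 * ν u) '' side = side :=
    Set.eq_of_subset_of_ncard_le (fun _ ⟨u, hu, e⟩ => e ▸ hν u hu)
      (Set.ncard_image_of_injective side hinj).ge side.toFinite
  exact hbij.ge hx

variable {G : Type*} [Group G] [Finite G] {t : G} {K : Subgroup G}

/-- Fi23 at the root, and an element turning the base edge round as prescribed. -/
structure GF (B : Base t K) (ι : Spor.Fi23 →* G) (n : G) (ν : MulAut ↥PG0) : Prop where
  inj : Function.Injective ι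
  range : ι.range = B.grp
  cls : ι '' classD = compEl B.el B.adj B.base
  map_tz : ι tz = t
  n_conj : n * t * n⁻¹ = t
  n_out : n ∉ K
  n_aut : ∀ y : ↥PG0, n * ι (y : Spor.Fi23) * n⁻¹ = ι (ν y : Spor.Fi23)
  swap : ∀ y ∈ side, z0 * ν y ∈ side

namespace Base

variable (B : Base t K)

theorem exists_iota : ∃ ι : Spor.Fi23 →* G, Function.Injective ι ∧ ι.range = B.grp ∧
    ι '' classD = compEl B.el B.adj B.base ∧ ι tz = t := by
  obtain ⟨e, he⟩ := B.exists_fi23
  obtain ⟨x, hx, ex⟩ := he.ge (show (⟨B.el B.base, el_mem B.geom (self_mem B.geom)⟩ : ↥B.grp) ∈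
    compD B.el B.adj B.base from ⟨_, self_mem B.geom, rfl⟩)
  obtain ⟨r, hr⟩ := transitive base_fi23.set.cls tz_mem hx
  let ι : Spor.Fi23 →* G := B.grp.subtype.comp ((MulAut.conj r).trans e).toMonoidHom
  have hinj : Function.Injective ι := Subtype.val_injective.comp ((MulAut.conj r).trans e).injective
  have hι : ∀ y, ι y = ((e (r * y * r⁻¹) : ↥B.grp) : G) := fun y => rfl
  refine ⟨ι, hinj, ?_, ?_, ?_⟩
  · ext g
    constructor
    · rintro ⟨y, rfl⟩; exact (e _).2
    · intro hg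
      exact ⟨((MulAut.conj r).trans e).symm ⟨g, hg⟩,
        congrArg Subtype.val (((MulAut.conj r).trans e).apply_symm_apply _)⟩
  · ext g
    constructor
    · rintro ⟨y, hy, rfl⟩
      exact he.le ⟨_, conj_mem base_fi23.set.cls r hy, rfl⟩
    · rintro ⟨φ, hφ, rfl⟩
      obtain ⟨y, hy, ey⟩ := he.ge (show (⟨B.el φ, el_mem B.geom hφ⟩ : ↥B.grp) ∈ compD B.el B.adj B.base from
        ⟨φ, hφ, rfl⟩)
      refine ⟨r⁻¹ * y * r⁻¹⁻¹, conj_mem base_fi23.set.cls _ hy, ?_⟩
      rw [hι, show r * (r⁻¹ * y * r⁻¹⁻¹) * r⁻¹ = y by group, ey]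
  · rw [hι, hr, ex]
    exact B.el_base

theorem iota_mem_K {ι : Spor.Fi23 →* G} (hr : ι.range = B.grp) (hinj : Function.Injective ι) (ht : ι tz = t)
    {y : Spor.Fi23} : ι y ∈ K ↔ y ∈ PG0 := by
  have hg : ι y ∈ B.grp := hr.le ⟨y, rfl⟩
  have h := cent_root B.geom B.root ⟨ι y, hg⟩
  rw [Subgroup.mem_centralizer_singleton_iff] at h
  constructor
  · intro k
    refine mem_PG0_of_commute (hinj ?_)
    have k' : ι y * B.el B.base = B.el B.base * ι y := congrArg Subtype.val (h.2 k)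
    rw [B.el_base] at k'
    rw [map_mul, map_mul, ht]
    exact k'
  · intro k
    refine h.1 (Subtype.ext ?_)
    show ι y * B.el B.base = B.el B.base * ι y
    rw [B.el_base, ← ht, ← map_mul, ← map_mul, (commute_tz ⟨y, k⟩).eq]

/-- For any exchanging automorphism there is an element turning the base edge round as it says. -/
theorem exists_GF (ν : MulAut ↥PG0) (hν : ∀ y ∈ side, z0 * ν y ∈ side) : ∃ ι n, GF B ι n ν := by
  classical
  obtain ⟨ι, hinj, hr, hcl, ht⟩ := B.exists_iota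
  have hK : ∀ k ∈ K, ∃ y ∈ PG0, ι y = k := by
    intro k hk
    obtain ⟨y, rfl⟩ := hr.ge (B.K_le_grp hk)
    exact ⟨y, (B.iota_mem_K hr hinj ht).1 hk, rfl⟩
  have hperp : ∀ y : Spor.Fi23, ι y ∈ B.side0 ↔ y ∈ perp classD tz := by
    intro y
    rw [← B.perp_comp]
    constructor
    · rintro ⟨hy, hne, hc⟩
      obtain ⟨x, hx, e⟩ := hcl.ge hy
      rw [← hinj e]
      refine ⟨hx, fun k => hne (by rw [← ht, ← e, k]), hinj ?_⟩
      rw [map_mul, map_mul, ht, e]
      exact hc.eq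
    · rintro ⟨hy, hne, hc⟩
      exact ⟨hcl.le ⟨y, hy, rfl⟩, fun k => hne (hinj (k.trans ht.symm)), ht ▸ hc.map ι⟩
  have hnorm : ∀ y : ↥PG0, ∃ y' ∈ PG0, ι y' = B.flip * ι (y : Spor.Fi23) * B.flip⁻¹ := by
    intro y
    refine hK _ ?_
    have hyK := (B.iota_mem_K hr hinj ht).2 y.2
    have hN := Subgroup.normal_of_index_eq_two B.idx
    exact hN.conj_mem ⟨_, B.le hyK⟩ hyK ⟨B.flip, B.flip_cent⟩
  choose f hf1 hf2 using hnorm
  let φ : ↥PG0 →* ↥PG0 :=
    { toFun := fun y => ⟨f y, hf1 y⟩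
      map_one' := Subtype.ext (hinj (by
        show ι (f 1) = ι ((1 : ↥PG0) : Spor.Fi23)
        rw [hf2]; simp))
      map_mul' := fun a b => Subtype.ext (hinj (by
        show ι (f (a * b)) = ι (f a * f b)
        rw [map_mul, hf2, hf2, hf2, Subgroup.coe_mul, map_mul]
        group)) }
  have hφinj : Function.Injective φ := fun a b k => Subtype.ext (hinj (by
    have := (hf2 a).symm.trans ((congrArg (fun z : ↥PG0 => ι (z : Spor.Fi23)) k).trans (hf2 b))
    exact mul_left_cancel (mul_right_cancel this)))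
  let ν0 : MulAut ↥PG0 := MulEquiv.ofBijective φ ⟨hφinj, Finite.surjective_of_injective hφinj⟩
  have hν0 : ∀ y ∈ side, z0 * ν0 y ∈ side := by
    intro y hy
    obtain ⟨y', hy', e⟩ := B.flip_spec.2 _ ((hperp y).2 hy)
    obtain ⟨w, hw, ew⟩ := hK _ (B.side_K ⟨y', hy', rfl⟩)
    have hw' : w ∈ perp classD tz := (hperp w).1 (ew ▸ ⟨y', hy', rfl⟩)
    show (z0 : Spor.Fi23) * (ν0 y : Spor.Fi23) ∈ perp classD tz
    have e2 : f y = tz * w := hinj (by rw [hf2, map_mul, ht, ew]; exact e)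
    show tz * f y ∈ _
    rw [e2, ← mul_assoc, mul_self base_fi23.set.cls.1 tz_mem, one_mul]
    exact hw'
  obtain ⟨k, hk⟩ := swap_unique ν0 ν hν0 hν
  have hkt : Commute (ι (k : Spor.Fi23)) t := ht ▸ (commute_tz k).map ι
  refine ⟨ι, B.flip * ι (k : Spor.Fi23), hinj, hr, hcl, ht, ?_, ?_, fun y => ?_, hν⟩
  · calc B.flip * ι (k : Spor.Fi23) * t * (B.flip * ι (k : Spor.Fi23))⁻¹
        = B.flip * (ι (k : Spor.Fi23) * t * (ι (k : Spor.Fi23))⁻¹) * B.flip⁻¹ := by group
      _ = _ := by rw [conj_self_eq hkt]; exact B.flip_spec.1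
  · intro h
    have := mul_mem h (inv_mem ((B.iota_mem_K hr hinj ht).2 k.2))
    rw [mul_inv_cancel_right] at this
    exact B.flip_not_mem this
  · rw [hk]
    show _ = ι (f (k * y * k⁻¹))
    rw [hf2, Subgroup.coe_mul, Subgroup.coe_mul, Subgroup.coe_inv, map_mul, map_mul, map_inv]
    group

end Base

namespace GF

variable {B : Base t K} {ι : Spor.Fi23 →* G} {n : G} {ν : MulAut ↥PG0} (F : GF B ι n ν)
include F

theorem mem_grp (y : Spor.Fi23) : ι y ∈ B.grp := F.range.le ⟨y, rfl⟩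

theorem fix_root (y : Spor.Fi23) : ι y • B.root_vert = B.root_vert := B.fix_root_vert.2 (F.mem_grp y)

theorem exists_flag {q : Spor.Fi23} (hq : q ∈ classD) : ∃ φ, B.vert φ = B.root_vert ∧ B.el φ = ι q := by
  obtain ⟨φ, hφ, e⟩ := F.cls.le ⟨q, hq, rfl⟩
  rw [B.comp_eq] at hφ
  exact ⟨φ, hφ, e⟩

theorem flag_unique {φ ψ : G ⧸ K} (h1 : B.vert φ = B.vert ψ) (h2 : B.el φ = B.el ψ) : φ = ψ :=
  B.geom.el_inj (B.vert_eq_iff.1 h1) h2

end GF

/-- The far end of the edge at the root over a member. -/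
noncomputable def far (B : Base t K) (ι : Spor.Fi23 →* G) (q : Spor.Fi23) : G ⧸ B.grp :=
  haveI : Decidable (∃ φ, B.vert φ = B.root_vert ∧ B.el φ = ι q) := _root_.Classical.propDecidable _
  if h : ∃ φ, B.vert φ = B.root_vert ∧ B.el φ = ι q then B.vert (B.sw h.choose) else B.root_vert

namespace GF

variable {B : Base t K} {ι : Spor.Fi23 →* G} {n : G} {ν : MulAut ↥PG0} (F : GF B ι n ν)
include F

theorem far_eq {q : Spor.Fi23} {φ : G ⧸ K} (h1 : B.vert φ = B.root_vert) (h2 : B.el φ = ι q) :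
    far B ι q = B.vert (B.sw φ) := by
  have h : ∃ φ, B.vert φ = B.root_vert ∧ B.el φ = ι q := ⟨φ, h1, h2⟩
  rw [far, dif_pos h, F.flag_unique (h.choose_spec.1.trans h1.symm) (h.choose_spec.2.trans h2.symm)]

theorem far_linked_root {q : Spor.Fi23} (hq : q ∈ classD) : B.Linked B.root_vert (far B ι q) := by
  obtain ⟨φ, h1, h2⟩ := F.exists_flag hq
  exact ⟨φ, h1, (F.far_eq h1 h2).symm⟩

theorem linked_root {v : G ⧸ B.grp} (h : B.Linked B.root_vert v) : ∃ q ∈ classD, v = far B ι q := by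
  obtain ⟨φ, h1, rfl⟩ := h
  have hm : B.el φ ∈ compEl B.el B.adj B.base := ⟨φ, by rw [B.comp_eq]; exact h1, rfl⟩
  obtain ⟨q, hq, e⟩ := F.cls.ge hm
  exact ⟨q, hq, (F.far_eq h1 e.symm).symm⟩

theorem far_ne_root {q : Spor.Fi23} (hq : q ∈ classD) : far B ι q ≠ B.root_vert := fun e =>
  B.not_linked_self _ (e ▸ F.far_linked_root hq)

theorem far_inj {a b : Spor.Fi23} (ha : a ∈ classD) (hb : b ∈ classD) (e : far B ι a = far B ι b) : a = b := by
  obtain ⟨φ, h1, h2⟩ := F.exists_flag ha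
  obtain ⟨ψ, k1, k2⟩ := F.exists_flag hb
  rw [F.far_eq h1 h2, F.far_eq k1 k2] at e
  exact F.inj (by rw [← h2, ← k2, B.edge_inj (h1.trans k1.symm) e])

theorem smul_far (y : Spor.Fi23) {q : Spor.Fi23} (hq : q ∈ classD) :
    ι y • far B ι q = far B ι (y * q * y⁻¹) := by
  obtain ⟨φ, h1, h2⟩ := F.exists_flag hq
  rw [F.far_eq h1 h2, ← B.vert_smul, ← B.sw_smul]
  refine (F.far_eq ?_ ?_).symm
  · rw [B.vert_smul, h1, F.fix_root]
  · rw [B.el_smul, h2, map_mul, map_mul, map_inv]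

theorem far_linked {a b : Spor.Fi23} (ha : a ∈ classD) (hb : b ∈ classD) :
    B.Linked (far B ι a) (far B ι b) ↔ a ≠ b ∧ Commute a b := by
  obtain ⟨φ, h1, h2⟩ := F.exists_flag ha
  obtain ⟨ψ, k1, k2⟩ := F.exists_flag hb
  rw [F.far_eq h1 h2, F.far_eq k1 k2, B.linked_far_iff (h1.trans k1.symm)]
  have hn := B.vert_eq_iff.1 (h1.trans k1.symm)
  constructor
  · intro k
    refine ⟨fun e => B.geom.el_ne _ _ k (by rw [h2, k2, e]), F.inj ?_⟩
    have := (B.geom.comm_el _ _ k).eq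
    rw [h2, k2] at this
    rw [map_mul, map_mul]
    exact this
  · rintro ⟨hne, hc⟩
    refine ((B.geom.commute_iff hn).1 ?_).resolve_left fun e => hne (F.inj (by rw [← h2, ← k2, e]))
    rw [h2, k2]
    exact hc.map ι

theorem far_tz : far B ι tz = B.vert (B.sw B.base) := F.far_eq rfl (B.el_base.trans F.map_tz.symm)

theorem n_base : n • B.base = B.sw B.base := by
  rcases B.flags_over (φ := B.base) (ψ := n • B.base) (by rw [B.el_smul, B.el_base, F.n_conj]) with e | e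
  · exact absurd (B.root.stab n e) F.n_out
  · exact e

theorem n_root : n • B.root_vert = far B ι tz := by
  rw [Base.root_vert, ← B.vert_smul, F.n_base, F.far_tz]

theorem n_far_tz : n • far B ι tz = B.root_vert := by
  rw [F.far_tz, ← B.vert_smul, ← B.sw_smul, F.n_base, B.sw_sw]; rfl

/-- The common neighbours of the ends of the base edge, seen from the other end. -/
theorem n_far {b : ↥PG0} (hb : b ∈ side) :
    n • far B ι (b : Spor.Fi23) = far B ι ((z0 * ν b : ↥PG0) : Spor.Fi23) := by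
  have ha := F.swap b hb
  obtain ⟨φ, h1, h2⟩ := F.exists_flag hb.1
  obtain ⟨ψ, k1, k2⟩ := F.exists_flag ha.1
  have hadj : B.adj B.base ψ := by
    refine ((B.geom.commute_iff (B.vert_eq_iff.1 (show B.vert B.base = B.vert ψ from k1.symm))).1 ?_).resolve_left
      fun e => ha.2.1 (F.inj (by rw [← k2, ← e, B.el_base, F.map_tz]))
    rw [B.el_base, k2, ← F.map_tz]
    exact ha.2.2.map ι
  obtain ⟨χ, e1, -, -, e3, e4⟩ := B.triangle hadj
  have heq : n • φ = χ := by
    refine F.flag_unique ?_ ?_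
    · rw [B.vert_smul, h1, F.n_root, F.far_tz, e3]
    · rw [B.el_smul, h2, F.n_aut, e1, B.el_base, k2, ← F.map_tz, ← map_mul]
      congr 1
      show (ν b : Spor.Fi23) = tz * (tz * (ν b : Spor.Fi23))
      rw [← mul_assoc, mul_self base_fi23.set.cls.1 tz_mem, one_mul]
  rw [F.far_eq h1 h2, F.far_eq k1 k2, ← B.vert_smul, ← B.sw_smul, heq, e4]

theorem n_smul_iota (k : ↥PG0) (v : G ⧸ B.grp) :
    ι (ν k : Spor.Fi23) • n • v = n • ι (k : Spor.Fi23) • v := by
  rw [← mul_smul, ← mul_smul, ← F.n_aut, inv_mul_cancel_right]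

theorem n_far_apart {q : Spor.Fi23} (hq : q ∈ apart classD tz) :
    n • far B ι q ≠ B.root_vert ∧ ¬ B.Linked B.root_vert (n • far B ι q) := by
  have hne : tz ≠ q := fun e => hq.2 (e ▸ Commute.refl q)
  refine ⟨fun e => hne ?_, fun h => hq.2 ?_⟩
  · rw [← F.n_far_tz, smul_left_cancel_iff] at e
    exact (F.far_inj hq.1 tz_mem e).symm
  · rw [← F.n_far_tz] at h
    have := B.linked_smul n⁻¹ h
    rw [inv_smul_smul, inv_smul_smul] at this
    exact ((F.far_linked tz_mem hq.1).1 this).2.symm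

/-- A vertex at distance two is a conjugate of one next to the other end. -/
theorem two_step {v : G ⧸ B.grp} {x : Spor.Fi23} (hx : x ∈ classD) (h : B.Linked (far B ι x) v)
    (h0 : v ≠ B.root_vert) (h1 : ¬ B.Linked B.root_vert v) :
    ∃ y, y * tz * y⁻¹ = x ∧ ∃ q ∈ apart classD tz, v = ι y • n • far B ι q := by
  obtain ⟨y, hy⟩ := transitive base_fi23.set.cls tz_mem hx
  have h' := B.linked_smul (n⁻¹ * (ι y)⁻¹) h
  rw [mul_smul, mul_smul, ← hy, ← F.smul_far y tz_mem, inv_smul_smul, inv_smul_eq_iff.2 F.n_root.symm] at h'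
  obtain ⟨q, hq, e⟩ := F.linked_root h'
  have ev : v = ι y • n • far B ι q := by rw [← e, smul_inv_smul, smul_inv_smul]
  refine ⟨y, hy, q, ⟨hq, fun hc => ?_⟩, ev⟩
  by_cases hqt : q = tz
  · rw [hqt, F.n_far_tz, F.fix_root] at ev
    exact h0 ev
  · have hmem : q ∈ perp classD tz := ⟨hq, hqt, hc.symm⟩
    rw [F.n_far (b := ⟨q, perp_mem hmem⟩) hmem, F.smul_far y (F.swap ⟨q, perp_mem hmem⟩ hmem).1] at ev
    exact h1 (ev ▸ F.far_linked_root (conj_mem base_fi23.set.cls y (F.swap ⟨q, perp_mem hmem⟩ hmem).1))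

/-- They form one orbit. -/
theorem apart_orbit {q q0 : Spor.Fi23} (hq0 : q0 ∈ apart classD tz) (hq : q ∈ apart classD tz) :
    ∃ k : ↥PG0, q = (k : Spor.Fi23) * q0 * (k : Spor.Fi23)⁻¹ ∧
      n • far B ι q = ι (ν k : Spor.Fi23) • n • far B ι q0 := by
  obtain ⟨k, hk, e⟩ := transitive_apart base_fi23.set.hyp tz_mem hq0 hq
  refine ⟨⟨k, mem_PG0_of_commute (localGroup_commute hk)⟩, e.symm, ?_⟩
  rw [F.n_smul_iota, F.smul_far _ hq0.1, e]

end GF

end Cfsg.Agent.Fus.Fi24Rec
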