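/-
Every union of components of the common perpendicular of an apart pair meets the neighbourhood of each member
outside: the count is exact whatever the size of the union.
-/
import Cfsg.Agent.Lib.Block.FischerTypes.M24Total

set_option autoImplicit false
set_option linter.style.haveILetI false
set_option linter.unusedSectionVars false

namespace Cfsg.Agent.Fus.Fi24Rec

open Cfsg Cfsg.Agent.Spor.ThreeTrans Cfsg.Agent.Block.FischerTypes
open Cfsg.Agent.Block.FischerTypes.M22 (perp_symm)
open Cfsg.Agent.Block.FischerTypes.M24 (toK card_pr card_perp card_common card_common_three mu)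

variable {G : Type*} [Group G] [Finite G] {D : Set G} (B : M24.Base D)
include B

/-- A nonempty union of components dominates. -/
theorem exists_near_part {d f w : G} (hd : d ∈ D) (hf : f ∈ D) (hdf : ¬ Commute d f) {T : Set G}
    (hT0 : T ⊆ common D d f) (hTne : T.Nonempty)
    (hTcl : ∀ a ∈ T, ∀ b ∈ common D d f, b ∈ perp D a → b ∈ T) (hw : w ∈ perp D d) (hwS : w ∉ common D d f) :
    ∃ z ∈ T, Commute z w := by
  classical
  set S := common D d f
  let S' := T.toFinite.toFinset
  set m := T.ncard with hm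
  let W' := (perp D d \ S).toFinite.toFinset
  let deg : G → ℕ := fun v => (S'.filter fun z => Commute z v).card
  let g : G → G → ℕ := fun a b => (W'.filter fun v => Commute a v ∧ Commute b v).card
  have hS' : ∀ z, z ∈ S' ↔ z ∈ T := fun z => Set.Finite.mem_toFinset _
  have hS : S'.card = m := by
    rw [hm, Set.ncard_eq_toFinset_card T T.toFinite]
  have hW : W'.card = 28431 := by
    have := Set.ncard_sdiff (show S ⊆ perp D d from Set.inter_subset_left) (Set.toFinite _)
    rw [Set.ncard_eq_toFinset_card (perp D d \ S) (perp D d \ S).toFinite, card_perp B hd,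
      mu B hd hf hdf] at this
    exact this
  have hg : ∀ a ∈ S, ∀ b, g a b = {v ∈ perp D d \ S | Commute a v ∧ Commute b v}.ncard := by
    intro a _ b
    simp only [g]
    rw [← Set.ncard_coe_finset]
    congr 1
    ext v
    simp [W']
  -- one member
  have g1 : ∀ a ∈ S, g a a = 3159 := by
    intro a ha
    have hT : (S ∩ perp D a).ncard = 351 := by
      rw [show S ∩ perp D a = common D a d ∩ perp D f by
          ext u; simp only [S, Set.mem_inter_iff]; tauto,
        card_common_three B ha.1.1 (perp_symm hd ha.1) (perp_symm hf ha.2)]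
      exact M23.mu (B.sub a ha.1.1) (pr_mem _) (pr_mem _)
        fun k => hdf (commute_of_pr B.set.cls B.set.tf ha.1.1 _ _ k)
    rw [hg a ha a, show {v ∈ perp D d \ S | Commute a v ∧ Commute a v} = common D d a \ (S ∩ perp D a) by
      ext v
      refine ⟨fun ⟨⟨hv, hvS⟩, k, _⟩ => ⟨⟨hv, hv.1, fun e => hvS (e ▸ ha), k⟩, fun k' => hvS k'.1⟩,
        fun ⟨⟨hv, hva⟩, hn⟩ => ⟨⟨hv, fun k' => hn ⟨k', hva⟩⟩, hva.2.2, hva.2.2⟩⟩,
      Set.ncard_sdiff (show S ∩ perp D a ⊆ common D d a from fun v hv => ⟨hv.1.1, hv.2⟩) (Set.toFinite _),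
      card_common B hd ha.1, hT]
  -- two members
  have key : ∀ a ∈ S, ∀ b ∈ S, a ≠ b →
      g a b + (S ∩ perp D a ∩ perp D b).ncard = (common D d a ∩ perp D b).ncard := by
    intro a ha b hb _
    rw [hg a ha b, show {v ∈ perp D d \ S | Commute a v ∧ Commute b v} =
        (common D d a ∩ perp D b) \ (S ∩ perp D a ∩ perp D b) by
      ext v
      refine ⟨fun ⟨⟨hv, hvS⟩, k, k'⟩ => ⟨⟨⟨hv, hv.1, fun e => hvS (e ▸ ha), k⟩, hv.1, fun e => hvS (e ▸ hb), k'⟩,
        fun q => hvS q.1.1⟩,
        fun ⟨⟨⟨hv, hva⟩, hvb⟩, hn⟩ => ⟨⟨hv, fun k' => hn ⟨⟨k', hva⟩, hvb⟩⟩, hva.2.2, hvb.2.2⟩⟩]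
    exact Set.ncard_sdiff_add_ncard_of_subset (fun v hv => ⟨⟨hv.1.1.1, hv.1.2⟩, hv.2⟩) (Set.toFinite _)
  have g2 : ∀ a ∈ S, ∀ b ∈ S, b ∈ perp D a → g a b = 567 := by
    intro a ha b hb hba
    have h1 := key a ha b hb (Ne.symm hba.2.1)
    have hd' := perp_symm hd ha.1
    have hf' := perp_symm hf ha.2
    have hdq := (toK B ha.1.1 hba hd').mpr (perp_symm hd hb.1)
    have hfq := (toK B ha.1.1 hba hf').mpr (perp_symm hf hb.2)
    have e1 : (S ∩ perp D a ∩ perp D b).ncard =
        (common (perpSet D a) (pr D a d hd') (pr D a b hba) ∩ perp (perpSet D a) (pr D a f hf')).ncard := by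
      refine card_pr B ha.1.1 (fun u hu => hu.1.2) (fun q hq => hq.1.1.1) fun u hu => ?_
      refine (and_congr (and_congr (toK B ha.1.1 hd' hu) (toK B ha.1.1 hba hu)) (toK B ha.1.1 hf' hu)).trans ?_
      exact ⟨fun k => ⟨⟨⟨k.1.1, k.2⟩, hu⟩, k.1.2⟩, fun k => ⟨⟨k.1.1.1, k.2⟩, k.1.1.2⟩⟩
    have e2 : (common (perpSet D a) (pr D a d hd') (pr D a b hba) ∩ perp (perpSet D a) (pr D a f hf')).ncard = 126 := by
      rw [show common (perpSet D a) (pr D a d hd') (pr D a b hba) =
        common (perpSet D a) (pr D a b hba) (pr D a d hd') from Set.inter_comm _ _,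
        M23.card_common_three (B.sub a ha.1.1) (pr_mem hba) hdq hfq]
      exact (M23.counts (B.sub a ha.1.1) _ (pr_mem hba)).apart126 _ (pr_mem _) _ (pr_mem _)
        fun k => hdf (commute_of_pr B.set.cls B.set.tf ha.1.1 hd' hf'
          (commute_of_pr (B.sub a ha.1.1).set.cls (B.sub a ha.1.1).set.tf (pr_mem hba) hdq hfq k))
    rw [e1, e2, card_common_three B hd ha.1 hb.1, M23.card_common (B.sub d hd) (pr_mem ha.1)
      ((toK B hd ha.1 hb.1).mpr hba) (M23.counts (B.sub d hd) _ (pr_mem ha.1))] at h1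
    omega
  have g3 : ∀ a ∈ S, ∀ b ∈ S, ¬ Commute a b →
      g a b + {z ∈ S ∩ perp D a | Commute b z}.ncard = 351 := by
    intro a ha b hb hab
    have h1 := key a ha b hb fun e => hab (e ▸ Commute.refl a)
    rw [card_common_three B hd ha.1 hb.1, M23.mu (B.sub d hd) (pr_mem ha.1) (pr_mem hb.1)
      fun k => hab (commute_of_pr B.set.cls B.set.tf hd ha.1 hb.1 k)] at h1
    rw [← h1, show {z ∈ S ∩ perp D a | Commute b z} = S ∩ perp D a ∩ perp D b by
      ext z
      refine ⟨fun ⟨hz, k⟩ => ⟨hz, hz.1.1.1, fun e => hab (e ▸ hz.2.2.2), k⟩, fun ⟨hz, k⟩ => ⟨hz, k.2.2⟩⟩]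
  -- sums
  have hrow : ∀ a ∈ S', ∑ b ∈ S', g a b = 351 * m := by
    intro a ha'
    have haT := (hS' a).mp ha'
    have ha := hT0 haT
    set T' := (S'.filter fun b => Commute a b).erase a
    set A' := S'.filter fun b => ¬ Commute a b
    have hT' : ∀ b, b ∈ T' ↔ b ∈ S ∩ perp D a := by
      intro b
      simp only [T', Finset.mem_erase, Finset.mem_filter, hS', Set.mem_inter_iff]
      exact ⟨fun ⟨hne, hb, k⟩ => ⟨hT0 hb, (hT0 hb).1.1, hne, k⟩,
        fun ⟨hb, k⟩ => ⟨k.2.1, hTcl a haT b hb k, k.2.2⟩⟩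
    have hTset : S ∩ perp D a = (T' : Set G) := Set.ext fun b => (hT' b).symm
    have hTc : T'.card = 351 := by
      rw [← Set.ncard_coe_finset, ← hTset,
        show S ∩ perp D a = common D a d ∩ perp D f by
          ext u; simp only [S, Set.mem_inter_iff]; tauto,
        card_common_three B ha.1.1 (perp_symm hd ha.1) (perp_symm hf ha.2)]
      exact M23.mu (B.sub a ha.1.1) (pr_mem _) (pr_mem _)
        fun k => hdf (commute_of_pr B.set.cls B.set.tf ha.1.1 _ _ k)
    have hain : a ∈ S'.filter fun b => Commute a b := by simp [ha']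
    have hAc : A'.card + 352 = m := by
      have h1 := Finset.card_filter_add_card_filter_not (s := S') (fun b => Commute a b)
      have h2 := Finset.card_erase_add_one hain
      simp only [T'] at hTc
      beta_reduce at h1 h2 hTc
      show (S'.filter fun b => ¬ Commute a b).card + 352 = m
      omega
    have hsumT : ∑ b ∈ T', g a b = 351 * 567 := by
      rw [Finset.sum_congr rfl fun b hb => g2 a ha b ((hT' b).mp hb).1 ((hT' b).mp hb).2,
        Finset.sum_const, hTc, smul_eq_mul]
    have hAset : {b ∈ T | ¬ Commute a b} = (A' : Set G) := by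
      ext b; simp [A', hS']
    have hν : ∑ b ∈ A', {z ∈ S ∩ perp D a | Commute b z}.ncard = 351 * 224 := by
      have h1 := double_count {b ∈ T | ¬ Commute a b} (S ∩ perp D a)
      have eA : {b ∈ T | ¬ Commute a b}.toFinite.toFinset = A' := by
        ext b; simp [A', hS']
      have eT : (S ∩ perp D a).toFinite.toFinset = T' := by
        ext b; rw [Set.Finite.mem_toFinset, hT']
      rw [eA, eT] at h1
      rw [h1, Finset.sum_congr rfl (fun z hz => ?_), Finset.sum_const, hTc, smul_eq_mul]
      obtain ⟨hz1, hz2⟩ := (hT' z).mp hz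
      -- neighbours of z apart from a
      have hd' := perp_symm hd ha.1
      have hf' := perp_symm hf ha.2
      have h351 : (S ∩ perp D z).ncard = 351 := by
        rw [show S ∩ perp D z = common D z d ∩ perp D f by
            ext u; simp only [S, Set.mem_inter_iff]; tauto,
          card_common_three B hz1.1.1 (perp_symm hd hz1.1) (perp_symm hf hz1.2)]
        exact M23.mu (B.sub z hz1.1.1) (pr_mem _) (pr_mem _)
          fun k => hdf (commute_of_pr B.set.cls B.set.tf hz1.1.1 _ _ k)
      have h126 : (S ∩ perp D a ∩ perp D z).ncard = 126 := by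
        have := key a ha z hz1 (Ne.symm hz2.2.1)
        rw [g2 a ha z hz1 hz2, card_common_three B hd ha.1 hz1.1,
          M23.card_common (B.sub d hd) (pr_mem ha.1) ((toK B hd ha.1 hz1.1).mpr hz2)
            (M23.counts (B.sub d hd) _ (pr_mem ha.1))] at this
        omega
      have hsplit : S ∩ perp D z = {b ∈ {b ∈ T | ¬ Commute a b} | Commute b z} ∪
          insert a (S ∩ perp D a ∩ perp D z) := by
        ext y
        simp only [Set.mem_union, Set.mem_ofPred_eq, Set.mem_insert_iff]
        constructor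
        · intro hy
          by_cases k : Commute a y
          · by_cases e : y = a
            · exact Or.inr (Or.inl e)
            · exact Or.inr (Or.inr ⟨⟨hy.1, hy.1.1.1, e, k⟩, hy.2⟩)
          · exact Or.inl ⟨⟨hTcl z (hTcl a haT z hz1 hz2) y hy.1 hy.2, k⟩, hy.2.2.2.symm⟩
        · rintro (⟨⟨hy, k⟩, kz⟩ | e | hy)
          · exact ⟨hT0 hy, (hT0 hy).1.1, fun e => k (e ▸ hz2.2.2), kz.symm⟩
          · exact e ▸ ⟨ha, perp_symm ha.1.1 hz2⟩
          · exact ⟨hy.1.1, hy.2⟩
      rw [hsplit, Set.ncard_union_eq (Set.disjoint_left.mpr ?_) (Set.toFinite _) (Set.toFinite _),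
        Set.ncard_insert_of_notMem (fun k => k.1.2.2.1 rfl) (Set.toFinite _), h126] at h351
      · omega
      · rintro y ⟨⟨-, k⟩, -⟩ (e | hy)
        exacts [k (e ▸ Commute.refl a), k hy.1.2.2.2]
    have hsumA : ∑ b ∈ A', g a b + 351 * 224 = 351 * A'.card := by
      rw [← hν, ← Finset.sum_add_distrib, Finset.sum_congr rfl fun b hb => ?_, Finset.sum_const,
        smul_eq_mul, mul_comm]
      simp only [A', Finset.mem_filter, hS'] at hb
      exact g3 a ha b (hT0 hb.1) hb.2
    have h0 := Finset.sum_filter_add_sum_filter_not S' (fun b => Commute a b) (fun b => g a b)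
    have h0' := Finset.add_sum_erase _ (fun b => g a b) hain
    simp only [T', A'] at hsumT hsumA hAc
    rw [g1 a ha] at h0'
    omega
  have hswap : ∑ v ∈ W', deg v = ∑ a ∈ S', (W'.filter fun v => Commute a v).card := by
    simp only [deg, Finset.card_filter]
    exact Finset.sum_comm
  have hsum1 : ∑ v ∈ W', deg v = m * 3159 := by
    rw [hswap, Finset.sum_congr rfl fun a ha => ?_, Finset.sum_const, hS, smul_eq_mul]
    rw [← g1 a (hT0 ((hS' a).mp ha))]
    simp [g]
  have hsum2 : ∑ v ∈ W', deg v * deg v = m * (351 * m) := by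
    have e : ∑ v ∈ W', deg v * deg v = ∑ a ∈ S', ∑ b ∈ S', g a b := by
      simp only [deg, g, Finset.card_filter, Finset.sum_mul_sum]
      rw [Finset.sum_comm]
      refine Finset.sum_congr rfl fun a _ => ?_
      rw [Finset.sum_comm]
      refine Finset.sum_congr rfl fun b _ => Finset.sum_congr rfl fun v _ => ?_
      by_cases h1 : Commute a v <;> by_cases h2 : Commute b v <;> simp [h1, h2]
    rw [e, Finset.sum_congr rfl hrow, Finset.sum_const, hS, smul_eq_mul]
  have hzero : ∑ v ∈ W', ((9 : ℤ) * deg v - m) ^ 2 = 0 := by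
    have e : ∑ v ∈ W', ((9 : ℤ) * deg v - m) ^ 2 =
        81 * ((∑ v ∈ W', deg v * deg v : ℕ) : ℤ) - 18 * (m : ℤ) * ((∑ v ∈ W', deg v : ℕ) : ℤ) +
          (m : ℤ) ^ 2 * (W'.card : ℤ) := by
      push_cast
      rw [Finset.mul_sum, Finset.mul_sum, ← Finset.sum_sub_distrib, Finset.card_eq_sum_ones, Nat.cast_sum,
        Finset.mul_sum, ← Finset.sum_add_distrib]
      exact Finset.sum_congr rfl fun v _ => by push_cast; ring
    rw [e, hsum1, hsum2, hW]
    push_cast
    ring
  have hwW : w ∈ W' := (Set.Finite.mem_toFinset _).mpr ⟨hw, hwS⟩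
  have hdeg : 9 * deg w = m := by
    have := (Finset.sum_eq_zero_iff_of_nonneg fun v _ => sq_nonneg _).mp hzero w hwW
    have := pow_eq_zero_iff (two_ne_zero) |>.mp this
    omega
  have hm0 : 0 < m := by rw [hm]; exact (Set.ncard_pos (Set.toFinite _)).2 hTne
  obtain ⟨z, hz⟩ : (S'.filter fun z => Commute z w).Nonempty := by
    rw [← Finset.card_pos]; simp only [deg] at hdeg; omega
  rw [Finset.mem_filter, hS'] at hz
  exact ⟨z, hz⟩

end Cfsg.Agent.Fus.Fi24Rec
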