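/-
The model: a transposition d, one apart from it, and Fi23 below d.
-/
import Cfsg.Agent.Lib.Fus.Fi24Rec.Dominate
import Cfsg.Agent.Lib.Fus.Fi24Rec.Auto
import Cfsg.Agent.Lib.Fus.M24U.Frame

set_option autoImplicit false
set_option linter.style.haveILetI false
set_option linter.unusedSectionVars false
set_option maxRecDepth 100000

open Cfsg Cfsg.Agent.Spor.ThreeTrans Cfsg.Agent.Block.FischerTypes
open Cfsg.Agent.Block.M23Up (base_fi23 tz_mem)
open Cfsg.Agent.Fus.M23U.TypeOf (classD range_dp)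
open Cfsg.Agent.Block.FischerTypes.M22 (perp_symm)

namespace Cfsg.Agent.Fus.Fi24Rec

variable {M : Type*} [Group M] [Finite M]

/-- A transposition, one apart, and Fi23 below the first. -/
structure MF (D : Set M) (d c : M) (L : Spor.Fi23 →* M) : Prop where
  base : M24.Base D
  dD : d ∈ D
  cD : c ∈ D
  apart : ¬ Commute d c
  inj : Function.Injective L
  comm : ∀ y, Commute (L y) d
  ne_d : ∀ y, L y ≠ d
  perp_eq : perp D d = (fun x => L x * d) '' classD
  cover : ∀ g, Commute g d → ∃ y, g = L y ∨ g = L y * d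
  tz_c : Commute (L tz * d) c

/-- The twisted member. -/
def mu' (d : M) (L : Spor.Fi23 →* M) (x : Spor.Fi23) : M := L x * d

/-- The members below whose twist commutes with the one apart. -/
def mS (d c : M) (L : Spor.Fi23 →* M) : Set Spor.Fi23 := {x | x ∈ classD ∧ Commute (mu' d L x) c}

/-- The products of two of them. -/
def mR (d c : M) (L : Spor.Fi23 →* M) : Subgroup Spor.Fi23 :=
  Subgroup.closure {y | ∃ a ∈ mS d c L, ∃ b ∈ mS d c L, y = a * b}

theorem exists_MF {D : Set M} (B : M24.Base D) (hne : D.Nonempty) : ∃ d c L, MF D d c L := by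
  obtain ⟨d, hd⟩ := hne
  obtain ⟨c, hc, hdc⟩ := B.apart_ne d hd
  obtain ⟨L, hinj, hcomm, hned, hcov, hperp⟩ := M24U.exists_lift B hd
  have hperp' : perp D d = (fun x => L x * d) '' classD := by
    rw [hperp, ← range_dp, ← Set.range_comp]; rfl
  obtain ⟨s, hs⟩ := B.meets d hd c hc hdc
  obtain ⟨x, hx, ex⟩ := hperp'.le hs.1
  obtain ⟨r, hr⟩ := transitive base_fi23.set.cls tz_mem hx
  refine ⟨d, c, L.comp (MulAut.conj r).toMonoidHom, B, hd, hc, hdc, hinj.comp (MulAut.conj r).injective,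
    fun y => hcomm _, fun y => hned _, ?_, fun g hg => ?_, ?_⟩
  · rw [hperp']
    ext v
    constructor
    · rintro ⟨z, hz, rfl⟩
      refine ⟨r⁻¹ * z * r⁻¹⁻¹, conj_mem base_fi23.set.cls _ hz, ?_⟩
      show L (r * (r⁻¹ * z * r⁻¹⁻¹) * r⁻¹) * d = L z * d
      rw [show r * (r⁻¹ * z * r⁻¹⁻¹) * r⁻¹ = z by group]
    · rintro ⟨z, hz, rfl⟩
      exact ⟨r * z * r⁻¹, conj_mem base_fi23.set.cls _ hz, rfl⟩
  · obtain ⟨y, hy⟩ := hcov g hg
    refine ⟨r⁻¹ * y * r, ?_⟩
    show g = L (r * (r⁻¹ * y * r) * r⁻¹) ∨ g = L (r * (r⁻¹ * y * r) * r⁻¹) * d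
    rw [show r * (r⁻¹ * y * r) * r⁻¹ = y by group]
    exact hy
  · show Commute (L (r * tz * r⁻¹) * d) c
    rw [hr]
    have ex' : L x * d = s := ex
    rw [ex']
    exact hs.2.2.2.symm

namespace MF

variable {D : Set M} {d c : M} {L : Spor.Fi23 →* M} (F : MF D d c L)
include F

theorem dd : d * d = 1 := mul_self F.base.set.cls.1 F.dD

theorem mem_perp {x : Spor.Fi23} (hx : x ∈ classD) : mu' d L x ∈ perp D d := by
  rw [F.perp_eq]; exact ⟨x, hx, rfl⟩

theorem mu_inj {a b : Spor.Fi23} (h : mu' d L a = mu' d L b) : a = b := F.inj (mul_right_cancel h)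

theorem mu_mul (a b : Spor.Fi23) : mu' d L a * mu' d L b = L (a * b) := by
  show L a * d * (L b * d) = _
  rw [map_mul]
  calc L a * d * (L b * d) = L a * (d * L b) * d := by simp only [mul_assoc]
    _ = _ := by rw [(F.comm b).symm.eq]; simp only [mul_assoc, F.dd, mul_one]

theorem mu_commute {a b : Spor.Fi23} : Commute (mu' d L a) (mu' d L b) ↔ Commute a b := by
  show _ = _ ↔ _ = _
  rw [F.mu_mul, F.mu_mul]
  exact ⟨fun k => F.inj k, fun k => congrArg L k⟩

theorem mu_conj (y x : Spor.Fi23) : L y * mu' d L x * (L y)⁻¹ = mu' d L (y * x * y⁻¹) := by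
  show L y * (L x * d) * (L y)⁻¹ = L (y * x * y⁻¹) * d
  rw [map_mul, map_mul, map_inv]
  calc L y * (L x * d) * (L y)⁻¹ = L y * L x * (d * (L y)⁻¹) := by simp only [mul_assoc]
    _ = _ := by rw [(F.comm y).inv_left.symm.eq]; simp only [mul_assoc]

theorem conj_d (y : Spor.Fi23) : L y * d * (L y)⁻¹ = d := conj_self_eq (F.comm y)

theorem tz_S : tz ∈ mS d c L := ⟨tz_mem, F.tz_c⟩

theorem S_sub {x : Spor.Fi23} (hx : x ∈ mS d c L) : x ∈ classD := hx.1

theorem mem_common {x : Spor.Fi23} (hx : x ∈ mS d c L) : mu' d L x ∈ common D d c :=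
  ⟨F.mem_perp hx.1, (F.mem_perp hx.1).1, fun e => F.apart (e ▸ (F.mem_perp hx.1).2.2), hx.2.symm⟩

theorem common_eq : common D d c = mu' d L '' mS d c L := by
  ext v
  constructor
  · intro hv
    obtain ⟨x, hx, rfl⟩ := F.perp_eq.le hv.1
    exact ⟨x, ⟨hx, hv.2.2.2.symm⟩, rfl⟩
  · rintro ⟨x, hx, rfl⟩
    exact F.mem_common hx

theorem mu_perp {a : Spor.Fi23} (ha : a ∈ classD) {b : Spor.Fi23} :
    mu' d L b ∈ perp D (mu' d L a) ∧ b ∈ classD ↔ b ∈ perp classD a := by
  constructor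
  · rintro ⟨h, hb⟩
    exact ⟨hb, fun e => h.2.1 (e ▸ rfl), F.mu_commute.1 h.2.2⟩
  · intro h
    exact ⟨⟨(F.mem_perp h.1).1, fun e => h.2.1 (F.mu_inj e), F.mu_commute.2 h.2.2⟩, h.1⟩

theorem card_nbrs {a : Spor.Fi23} (ha : a ∈ mS d c L) : (mS d c L ∩ perp classD a).ncard = 351 := by
  rw [← ThreeA.M24.card_T F.base F.dD F.cD F.apart (F.mem_common ha),
    ← Set.ncard_image_of_injective (mS d c L ∩ perp classD a) (fun _ _ h => F.mu_inj h)]
  congr 1
  ext v
  constructor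
  · rintro ⟨b, hb, rfl⟩
    exact ⟨F.mem_common hb.1, ((F.mu_perp ha.1).2 hb.2).1⟩
  · rintro ⟨hv, hp⟩
    obtain ⟨b, hb, rfl⟩ := F.common_eq.le hv
    exact ⟨b, ⟨hb, (F.mu_perp ha.1).1 ⟨hp, hb.1⟩⟩, rfl⟩

theorem card_shared {a b : Spor.Fi23} (ha : a ∈ mS d c L) (hb : b ∈ mS d c L) (hab : b ∈ perp classD a) :
    (mS d c L ∩ perp classD a ∩ perp classD b).ncard = 126 := by
  have B := F.base
  have ha' := F.mem_common ha
  have hb' := F.mem_common hb
  have hba := ((F.mu_perp ha.1).2 hab).1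
  have hd' := perp_symm F.dD ha'.1
  have hf' := perp_symm F.cD ha'.2
  have hdq := (M24.toK B ha'.1.1 hba hd').mpr (perp_symm F.dD hb'.1)
  have hfq := (M24.toK B ha'.1.1 hba hf').mpr (perp_symm F.cD hb'.2)
  rw [← (M23.counts (B.sub _ ha'.1.1) _ (pr_mem hba)).apart126 _ (pr_mem hdq) _ (pr_mem hfq)
      (fun k => F.apart (commute_of_pr B.set.cls B.set.tf ha'.1.1 hd' hf'
        (commute_of_pr (B.sub _ ha'.1.1).set.cls (B.sub _ ha'.1.1).set.tf (pr_mem hba) hdq hfq k))),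
    ← M23.card_common_three (B.sub _ ha'.1.1) (pr_mem hba) hdq hfq,
    ← Set.ncard_image_of_injective (mS d c L ∩ perp classD a ∩ perp classD b) (fun _ _ h => F.mu_inj h),
    show mu' d L '' (mS d c L ∩ perp classD a ∩ perp classD b) =
      common D d c ∩ perp D (mu' d L a) ∩ perp D (mu' d L b) by
      ext v
      constructor
      · rintro ⟨x, hx, rfl⟩
        exact ⟨⟨F.mem_common hx.1.1, ((F.mu_perp ha.1).2 hx.1.2).1⟩, ((F.mu_perp hb.1).2 hx.2).1⟩
      · rintro ⟨⟨hv, hp⟩, hq⟩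
        obtain ⟨x, hx, rfl⟩ := F.common_eq.le hv
        exact ⟨x, ⟨⟨hx, (F.mu_perp ha.1).1 ⟨hp, hx.1⟩⟩, (F.mu_perp hb.1).1 ⟨hq, hx.1⟩⟩, rfl⟩]
  refine M24.card_pr B ha'.1.1 (fun u hu => hu.1.2) (fun q hq => hq.1.1.1) fun u hu => ?_
  exact ⟨fun k => ⟨⟨⟨(M24.toK B ha'.1.1 hd' hu).mp k.1.2, (M24.toK B ha'.1.1 hf' hu).mp k.2⟩, hu⟩,
      (M24.toK B ha'.1.1 hba hu).mp k.1.1⟩,
    fun k => ⟨⟨(M24.toK B ha'.1.1 hba hu).mpr k.2, (M24.toK B ha'.1.1 hd' hu).mpr k.1.1.1⟩,
      (M24.toK B ha'.1.1 hf' hu).mpr k.1.1.2⟩⟩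

theorem exists_nbr {a : Spor.Fi23} (ha : a ∈ mS d c L) : ∃ b ∈ mS d c L, b ∈ perp classD a := by
  obtain ⟨b, hb⟩ := Set.nonempty_of_ncard_ne_zero (s := mS d c L ∩ perp classD a) (by rw [F.card_nbrs ha]; omega)
  exact ⟨b, hb.1, hb.2⟩

/-- A union of components dominates. -/
theorem dominate {T : Set Spor.Fi23} (hT : T ⊆ mS d c L) (hne : T.Nonempty)
    (hcl : ∀ a ∈ T, ∀ b ∈ mS d c L, Commute a b → b ∈ T) {x : Spor.Fi23} (hx : x ∈ classD)
    (hxS : x ∉ mS d c L) : ∃ a ∈ T, Commute a x := by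
  obtain ⟨_, ⟨a, ha, rfl⟩, k⟩ := exists_near_part F.base F.dD F.cD F.apart (T := mu' d L '' T)
    (fun _ ⟨a, ha, e⟩ => e ▸ F.mem_common (hT ha)) (hne.image _)
    (by
      rintro _ ⟨a, ha, rfl⟩ v hv hva
      obtain ⟨b, hb, rfl⟩ := F.common_eq.le hv
      exact ⟨b, hcl a ha b hb (F.mu_commute.1 hva.2.2), rfl⟩)
    (F.mem_perp hx) (fun k => hxS ⟨hx, k.2.2.2.symm⟩)
  exact ⟨a, ha, F.mu_commute.1 k⟩

theorem dominate_all {x : Spor.Fi23} (hx : x ∈ classD) : ∃ a ∈ mS d c L, Commute a x := by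
  by_cases h : x ∈ mS d c L
  · exact ⟨x, h, Commute.refl x⟩
  · exact F.dominate subset_rfl ⟨tz, F.tz_S⟩ (fun _ _ b hb _ => hb) hx h

/-- A member apart from `d` next to the one apart meets a twisted member next to both. -/
theorem apart_near {v : M} (hv : v ∈ D) (hvc : Commute c v) :
    ∃ a ∈ mS d c L, Commute (mu' d L a) v := by
  by_cases e : v = c
  · exact ⟨tz, F.tz_S, e ▸ F.tz_c⟩
  obtain ⟨z, hz, k⟩ := M24.exists_near F.base F.cD F.dD (fun k => F.apart k.symm)
    (show v ∈ perp D c from ⟨hv, e, hvc⟩)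
  obtain ⟨a, ha, rfl⟩ := F.common_eq.le ⟨hz.2, hz.1⟩
  exact ⟨a, ha, k⟩

theorem tz_mul_self : tz * tz = 1 := mul_self base_fi23.set.cls.1 tz_mem

theorem pair_mem {a b : Spor.Fi23} (ha : a ∈ mS d c L) (hb : b ∈ mS d c L) : a * b ∈ mR d c L :=
  Subgroup.subset_closure ⟨a, ha, b, hb, rfl⟩

theorem tz_conj_mem {y : Spor.Fi23} (hy : y ∈ mR d c L) : tz * y * tz ∈ mR d c L := by
  induction hy using Subgroup.closure_induction with
  | mem y hy =>
    obtain ⟨a, ha, b, hb, rfl⟩ := hy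
    rw [show tz * (a * b) * tz = tz * a * (b * tz) by simp only [mul_assoc]]
    exact mul_mem (F.pair_mem F.tz_S ha) (F.pair_mem hb F.tz_S)
  | one => rw [mul_one, F.tz_mul_self]; exact one_mem _
  | mul a b _ _ ia ib =>
    have := mul_mem ia ib
    rwa [show tz * a * tz * (tz * b * tz) = tz * a * (tz * tz) * b * tz by simp only [mul_assoc],
      F.tz_mul_self, mul_one, show tz * a * b * tz = tz * (a * b) * tz by simp only [mul_assoc]] at this
  | inv a _ ia =>
    have := inv_mem ia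
    rwa [mul_inv_rev, mul_inv_rev, inv_eq_of_mul_eq_one_right F.tz_mul_self, ← mul_assoc] at this

theorem not_tz_commute : ¬ Commute (L tz) c := fun k => F.apart (by
  have := (k.inv_left.mul_left F.tz_c)
  rwa [show (L tz)⁻¹ * (L tz * d) = d by group] at this)

/-- What fixes the one apart is a product of pairs. -/
theorem stab_iff {y : Spor.Fi23} : Commute (L y) c ↔ y ∈ mR d c L := by
  constructor
  · intro hy
    have hmem : L y ∈ Subgroup.closure (common D d c) := by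
      rw [M24U.pair_group F.base F.dD F.cD F.apart]
      refine Subgroup.mem_centralizer_iff.2 ?_
      rintro z (rfl | rfl)
      exacts [(F.comm y).symm, hy.symm]
    have key : ∀ z ∈ Subgroup.closure (common D d c),
        ∃ r ∈ mR d c L, z = L r ∨ z = mu' d L (r * tz) := by
      intro z hz
      induction hz using Subgroup.closure_induction with
      | mem v hv =>
        obtain ⟨a, ha, rfl⟩ := F.common_eq.le hv
        exact ⟨a * tz, F.pair_mem ha F.tz_S, Or.inr (by rw [mul_assoc, F.tz_mul_self, mul_one])⟩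
      | one => exact ⟨1, one_mem _, Or.inl (map_one L).symm⟩
      | mul a b _ _ ia ib =>
        obtain ⟨r, hr, ea⟩ := ia
        obtain ⟨r', hr', eb⟩ := ib
        rcases ea with rfl | rfl <;> rcases eb with rfl | rfl
        · exact ⟨r * r', mul_mem hr hr', Or.inl (map_mul L r r').symm⟩
        · refine ⟨r * r', mul_mem hr hr', Or.inr ?_⟩
          show L r * (L (r' * tz) * d) = L (r * r' * tz) * d
          rw [← mul_assoc, ← map_mul, ← mul_assoc]
        · refine ⟨r * (tz * r' * tz), mul_mem hr (F.tz_conj_mem hr'), Or.inr ?_⟩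
          show L (r * tz) * d * L r' = L (r * (tz * r' * tz) * tz) * d
          rw [mul_assoc, (F.comm r').symm.eq, ← mul_assoc, ← map_mul,
            show r * (tz * r' * tz) * tz = r * tz * r' * (tz * tz) by simp only [mul_assoc], F.tz_mul_self, mul_one]
        · refine ⟨r * (tz * r' * tz), mul_mem hr (F.tz_conj_mem hr'), Or.inl ?_⟩
          rw [F.mu_mul]
          congr 1
          simp only [mul_assoc]
      | inv a _ ia =>
        obtain ⟨r, hr, ea⟩ := ia
        rcases ea with rfl | rfl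
        · exact ⟨r⁻¹, inv_mem hr, Or.inl (map_inv L r).symm⟩
        · refine ⟨tz * r⁻¹ * tz, F.tz_conj_mem (inv_mem hr), Or.inr ?_⟩
          refine inv_eq_of_mul_eq_one_right ?_
          rw [F.mu_mul, show r * tz * (tz * r⁻¹ * tz * tz) = r * (tz * tz) * r⁻¹ * (tz * tz) by
            simp only [mul_assoc], F.tz_mul_self, mul_one, mul_one, mul_inv_cancel, map_one]
    obtain ⟨r, hr, e | e⟩ := key _ hmem
    · rwa [F.inj e]
    · exfalso
      refine F.ne_d ((r * tz)⁻¹ * y) ?_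
      rw [map_mul, map_inv, e]
      show (L (r * tz))⁻¹ * (L (r * tz) * d) = d
      group
  · intro hy
    suffices h : mR d c L ≤ (Subgroup.centralizer ({c} : Set M)).comap L from
      Subgroup.mem_centralizer_singleton_iff.1 (h hy)
    refine (Subgroup.closure_le _).2 ?_
    rintro _ ⟨a, ha, b, hb, rfl⟩
    refine Subgroup.mem_centralizer_singleton_iff.2 ?_
    rw [← F.mu_mul]
    exact (ha.2.mul_left hb.2).eq

theorem tz_not_R : tz ∉ mR d c L := fun k => F.not_tz_commute (F.stab_iff.2 k)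

theorem S_conj {y : Spor.Fi23} (hy : y ∈ mR d c L) {x : Spor.Fi23} (hx : x ∈ mS d c L) :
    y * x * y⁻¹ ∈ mS d c L := by
  refine ⟨conj_mem base_fi23.set.cls y hx.1, ?_⟩
  rw [← F.mu_conj]
  have := (commute_conj_iff (L y) _ _).2 hx.2
  rwa [conj_self_eq (F.stab_iff.2 hy)] at this

theorem tz_conj_c : L tz * c * (L tz)⁻¹ = d * c * d := by
  have e : L tz = mu' d L tz * d := by show L tz = L tz * d * d; rw [mul_assoc, F.dd, mul_one]
  have hc : Commute (mu' d L tz) c := F.tz_c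
  have hd : Commute d (mu' d L tz) := (F.mem_perp tz_mem).2.2
  have hmu : mu' d L tz * mu' d L tz = 1 := mul_self F.base.set.cls.1 (F.mem_perp tz_mem).1
  rw [e, ← hd.eq, mul_inv_rev, inv_eq_of_mul_eq_one_right F.dd, inv_eq_of_mul_eq_one_right hmu]
  calc d * mu' d L tz * c * (mu' d L tz * d) = d * (mu' d L tz * c * mu' d L tz) * d := by simp only [mul_assoc]
    _ = _ := by rw [hc.eq, mul_assoc c, hmu, mul_one]

/-- At most two classes have the same set. -/
theorem same_set {h : Spor.Fi23} (hS : ∀ x ∈ mS d c L, h⁻¹ * x * h ∈ mS d c L) :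
    h ∈ mR d c L ∨ h * tz ∈ mR d c L := by
  have hdD := F.dD
  have hv : L h * c * (L h)⁻¹ ∈ D := conj_mem F.base.set.cls _ F.cD
  have hall : ∀ y ∈ common D d c, Commute (L h * c * (L h)⁻¹) y := by
    intro y hy
    obtain ⟨x, hx, rfl⟩ := F.common_eq.le hy
    have k := (commute_conj_iff (L h) _ _).2 (hS x hx).2.symm
    rw [F.mu_conj, show h * (h⁻¹ * x * h) * h⁻¹ = x by group] at k
    exact k
  rcases ThreeA.M24.pin F.base F.dD F.cD F.apart _ hv hall with e | e | e
  · exfalso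
    refine F.apart ?_
    have e' : c = (L h)⁻¹ * d * L h := by rw [← e]; group
    rw [e', show (L h)⁻¹ * d * L h = d by rw [mul_assoc, ← (F.comm h).eq, ← mul_assoc, inv_mul_cancel, one_mul]]
  · exact Or.inl (F.stab_iff.1 (mul_inv_eq_iff_eq_mul.1 e))
  · refine Or.inr (F.stab_iff.1 (mul_inv_eq_iff_eq_mul.1 ?_))
    rw [map_mul, mul_inv_rev]
    calc L h * L tz * c * ((L tz)⁻¹ * (L h)⁻¹) = L h * (L tz * c * (L tz)⁻¹) * (L h)⁻¹ := by simp only [mul_assoc]
      _ = L h * d * c * (d * (L h)⁻¹) := by rw [F.tz_conj_c]; simp only [mul_assoc]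
      _ = d * (L h * c * (L h)⁻¹) * d := by
        rw [(F.comm h).eq, ← (F.comm h).inv_left.eq]; simp only [mul_assoc]
      _ = c := by
        rw [e, show d * (d * c * d) * d = (d * d) * c * (d * d) by simp only [mul_assoc], F.dd, one_mul, mul_one]

/-- An element exchanging `d` with the twisted centre. -/
theorem exists_swap : ∃ g : M, g * d * g⁻¹ = mu' d L tz ∧ g * mu' d L tz * g⁻¹ = d := by
  have he := F.mem_perp tz_mem
  obtain ⟨g, hg⟩ := transitive F.base.set.cls F.dD he.1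
  have h1 : g * mu' d L tz * g⁻¹ ∈ perp D (mu' d L tz) := by
    refine ⟨conj_mem F.base.set.cls g he.1, fun k => ?_, ?_⟩
    · exact he.2.1 (mul_left_cancel (mul_right_cancel (k.trans hg.symm)))
    · have := (commute_conj_iff g _ _).2 he.2.2
      rwa [hg] at this
  obtain ⟨k, hk, ek⟩ := transitive_perp F.base.set.hyp he.1 h1 (perp_symm F.dD he)
  have hkc : Commute k (mu' d L tz) := M22.commute_self hk
  refine ⟨k * g, ?_, ?_⟩
  · calc k * g * d * (k * g)⁻¹ = k * (g * d * g⁻¹) * k⁻¹ := by group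
      _ = _ := by rw [hg]; exact conj_self_eq hkc
  · calc k * g * mu' d L tz * (k * g)⁻¹ = k * (g * mu' d L tz * g⁻¹) * k⁻¹ := by group
      _ = _ := ek

/-- It induces an automorphism of 2.Fi22 exchanging the classes. -/
theorem swap_aut {g : M} (g1 : g * d * g⁻¹ = mu' d L tz) (g2 : g * mu' d L tz * g⁻¹ = d) :
    ∃ ν : MulAut ↥PG0, (∀ y : ↥PG0, g * L (y : Spor.Fi23) * g⁻¹ = L (ν y : Spor.Fi23)) ∧
      ∀ y ∈ side, z0 * ν y ∈ side := by
  have gen : ∀ x ∈ perp classD tz, ∃ x' ∈ perp classD tz, g * L x * g⁻¹ = L (tz * x') := by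
    intro x hx
    have hu := F.mem_perp hx.1
    have hue : mu' d L x ∈ perp D (mu' d L tz) := ((F.mu_perp tz_mem).2 hx).1
    have hv : g * mu' d L x * g⁻¹ ∈ perp D d := by
      refine ⟨conj_mem F.base.set.cls g hu.1, fun k => ?_, ?_⟩
      · refine hue.2.1 (mul_left_cancel (mul_right_cancel (k.trans g2.symm)))
      · have := (commute_conj_iff g _ _).2 hue.2.2
        rwa [g2] at this
    obtain ⟨x', hx', e⟩ := F.perp_eq.le hv
    have e' : mu' d L x' = g * mu' d L x * g⁻¹ := e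
    have hc' : Commute (mu' d L tz) (mu' d L x') := by
      rw [e', ← g1]; exact (commute_conj_iff g _ _).2 hu.2.2
    refine ⟨x', ⟨hx', fun k => hu.2.1 ?_, F.mu_commute.1 hc'⟩, ?_⟩
    · subst k
      exact mul_left_cancel (mul_right_cancel (e'.symm.trans g1.symm))
    · calc g * L x * g⁻¹ = g * mu' d L x * g⁻¹ * (g * d * g⁻¹) := by
            show _ = g * (L x * d) * g⁻¹ * (g * d * g⁻¹)
            rw [show g * (L x * d) * g⁻¹ * (g * d * g⁻¹) = g * (L x * (d * d)) * g⁻¹ by group, F.dd, mul_one]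
        _ = mu' d L tz * mu' d L x' := by rw [← e', g1, hc'.eq]
        _ = _ := F.mu_mul _ _
  have hz : ∀ y ∈ PG0, ∃ y' ∈ PG0, g * L y * g⁻¹ = L y' := by
    intro y hy
    induction hy using Subgroup.closure_induction with
    | mem x hx =>
      obtain ⟨x', hx', e⟩ := gen x hx
      exact ⟨_, mul_mem pg0_self (perp_mem hx'), e⟩
    | one => exact ⟨1, one_mem _, by simp⟩
    | mul a b _ _ ia ib =>
      obtain ⟨a', ha', ea⟩ := ia
      obtain ⟨b', hb', eb⟩ := ib
      exact ⟨a' * b', mul_mem ha' hb', by rw [map_mul, map_mul, ← ea, ← eb]; group⟩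
    | inv a _ ia =>
      obtain ⟨a', ha', ea⟩ := ia
      exact ⟨a'⁻¹, inv_mem ha', by rw [map_inv, map_inv, ← ea]; group⟩
  choose f hf1 hf2 using hz
  let φ : ↥PG0 →* ↥PG0 :=
    { toFun := fun y => ⟨f y y.2, hf1 y y.2⟩
      map_one' := Subtype.ext (F.inj (by
        rw [← hf2]
        show g * L (1 : Spor.Fi23) * g⁻¹ = L (1 : Spor.Fi23)
        simp))
      map_mul' := fun a b => Subtype.ext (F.inj (by
        show L (f _ (a * b).2) = L (f _ a.2 * f _ b.2)
        rw [map_mul, ← hf2, ← hf2, ← hf2, Subgroup.coe_mul, map_mul]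
        group)) }
  have hφ : ∀ y : ↥PG0, g * L (y : Spor.Fi23) * g⁻¹ = L (φ y : Spor.Fi23) := fun y => hf2 y y.2
  have hinj : Function.Injective φ := fun a b k => Subtype.ext (F.inj (by
    have := (hφ a).trans ((congrArg (fun z : ↥PG0 => L (z : Spor.Fi23)) k).trans (hφ b).symm)
    exact mul_left_cancel (mul_right_cancel this)))
  refine ⟨MulEquiv.ofBijective φ ⟨hinj, Finite.surjective_of_injective hinj⟩, hφ, fun y hy => ?_⟩
  obtain ⟨x', hx', e⟩ := gen y hy
  show (z0 : Spor.Fi23) * (φ y : Spor.Fi23) ∈ perp classD tz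
  rw [F.inj ((hφ y).symm.trans e), ← mul_assoc]
  show tz * tz * x' ∈ _
  rwa [F.tz_mul_self, one_mul]

end MF

end Cfsg.Agent.Fus.Fi24Rec
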