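/-
The neighbourhood of an edge matched with the model, and the members next to one vertex at distance two.
-/
import Cfsg.Agent.Lib.Fus.Fi24Rec.Frame
import Cfsg.Agent.Lib.Fus.Fi24Rec.Model
import Cfsg.Agent.Lib.Fus.ThreeA.M23

set_option autoImplicit false
set_option linter.style.haveILetI false
set_option linter.unusedSectionVars false
set_option maxRecDepth 100000

open Cfsg Cfsg.Agent.Spor.ThreeTrans Cfsg.Agent.Block.FischerTypes
open Cfsg.Agent.Block.M23Up (base_fi23 tz_mem)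
open Cfsg.Agent.Fus.M23U.TypeOf (classD)
open Cfsg.Agent.Block.FischerTypes.M22 (perp_symm)

namespace Cfsg.Agent.Fus.Fi24Rec

variable {G : Type*} [Group G] [Finite G] {t : G} {K : Subgroup G} {M : Type*} [Group M] [Finite M]

/-- The group, the model, and the two elements turning the edge round alike. -/
structure Matching (B : Base t K) (ι : Spor.Fi23 →* G) (n : G) (D : Set M) (d c : M) (L : Spor.Fi23 →* M) (g : M)
    (ν : MulAut ↥PG0) (q0 : Spor.Fi23) : Prop where
  gf : GF B ι n ν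
  mf : MF D d c L
  g_d : g * d * g⁻¹ = mu' d L tz
  g_e : g * mu' d L tz * g⁻¹ = d
  g_aut : ∀ y : ↥PG0, g * L (y : Spor.Fi23) * g⁻¹ = L (ν y : Spor.Fi23)
  q0_mem : q0 ∈ apart classD tz
  q0_c : g * mu' d L q0 * g⁻¹ = c

/-- The vertex at distance two. -/
noncomputable def gam (B : Base t K) (ι : Spor.Fi23 →* G) (n : G) (q0 : Spor.Fi23) : G ⧸ B.grp := n • far B ι q0

/-- The members whose edge leads next to it. -/
def mP (B : Base t K) (ι : Spor.Fi23 →* G) (n : G) (q0 : Spor.Fi23) : Set Spor.Fi23 :=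
  {x | x ∈ classD ∧ B.Linked (far B ι x) (gam B ι n q0)}

theorem exists_q0 {D : Set M} {d c : M} {L : Spor.Fi23 →* M} (F : MF D d c L) {g : M}
    (g1 : g * d * g⁻¹ = mu' d L tz) (g2 : g * mu' d L tz * g⁻¹ = d) :
    ∃ q ∈ apart classD tz, g * mu' d L q * g⁻¹ = c := by
  have h := F.base.set.cls
  have he := F.mem_perp tz_mem
  have hv : g⁻¹ * c * g⁻¹⁻¹ ∈ perp D d := by
    refine ⟨conj_mem h _ F.cD, fun k => ?_, ?_⟩
    · have e : c = mu' d L tz := by
        rw [← g1]
        calc c = g * (g⁻¹ * c * g⁻¹⁻¹) * g⁻¹ := by group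
          _ = _ := by rw [k]
      exact F.apart (e ▸ he.2.2)
    · refine (commute_conj_iff g _ _).1 ?_
      rw [g1, show g * (g⁻¹ * c * g⁻¹⁻¹) * g⁻¹ = c by group]
      exact F.tz_c
  obtain ⟨q, hq, e⟩ := F.perp_eq.le hv
  have e' : g * mu' d L q * g⁻¹ = c := by
    show g * (L q * d) * g⁻¹ = c
    have e2 : L q * d = g⁻¹ * c * g⁻¹⁻¹ := e
    rw [e2]; group
  refine ⟨q, ⟨hq, fun k => F.apart ?_⟩, e'⟩
  have := (commute_conj_iff g _ _).2 (F.mu_commute.2 k.symm)
  rwa [g2, e'] at this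

/-- There is a matching with the model. -/
theorem exists_matching (B : Base t K) {D : Set M} {d c : M} {L : Spor.Fi23 →* M} (F : MF D d c L) :
    ∃ ι n g ν q0, Matching B ι n D d c L g ν q0 := by
  obtain ⟨g, g1, g2⟩ := F.exists_swap
  obtain ⟨ν, hν1, hν2⟩ := F.swap_aut g1 g2
  obtain ⟨ι, n, hGF⟩ := B.exists_GF ν hν2
  obtain ⟨q, hq, e⟩ := exists_q0 F g1 g2
  exact ⟨ι, n, g, ν, q, hGF, F, g1, g2, hν1, hq, e⟩

namespace Matching

variable {B : Base t K} {ι : Spor.Fi23 →* G} {n : G} {D : Set M} {d c : M} {L : Spor.Fi23 →* M} {g : M}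
  {ν : MulAut ↥PG0} {q0 : Spor.Fi23} (T : Matching B ι n D d c L g ν q0)
include T

theorem g_mu (b : ↥PG0) :
    g * mu' d L (b : Spor.Fi23) * g⁻¹ = mu' d L ((z0 * ν b : ↥PG0) : Spor.Fi23) := by
  calc g * (L (b : Spor.Fi23) * d) * g⁻¹ = g * L (b : Spor.Fi23) * g⁻¹ * (g * d * g⁻¹) := by group
    _ = L (ν b : Spor.Fi23) * (L tz * d) := by rw [T.g_aut, T.g_d]; rfl
    _ = _ := by
      rw [← mul_assoc, ← map_mul]
      show L ((ν b : Spor.Fi23) * tz) * d = L (tz * (ν b : Spor.Fi23)) * d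
      rw [(commute_tz (ν b)).eq]

theorem g_conj_L (k : ↥PG0) (v : M) :
    L (ν k : Spor.Fi23) * (g * v * g⁻¹) * (L (ν k : Spor.Fi23))⁻¹ =
      g * (L (k : Spor.Fi23) * v * (L (k : Spor.Fi23))⁻¹) * g⁻¹ := by
  rw [← T.g_aut]; group

/-- Next to the far end the two sides agree. -/
theorem local_iff {q x : Spor.Fi23} (hq : q ∈ apart classD tz) (hx : x ∈ perp classD tz) :
    B.Linked (far B ι x) (n • far B ι q) ↔ Commute (mu' d L x) (g * mu' d L q * g⁻¹) := by
  obtain ⟨b, hb, eb⟩ := side_surj ν T.gf.swap (x := ⟨x, perp_mem hx⟩) hx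
  have ex : ((z0 * ν b : ↥PG0) : Spor.Fi23) = x := congrArg Subtype.val eb
  have hne : (b : Spor.Fi23) ≠ q := fun e => hq.2 (e ▸ hb.2.2).symm
  rw [← ex, ← T.g_mu b, ← T.gf.n_far hb, commute_conj_iff, T.mf.mu_commute]
  constructor
  · intro h
    have := B.linked_smul n⁻¹ h
    rw [inv_smul_smul, inv_smul_smul] at this
    exact ((T.gf.far_linked hb.1 hq.1).1 this).2
  · intro h
    exact B.linked_smul n ((T.gf.far_linked hb.1 hq.1).2 ⟨hne, h⟩)

theorem linked_tz {q : Spor.Fi23} (hq : q ∈ classD) : B.Linked (far B ι tz) (n • far B ι q) := by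
  rw [← T.gf.n_root]; exact B.linked_smul n (T.gf.far_linked_root hq)

theorem gam_ne_root : gam B ι n q0 ≠ B.root_vert := (T.gf.n_far_apart T.q0_mem).1

theorem gam_not_linked : ¬ B.Linked B.root_vert (gam B ι n q0) := (T.gf.n_far_apart T.q0_mem).2

theorem tz_P : tz ∈ mP B ι n q0 := ⟨tz_mem, T.linked_tz T.q0_mem.1⟩

theorem base_agree {x : Spor.Fi23} (hx : x ∈ perp classD tz) : x ∈ mP B ι n q0 ↔ x ∈ mS d c L := by
  have h := T.local_iff T.q0_mem hx
  rw [T.q0_c] at h
  exact and_congr_right fun _ => h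

/-- At a member next to the vertex both sides are given by members apart from the centre. -/
theorem coords {z : Spor.Fi23} (hP : z ∈ mP B ι n q0) :
    ∃ y, y * tz * y⁻¹ = z ∧ ∃ q ∈ apart classD tz, ∀ b : ↥PG0, b ∈ side →
      (y * ((z0 * ν b : ↥PG0) : Spor.Fi23) * y⁻¹ ∈ mP B ι n q0 ↔ Commute (b : Spor.Fi23) q) := by
  obtain ⟨y, hy, q, hq, ev⟩ := T.gf.two_step hP.1 hP.2 T.gam_ne_root T.gam_not_linked
  refine ⟨y, hy, q, hq, fun b hb => ?_⟩
  have hx := T.gf.swap b hb
  rw [← T.mf.mu_commute (a := (b : Spor.Fi23)) (b := q), ← commute_conj_iff g, T.g_mu,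
    ← T.local_iff hq hx]
  constructor
  · intro h
    have h2 := h.2
    rw [← T.gf.smul_far y hx.1, show gam B ι n q0 = ι y • n • far B ι q from ev] at h2
    have := B.linked_smul (ι y)⁻¹ h2
    rwa [inv_smul_smul, inv_smul_smul] at this
  · intro h
    refine ⟨conj_mem base_fi23.set.cls y hx.1, ?_⟩
    rw [← T.gf.smul_far y hx.1, show gam B ι n q0 = ι y • n • far B ι q from ev]
    exact B.linked_smul _ h

theorem model_coords {y : Spor.Fi23} (hS : y * tz * y⁻¹ ∈ mS d c L) :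
    ∃ q ∈ apart classD tz, ∀ b : ↥PG0, b ∈ side →
      (y * ((z0 * ν b : ↥PG0) : Spor.Fi23) * y⁻¹ ∈ mS d c L ↔ Commute (b : Spor.Fi23) q) := by
  have h := T.mf.base.set.cls
  set c' := (L y)⁻¹ * c * L y with hc'
  have ec : L y * c' * (L y)⁻¹ = c := by rw [hc']; group
  have hk : Commute (mu' d L tz) c' := (commute_conj_iff (L y) _ _).1 (by
    rw [T.mf.mu_conj, ec]; exact hS.2)
  have hv : g⁻¹ * c' * g⁻¹⁻¹ ∈ perp D d := by
    have hcD : c' ∈ D := by
      have := conj_mem h (L y)⁻¹ T.mf.cD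
      rwa [inv_inv] at this
    refine ⟨conj_mem h _ hcD, fun k => ?_, ?_⟩
    · have e : c' = mu' d L tz := by
        rw [← T.g_d]
        calc c' = g * (g⁻¹ * c' * g⁻¹⁻¹) * g⁻¹ := by group
          _ = _ := by rw [k]
      refine T.mf.apart ?_
      have := (commute_conj_iff (L y) _ _).2 (e ▸ (T.mf.mem_perp tz_mem).2.2 : Commute d c')
      rwa [T.mf.conj_d, ec] at this
    · refine (commute_conj_iff g _ _).1 ?_
      rw [T.g_d, show g * (g⁻¹ * c' * g⁻¹⁻¹) * g⁻¹ = c' by group]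
      exact hk
  obtain ⟨q, hq, e⟩ := T.mf.perp_eq.le hv
  have e2 : mu' d L q = g⁻¹ * c' * g⁻¹⁻¹ := e
  have e' : g * mu' d L q * g⁻¹ = c' := by rw [e2]; group
  refine ⟨q, ⟨hq, fun k => T.mf.apart ?_⟩, fun b hb => ?_⟩
  · have := (commute_conj_iff g _ _).2 (T.mf.mu_commute.2 k.symm)
    rw [T.g_e, e'] at this
    have := (commute_conj_iff (L y) _ _).2 this
    rwa [T.mf.conj_d, ec] at this
  · have hx := T.gf.swap b hb
    rw [← T.mf.mu_commute (a := (b : Spor.Fi23)) (b := q), ← commute_conj_iff g, T.g_mu, e',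
      ← commute_conj_iff (L y), T.mf.mu_conj, ec]
    exact and_iff_right (conj_mem base_fi23.set.cls y hx.1)

end Matching

/-- Two members apart from the centre with the same common neighbours next to a given one agree everywhere below it. -/
theorem common_agree {q q' a : Spor.Fi23} (hq : q ∈ apart classD tz) (hq' : q' ∈ apart classD tz)
    (ha : a ∈ perp classD tz) (haq : Commute a q) (haq' : Commute a q')
    (hall : ∀ b ∈ perp classD tz, b ≠ a → Commute a b → Commute b q → Commute b q') :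
    ∀ b ∈ perp classD tz, Commute b q ↔ Commute b q' := by
  have B := base_fi23
  have h := B.set.cls
  have htf := B.set.tf
  have C := B.ctx a ha.1
  have ht : tz ∈ perp classD a := perp_symm tz_mem ha
  have hqa : q ∈ perp classD a := ⟨hq.1, fun e => hq.2 (e ▸ ha.2.2.symm), haq⟩
  have hqa' : q' ∈ perp classD a := ⟨hq'.1, fun e => hq'.2 (e ▸ ha.2.2.symm), haq'⟩
  have hnc : ¬ Commute (pr classD a tz ht) (pr classD a q hqa) := fun k =>
    hq.2 (commute_of_pr h htf ha.1 ht hqa k).symm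
  have hpin := ThreeA.M22.pin C (pr_mem ht) (pr_mem hqa) hnc (pr classD a q' hqa') (pr_mem hqa') (fun y hy => by
    obtain ⟨b, hb, rfl⟩ := exists_of_mem hy.1.1
    have k1 := (M23.toK B ha.1 ht hb).mp hy.1
    have k2 := (M23.toK B ha.1 hqa hb).mp hy.2
    exact (commute_pr hb hqa' (hall b k1 hb.2.1 hb.2.2 k2.2.2.symm)).symm)
  intro b hb
  rcases hpin with e | e | e
  · exact absurd (pr_injective h htf ha.1 hqa' ht e) fun k => hq'.2 (k ▸ Commute.refl tz)
  · rw [pr_injective h htf ha.1 hqa' hqa e]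
  · have htt := inv_eq h.1 tz_mem
    have hw : tz * q * tz ∈ perp classD a := by
      have := perp_conj' h ht.2.2.symm hqa
      rwa [htt] at this
    rw [pr_injective h htf ha.1 hqa' hw (e.trans rfl), ← commute_conj_iff tz b q, htt,
      show tz * b * tz = b by rw [hb.2.2.eq, mul_assoc, mul_self h.1 tz_mem, mul_one]]

end Cfsg.Agent.Fus.Fi24Rec
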