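/-
The members next to a vertex at distance two are those of the model, and so is its stabiliser.
-/
import Cfsg.Agent.Lib.Fus.Fi24Rec.Match

set_option autoImplicit false
set_option linter.style.haveILetI false
set_option linter.unusedSectionVars false
set_option maxRecDepth 100000

open Cfsg Cfsg.Agent.Spor.ThreeTrans Cfsg.Agent.Block.FischerTypes
open Cfsg.Agent.Block.M23Up (base_fi23 tz_mem)
open Cfsg.Agent.Fus.M23U.TypeOf (classD)
open Cfsg.Agent.Block.FischerTypes.M22 (perp_symm)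

namespace Cfsg.Agent.Fus.Fi24Rec

/-- Commuting members of a set. -/
def Step (S : Set Spor.Fi23) (a b : Spor.Fi23) : Prop := a ∈ S ∧ b ∈ S ∧ Commute a b

/-- Joined inside a set. -/
def Conn (S : Set Spor.Fi23) : Spor.Fi23 → Spor.Fi23 → Prop := Relation.ReflTransGen (Step S)

theorem conn_symm {S : Set Spor.Fi23} {a b : Spor.Fi23} (h : Conn S a b) : Conn S b a := by
  induction h with
  | refl => exact .refl
  | tail _ hbc ih => exact Relation.ReflTransGen.head ⟨hbc.2.1, hbc.1, hbc.2.2.symm⟩ ih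

theorem conn_mem {S : Set Spor.Fi23} {a b : Spor.Fi23} (h : Conn S a b) (ha : a ∈ S) : b ∈ S := by
  induction h with
  | refl => exact ha
  | tail _ hbc _ => exact hbc.2.1

theorem conn_conj {S : Set Spor.Fi23} {h : Spor.Fi23} (hh : ∀ x ∈ S, h * x * h⁻¹ ∈ S) {a b : Spor.Fi23}
    (hab : Conn S a b) : Conn S (h * a * h⁻¹) (h * b * h⁻¹) := by
  induction hab with
  | refl => exact .refl
  | tail _ hbc ih => exact ih.tail ⟨hh _ hbc.1, hh _ hbc.2.1, (commute_conj_iff h _ _).2 hbc.2.2⟩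

namespace MF

variable {M : Type*} [Group M] [Finite M] {D : Set M} {d c : M} {L : Spor.Fi23 →* M} (F : MF D d c L)
include F

theorem S_conj_S {a w : Spor.Fi23} (ha : a ∈ mS d c L) (hw : w ∈ mS d c L) : a * w * a⁻¹ ∈ mS d c L := by
  refine ⟨conj_mem base_fi23.set.cls a hw.1, ?_⟩
  have e : mu' d L (a * w * a⁻¹) = mu' d L a * mu' d L w * mu' d L a := by
    rw [F.mu_mul, ← F.mu_conj, inv_eq_of_mul_eq_one_right (show L a * L a = 1 by
      rw [← map_mul, mul_self base_fi23.set.cls.1 ha.1, map_one])]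
    show L a * (L w * d) * L a = L (a * w) * (L a * d)
    rw [map_mul]
    simp only [mul_assoc]
    rw [(F.comm a).symm.eq]
  rw [e]
  exact (ha.2.mul_left hw.2).mul_left ha.2

/-- A product of two commuting members keeps every component. -/
theorem pair_conn {x a w : Spor.Fi23} (hx : x ∈ mS d c L) (ha : a ∈ mS d c L) (hxa : Commute x a)
    (hw : w ∈ mS d c L) : Conn (mS d c L) w ((x * a) * w * (x * a)⁻¹) := by
  have h := base_fi23.set.cls
  have same : ∀ {u : Spor.Fi23}, u ∈ mS d c L → Conn (mS d c L) u w → Conn (mS d c L) w (u * w * u⁻¹) := by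
    intro u hu k
    have := conn_conj (fun z hz => F.S_conj_S hu hz) k
    rw [conj_self_eq (Commute.refl u)] at this
    exact (conn_symm k).trans this
  by_cases k : Conn (mS d c L) x w
  · have hxa' : Conn (mS d c L) a w := (Relation.ReflTransGen.single ⟨ha, hx, hxa.symm⟩).trans k
    have h1 := same ha hxa'
    have h2 := conn_conj (fun z hz => F.S_conj_S hx hz) h1
    rw [show x * (a * w * a⁻¹) * x⁻¹ = x * a * w * (x * a)⁻¹ by group] at h2
    exact (same hx k).trans h2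
  · have nx : ¬ Commute x w := fun e => k (Relation.ReflTransGen.single ⟨hx, hw, e⟩)
    have na : ¬ Commute a w := fun e => k
      ((Relation.ReflTransGen.single ⟨hx, ha, hxa⟩).trans (Relation.ReflTransGen.single ⟨ha, hw, e⟩))
    have hcon : Conn (mS d c L) (w * x * w⁻¹) (w * a * w⁻¹) :=
      conn_conj (fun z hz => F.S_conj_S hw hz) (Relation.ReflTransGen.single ⟨hx, ha, hxa⟩)
    rw [inv_eq h.1 hw.1, ← braid h.1 hx.1 hw.1 nx, ← braid h.1 ha.1 hw.1 na] at hcon
    have h2 := conn_conj (fun z hz => F.S_conj_S hx hz) hcon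
    rw [show x * (x * w * x) * x⁻¹ = (x * x) * w by group, mul_self h.1 hx.1, one_mul] at h2
    rw [mul_inv_rev, inv_eq h.1 ha.1]
    rwa [show x * (a * w * a) * x⁻¹ = x * a * w * (a * x⁻¹) by group] at h2

end MF

variable {G : Type*} [Group G] [Finite G] {t : G} {K : Subgroup G} {M : Type*} [Group M] [Finite M]

/-- The stabiliser of the vertex at distance two. -/
noncomputable def mM (B : Base t K) (ι : Spor.Fi23 →* G) (n : G) (q0 : Spor.Fi23) : Subgroup Spor.Fi23 :=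
  (MulAction.stabilizer G (gam B ι n q0)).comap ι

theorem mem_mM {B : Base t K} {ι : Spor.Fi23 →* G} {n : G} {q0 y : Spor.Fi23} :
    y ∈ mM B ι n q0 ↔ ι y • gam B ι n q0 = gam B ι n q0 := Iff.rfl

namespace Matching

variable {B : Base t K} {ι : Spor.Fi23 →* G} {n : G} {D : Set M} {d c : M} {L : Spor.Fi23 →* M} {g : M}
  {ν : MulAut ↥PG0} {q0 : Spor.Fi23} (T : Matching B ι n D d c L g ν q0)
include T

theorem agree_step {x z : Spor.Fi23} (hxP : x ∈ mP B ι n q0) (hxS : x ∈ mS d c L)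
    (hx : ∀ w ∈ perp classD x, w ∈ mP B ι n q0 ↔ w ∈ mS d c L) (hz : z ∈ perp classD x)
    (hzP : z ∈ mP B ι n q0) : ∀ w ∈ perp classD z, w ∈ mP B ι n q0 ↔ w ∈ mS d c L := by
  have h := base_fi23.set.cls
  obtain ⟨y, rfl, q, hq, hqP⟩ := T.coords hzP
  obtain ⟨q', hq', hqS⟩ := T.model_coords ((hx _ hz).1 hzP)
  have back : ∀ {w}, w ∈ perp classD (y * tz * y⁻¹) → ∃ b : ↥PG0, b ∈ side ∧
      w = y * ((z0 * ν b : ↥PG0) : Spor.Fi23) * y⁻¹ := by
    intro w hw
    have hw' : y⁻¹ * w * y⁻¹⁻¹ ∈ perp classD tz := by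
      refine ⟨conj_mem h _ hw.1, fun e => hw.2.1 ?_, ?_⟩
      · rw [← e]; group
      · have := (commute_conj_iff y⁻¹ _ _).2 hw.2.2
        rwa [show y⁻¹ * (y * tz * y⁻¹) * y⁻¹⁻¹ = tz by group] at this
    obtain ⟨b, hb, e⟩ := side_surj ν T.gf.swap (x := ⟨_, perp_mem hw'⟩) hw'
    refine ⟨b, hb, ?_⟩
    rw [show ((z0 * ν b : ↥PG0) : Spor.Fi23) = y⁻¹ * w * y⁻¹⁻¹ from congrArg Subtype.val e]
    group
  obtain ⟨a, ha, ea⟩ := back (show x ∈ perp classD (y * tz * y⁻¹) from perp_symm hxP.1 hz)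
  subst ea
  have key : ∀ b ∈ perp classD tz, Commute b q ↔ Commute b q' := by
    refine common_agree hq hq' (a := (a : Spor.Fi23)) ha ((hqP a ha).1 hxP) ((hqS a ha).1 hxS) ?_
    intro b hb hne hab hbq
    have hbP : _ ∈ mP B ι n q0 := (hqP ⟨b, perp_mem hb⟩ hb).2 hbq
    refine (hqS ⟨b, perp_mem hb⟩ hb).1 ((hx _ ⟨hbP.1, fun e => hne ?_, ?_⟩).1 hbP)
    · have e' : (z0 * ν ⟨b, perp_mem hb⟩ : ↥PG0) = z0 * ν a :=
        Subtype.ext (mul_left_cancel (mul_right_cancel e))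
      exact congrArg Subtype.val (ν.injective (mul_left_cancel e'))
    · refine (commute_conj_iff y _ _).2 ?_
      have hc : Commute (z0 * ν a) (z0 * ν ⟨b, perp_mem hb⟩) := by
        have hz0 : ∀ u : ↥PG0, Commute z0 u := fun u => Subtype.ext (commute_tz u).symm.eq
        have hab' : Commute a (⟨b, perp_mem hb⟩ : ↥PG0) := Subtype.ext hab.eq
        exact ((hz0 _).mul_right (hz0 _)).mul_left ((hz0 _).symm.mul_right (hab'.map ν.toMonoidHom))
      exact congrArg Subtype.val hc.eq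
  intro w hw
  obtain ⟨b, hb, rfl⟩ := back hw
  rw [hqP b hb, hqS b hb]
  exact key _ hb

theorem core_agree {x : Spor.Fi23} (h : Conn (mS d c L) tz x) :
    x ∈ mP B ι n q0 ∧ x ∈ mS d c L ∧ ∀ w ∈ perp classD x, w ∈ mP B ι n q0 ↔ w ∈ mS d c L := by
  induction h with
  | refl => exact ⟨T.tz_P, T.mf.tz_S, fun w hw => T.base_agree hw⟩
  | @tail x z _ hxz ih =>
    by_cases e : z = x
    · exact e ▸ ih
    obtain ⟨i1, i2, i3⟩ := ih
    have hz : z ∈ perp classD x := ⟨hxz.2.1.1, e, hxz.2.2⟩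
    have hzP := (i3 z hz).2 hxz.2.1
    exact ⟨hzP, hxz.2.1, T.agree_step i1 i2 i3 hz hzP⟩

theorem P_sub : mP B ι n q0 ⊆ mS d c L := by
  intro x hx
  by_contra hxS
  obtain ⟨a, ha, hax⟩ := T.mf.dominate (T := {a | Conn (mS d c L) tz a})
    (fun a ha => conn_mem ha T.mf.tz_S) ⟨tz, .refl⟩
    (fun a ha b hb hab => Relation.ReflTransGen.tail ha ⟨conn_mem ha T.mf.tz_S, hb, hab⟩) hx.1 hxS
  obtain ⟨-, hS, hag⟩ := T.core_agree ha
  exact hxS ((hag x ⟨hx.1, fun e => hxS (e ▸ hS), hax⟩).1 hx)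

theorem card_P_nbrs {x : Spor.Fi23} (hx : x ∈ mP B ι n q0) : (mP B ι n q0 ∩ perp classD x).ncard = 351 := by
  have h := base_fi23.set.cls
  obtain ⟨y, rfl, q, hq, hqP⟩ := T.coords hx
  have hmu := M23.mu base_fi23 tz_mem hq.1 fun k => hq.2 k.symm
  have e1 : ((fun b : ↥PG0 => (b : Spor.Fi23)) '' {b : ↥PG0 | b ∈ side ∧ Commute (b : Spor.Fi23) q}) =
      common classD tz q := by
    ext b
    constructor
    · rintro ⟨b, ⟨hb, k⟩, rfl⟩
      exact ⟨hb, hb.1, fun e => hq.2 ((show (b : Spor.Fi23) = q from e) ▸ hb.2.2 : Commute tz q).symm, k.symm⟩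
    · rintro ⟨hb, hb'⟩
      exact ⟨⟨b, perp_mem hb⟩, ⟨hb, hb'.2.2.symm⟩, rfl⟩
  rw [← e1, Set.ncard_image_of_injective _ Subtype.val_injective] at hmu
  rw [← hmu, ← Set.ncard_image_of_injective {b : ↥PG0 | b ∈ side ∧ Commute (b : Spor.Fi23) q}
    (f := fun b : ↥PG0 => y * ((z0 * ν b : ↥PG0) : Spor.Fi23) * y⁻¹)
    (fun b b' e => ν.injective (mul_left_cancel (Subtype.ext (mul_left_cancel (mul_right_cancel e)))))]
  congr 1
  ext w
  constructor
  · rintro ⟨hwP, hw⟩
    have hw' : y⁻¹ * w * y⁻¹⁻¹ ∈ perp classD tz := by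
      refine ⟨conj_mem h _ hw.1, fun e => hw.2.1 ?_, ?_⟩
      · rw [← e]; group
      · have := (commute_conj_iff y⁻¹ _ _).2 hw.2.2
        rwa [show y⁻¹ * (y * tz * y⁻¹) * y⁻¹⁻¹ = tz by group] at this
    obtain ⟨b, hb, e⟩ := side_surj ν T.gf.swap (x := ⟨_, perp_mem hw'⟩) hw'
    have ew : y * ((z0 * ν b : ↥PG0) : Spor.Fi23) * y⁻¹ = w := by
      rw [show ((z0 * ν b : ↥PG0) : Spor.Fi23) = y⁻¹ * w * y⁻¹⁻¹ from congrArg Subtype.val e]
      group
    exact ⟨b, ⟨hb, (hqP b hb).1 (ew.symm ▸ hwP)⟩, ew⟩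
  · rintro ⟨b, ⟨hb, k⟩, rfl⟩
    have hv := T.gf.swap b hb
    exact ⟨(hqP b hb).2 k, conj_mem h y hv.1,
      fun e => hv.2.1 (mul_left_cancel (mul_right_cancel e)), (commute_conj_iff y _ _).2 hv.2.2⟩

theorem P_closed {x w : Spor.Fi23} (hx : x ∈ mP B ι n q0) (hw : w ∈ mS d c L) (hxw : Commute x w) :
    w ∈ mP B ι n q0 := by
  by_cases e : w = x
  · exact e ▸ hx
  have heq : mP B ι n q0 ∩ perp classD x = mS d c L ∩ perp classD x :=
    Set.eq_of_subset_of_ncard_le (Set.inter_subset_inter_left _ T.P_sub)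
      (by rw [T.card_P_nbrs hx, T.mf.card_nbrs (T.P_sub hx)]) (Set.toFinite _)
  exact (heq.ge ⟨hw, hw.1, e, hxw⟩).1

/-- The product of two commuting members next to the vertex fixes it. -/
theorem pair_fix {a b : Spor.Fi23} (ha : a ∈ mP B ι n q0) (hb : b ∈ mP B ι n q0) (hab : Commute a b) :
    a * b ∈ mM B ι n q0 := by
  rw [mem_mM]
  by_cases e : a = b
  · subst e
    rw [mul_self base_fi23.set.cls.1 ha.1, map_one, one_smul]
  obtain ⟨φ, h1, h2⟩ := T.gf.exists_flag ha.1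
  obtain ⟨ψ, k1, k2⟩ := T.gf.exists_flag hb.1
  have hadj : B.adj φ ψ := by
    refine ((B.geom.commute_iff (B.vert_eq_iff.1 (h1.trans k1.symm))).1 ?_).resolve_left
      fun r => e (T.gf.inj (by rw [← h2, ← k2, r]))
    rw [h2, k2]
    exact hab.map ι
  obtain ⟨χ, e1, -, -, e3, e4⟩ := B.triangle hadj
  rw [← T.gf.far_eq h1 h2] at e3
  rw [← T.gf.far_eq k1 k2] at e4
  obtain ⟨ρ, r1, r2⟩ := ha.2
  have hρ : B.vert χ = B.vert ρ := e3.trans r1.symm
  have hχρ : B.adj χ ρ := (B.linked_far_iff hρ).1 (by rw [e4, r2]; exact hb.2)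
  rw [← r2, map_mul, ← h2, ← k2, ← e1]
  exact B.el_fix_far hχρ

/-- A member of the component of the centre is a product of pairs away. -/
theorem conn_mem_M {x w : Spor.Fi23} (hx : x ∈ mP B ι n q0) (h : Conn (mS d c L) x w) :
    x * w ∈ mM B ι n q0 ∧ x * w ∈ mR d c L ∧ w ∈ mP B ι n q0 := by
  induction h with
  | refl =>
    rw [mul_self base_fi23.set.cls.1 hx.1]
    exact ⟨one_mem _, one_mem _, hx⟩
  | @tail z w _ hzw ih =>
    obtain ⟨i1, i2, i3⟩ := ih
    have hw := T.P_closed i3 hzw.2.1 hzw.2.2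
    have e : x * w = x * z * (z * w) := by
      rw [show x * z * (z * w) = x * (z * z) * w by group, mul_self base_fi23.set.cls.1 hzw.1.1, mul_one]
    rw [e]
    exact ⟨mul_mem i1 (T.pair_fix i3 hw hzw.2.2), mul_mem i2 (T.mf.pair_mem hzw.1 hzw.2.1), hw⟩

/-- What fixes the centre and the class fixes the vertex. -/
theorem stab_tz {w : Spor.Fi23} (hw : w ∈ mR d c L) (hc : Commute w tz) : w ∈ mM B ι n q0 := by
  obtain ⟨k, hk⟩ := ν.surjective ⟨w, mem_PG0_of_commute hc⟩
  have hkw : (ν k : Spor.Fi23) = w := congrArg Subtype.val hk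
  have hfix : L w * c * (L w)⁻¹ = c := conj_self_eq (T.mf.stab_iff.2 hw)
  rw [← hkw, ← T.q0_c, T.g_conj_L, T.mf.mu_conj] at hfix
  have hkq : (k : Spor.Fi23) * q0 * (k : Spor.Fi23)⁻¹ = q0 :=
    T.mf.mu_inj (mul_left_cancel (mul_right_cancel hfix))
  rw [mem_mM, gam, ← hkw, T.gf.n_smul_iota, T.gf.smul_far _ T.q0_mem.1, hkq]

/-- Transitivity on the component of the centre. -/
theorem core_trans {x : Spor.Fi23} (hx : Conn (mS d c L) tz x) :
    ∃ r, r ∈ mM B ι n q0 ∧ r ∈ mR d c L ∧ r * tz * r⁻¹ = x := by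
  have h := base_fi23.set.cls
  let O : Spor.Fi23 → Prop := fun x => ∃ r, r ∈ mM B ι n q0 ∧ r ∈ mR d c L ∧ r * tz * r⁻¹ = x
  have hstep : ∀ {u w}, Conn (mS d c L) tz u → O u → Conn (mS d c L) tz w → ¬ Commute u w → O w := by
    intro u w hu ⟨r, r1, r2, r3⟩ hw k
    obtain ⟨m1, m2, -⟩ := T.conn_mem_M (T.core_agree hu).1 ((conn_symm hu).trans hw)
    refine ⟨u * w * r, mul_mem m1 r1, mul_mem m2 r2, ?_⟩
    have hu' := conn_mem hu T.mf.tz_S
    have hw' := conn_mem hw T.mf.tz_S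
    rw [show u * w * r * tz * (u * w * r)⁻¹ = u * w * (r * tz * r⁻¹) * (u * w)⁻¹ by group, r3, mul_inv_rev,
      inv_eq h.1 hu'.1, inv_eq h.1 hw'.1]
    calc u * w * u * (w * u) = u * w * u * w * u := by simp only [mul_assoc]
      _ = (w * u * w) * w * u := by rw [braid h.1 hu'.1 hw'.1 k]
      _ = w * u * (w * w) * u := by simp only [mul_assoc]
      _ = w := by rw [mul_self h.1 hw'.1, mul_one, mul_assoc, mul_self h.1 hu'.1, mul_one]
  show O x
  induction hx with
  | refl => exact ⟨1, one_mem _, one_mem _, by simp⟩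
  | @tail u q hu huq ih =>
    by_contra hq
    have huS := huq.1
    have hqS := huq.2.1
    have hne : q ≠ u := fun e => hq (e ▸ ih)
    have hqu : q ∈ perp classD u := ⟨hqS.1, hne, huq.2.2⟩
    have huq' : u ∈ perp classD q := perp_symm huS.1 hqu
    have hqC : Conn (mS d c L) tz q := Relation.ReflTransGen.tail hu huq
    -- beside each of the two, members apart from the other fall on its side
    have big : ∀ {a b : Spor.Fi23}, a ∈ mS d c L → b ∈ mS d c L → b ∈ perp classD a →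
        ∀ {s : Spor.Fi23}, s ∈ mS d c L → s ∈ perp classD a → s ∈ perp classD b →
        (∀ r ∈ mS d c L ∩ perp classD a, ¬ Commute r b → Commute r s) → False := by
      intro a b ha hb hab s hs hsa hsb hall
      have h1 := T.mf.card_nbrs ha
      have h2 := T.mf.card_shared ha hb hab
      have h3 := T.mf.card_shared ha hs hsa
      have hsub : mS d c L ∩ perp classD a ⊆
          (mS d c L ∩ perp classD a ∩ perp classD b) ∪ (mS d c L ∩ perp classD a ∩ perp classD s) ∪ {b, s} := by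
        intro r hr
        by_cases e1 : r = b
        · exact Or.inr (Or.inl e1)
        by_cases e2 : r = s
        · exact Or.inr (Or.inr e2)
        by_cases k : Commute r b
        · exact Or.inl (Or.inl ⟨hr, hr.2.1, e1, k.symm⟩)
        · exact Or.inl (Or.inr ⟨hr, hr.2.1, e2, (hall r hr k).symm⟩)
      have h4 := (Set.ncard_le_ncard hsub (Set.toFinite _)).trans
        ((Set.ncard_union_le _ _).trans (Nat.add_le_add (Set.ncard_union_le _ _) (Set.ncard_insert_le _ _)))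
      rw [Set.ncard_singleton] at h4
      omega
    obtain ⟨s, ⟨hs, hsu⟩, hsq⟩ := Set.nonempty_of_ncard_ne_zero
      (s := mS d c L ∩ perp classD u ∩ perp classD q) (by rw [T.mf.card_shared huS hqS hqu]; omega)
    have hsC : Conn (mS d c L) tz s := Relation.ReflTransGen.tail hu ⟨huS, hs, hsu.2.2⟩
    by_cases hsO : O s
    · refine big huS hqS hqu hs hsu hsq fun r hr hrq => by_contra fun hrs => hq ?_
      have hrC : Conn (mS d c L) tz r := Relation.ReflTransGen.tail hu ⟨huS, hr.1, hr.2.2.2⟩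
      exact hstep hrC (hstep hsC hsO hrC fun k => hrs k.symm) hqC hrq
    · refine big hqS huS huq' hs hsq hsu fun r hr hru => by_contra fun hrs => hsO ?_
      have hrC : Conn (mS d c L) tz r := Relation.ReflTransGen.tail hqC ⟨hqS, hr.1, hr.2.2.2⟩
      exact hstep hrC (hstep hu ih hrC fun k => hru k.symm) hsC hrs

/-- Every member of the model's set is next to the vertex. -/
theorem P_eq : mP B ι n q0 = mS d c L := by
  refine Set.Subset.antisymm T.P_sub fun a ha => by_contra fun haP => ?_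
  have h := base_fi23.set.cls
  obtain ⟨b, hb, hba⟩ := T.mf.exists_nbr ha
  have hy : a * b ∈ mM B ι n q0 := by
    have hR := T.mf.pair_mem ha hb
    have hx : Conn (mS d c L) tz (a * b * tz * (a * b)⁻¹) := T.mf.pair_conn ha hb hba.2.2 T.mf.tz_S
    obtain ⟨r, r1, r2, r3⟩ := T.core_trans hx
    have hc : Commute (r⁻¹ * (a * b)) tz := by
      refine mul_inv_eq_iff_eq_mul.1 ?_
      calc r⁻¹ * (a * b) * tz * (r⁻¹ * (a * b))⁻¹ = r⁻¹ * (a * b * tz * (a * b)⁻¹) * r := by group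
        _ = tz := by rw [← r3]; group
    have := mul_mem r1 (T.stab_tz (mul_mem (inv_mem r2) hR) hc)
    rwa [mul_inv_cancel_left] at this
  obtain ⟨φ, h1, h2⟩ := T.gf.exists_flag ha.1
  obtain ⟨ψ, k1, k2⟩ := T.gf.exists_flag hb.1
  have hadj : B.adj φ ψ := by
    refine ((B.geom.commute_iff (B.vert_eq_iff.1 (h1.trans k1.symm))).1 ?_).resolve_left
      fun r => hba.2.1 (T.gf.inj (by rw [← h2, ← k2, r]))
    rw [h2, k2]
    exact hba.2.2.map ι
  obtain ⟨χ, e1, -, -, e3, e4⟩ := B.triangle hadj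
  rw [← T.gf.far_eq h1 h2] at e3
  rw [← T.gf.far_eq k1 k2] at e4
  rw [mem_mM, map_mul, ← h2, ← k2, ← e1] at hy
  rcases B.fixed_vertices hy with e | e | ⟨ρ, hρ, e⟩
  · exact T.gam_not_linked (e ▸ e3 ▸ T.gf.far_linked_root ha.1)
  · exact T.gam_not_linked (e ▸ e4 ▸ T.gf.far_linked_root hb.1)
  · exact haP ⟨ha.1, ρ, (B.vert_eq_of_adj hρ).symm.trans e3, e.symm⟩

theorem no_member_fixes {w : Spor.Fi23} (hw : w ∈ classD) : w ∉ mM B ι n q0 := by
  intro k
  obtain ⟨φ, h1, h2⟩ := T.gf.exists_flag hw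
  rw [mem_mM, ← h2] at k
  rcases B.fixed_vertices k with e | e | ⟨ρ, hρ, e⟩
  · exact T.gam_ne_root (e.trans h1)
  · exact T.gam_not_linked ⟨φ, h1, e.symm⟩
  · exact T.gam_not_linked ⟨ρ, (B.vert_eq_of_adj hρ).symm.trans h1, e.symm⟩

/-- An element keeping the set sends the vertex to itself or to its partner. -/
theorem at_most_two {h : Spor.Fi23} (hh : ∀ x ∈ mS d c L, h⁻¹ * x * h ∈ mS d c L) :
    ι h • gam B ι n q0 = gam B ι n q0 ∨ ι h • gam B ι n q0 = ι tz • gam B ι n q0 := by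
  have hS : ∀ x ∈ classD, (B.Linked (far B ι x) (ι h • gam B ι n q0) ↔ h⁻¹ * x * h ∈ mS d c L) := by
    intro x hx
    have hx' : h⁻¹ * x * h ∈ classD := by simpa using conj_mem base_fi23.set.cls h⁻¹ hx
    have hfar : ι h • far B ι (h⁻¹ * x * h) = far B ι x := by rw [T.gf.smul_far _ hx']; congr 1; group
    rw [← T.P_eq]
    constructor
    · intro k
      have := B.linked_smul (ι h)⁻¹ k
      rw [inv_smul_smul, ← hfar, inv_smul_smul] at this
      exact ⟨hx', this⟩
    · intro k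
      have := B.linked_smul (ι h) k.2
      rwa [hfar] at this
  have htz := (hS tz tz_mem).2 (hh tz T.mf.tz_S)
  obtain ⟨q, hq, ev⟩ := T.gf.linked_root (v := n⁻¹ • ι h • gam B ι n q0) (by
    have := B.linked_smul n⁻¹ htz
    rwa [inv_smul_eq_iff.2 T.gf.n_root.symm] at this)
  have ev' : ι h • gam B ι n q0 = n • far B ι q := by rw [← ev, smul_inv_smul]
  have hqa : q ∈ apart classD tz := by
    refine ⟨hq, fun hc => ?_⟩
    by_cases hqt : q = tz
    · rw [hqt, T.gf.n_far_tz, ← T.gf.fix_root h, smul_left_cancel_iff] at ev'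
      exact T.gam_ne_root ev'
    · have hmem : q ∈ perp classD tz := ⟨hq, hqt, hc.symm⟩
      rw [T.gf.n_far (b := ⟨q, perp_mem hmem⟩) hmem] at ev'
      have := T.gf.far_linked_root (T.gf.swap ⟨q, perp_mem hmem⟩ hmem).1
      rw [← ev', ← T.gf.fix_root h] at this
      have h2 := B.linked_smul (ι h)⁻¹ this
      rw [inv_smul_smul, inv_smul_smul] at h2
      exact T.gam_not_linked h2
  have hsame : ∀ b ∈ perp classD tz, Commute b q0 → Commute b q := by
    intro b hb hbq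
    have hx := T.gf.swap ⟨b, perp_mem hb⟩ hb
    rw [← T.mf.mu_commute, ← commute_conj_iff g, T.g_mu ⟨b, perp_mem hb⟩, T.q0_c] at hbq
    have k := (hS _ hx.1).2 (hh _ ⟨hx.1, hbq⟩)
    rw [ev', T.local_iff hqa hx] at k
    rwa [← T.g_mu ⟨b, perp_mem hb⟩, commute_conj_iff, T.mf.mu_commute] at k
  rcases ThreeA.M23.pin base_fi23 tz_mem T.q0_mem.1 (fun k => T.q0_mem.2 k.symm) q hq (fun y hy =>
      (hsame y hy.1 hy.2.2.2.symm).symm) with e | e | e
  · exact absurd (e ▸ Commute.refl tz) hqa.2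
  · left; rw [ev', e]; rfl
  · right
    have k := T.gf.n_smul_iota z0 (far B ι q0)
    rw [map_z0 ν] at k
    have k' : ι tz • gam B ι n q0 = n • ι tz • far B ι q0 := k
    rw [ev', k', T.gf.smul_far _ T.q0_mem.1, inv_eq base_fi23.set.cls.1 tz_mem, e]

/-- The stabiliser is that of the model. -/
theorem mem_M_iff {y : Spor.Fi23} : y ∈ mM B ι n q0 ↔ y ∈ mR d c L := by
  have h := base_fi23.set.cls
  have tzw : ∀ w ∈ mS d c L, tz * w ∈ mM B ι n q0 := by
    intro w hw
    have hh : ∀ x ∈ mS d c L, (tz * w)⁻¹ * x * (tz * w) ∈ mS d c L := by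
      intro x hx
      have := T.mf.S_conj_S hw (T.mf.S_conj_S T.mf.tz_S hx)
      rw [inv_eq h.1 tz_mem, inv_eq h.1 hw.1] at this
      rwa [mul_inv_rev, inv_eq h.1 tz_mem, inv_eq h.1 hw.1,
        show w * tz * x * (tz * w) = w * (tz * x * tz) * w by simp only [mul_assoc]]
    rcases T.at_most_two hh with k | k
    · exact k
    · exfalso
      rw [map_mul, mul_smul, smul_left_cancel_iff] at k
      exact T.no_member_fixes hw.1 k
  have hle : mR d c L ≤ mM B ι n q0 := by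
    refine (Subgroup.closure_le _).2 ?_
    rintro _ ⟨a, ha, b, hb, rfl⟩
    rw [show a * b = (tz * a)⁻¹ * (tz * b) by rw [mul_inv_rev, inv_eq h.1 ha.1]; group]
    exact mul_mem (inv_mem (tzw a ha)) (tzw b hb)
  refine ⟨fun hy => ?_, fun hy => hle hy⟩
  have hh : ∀ x ∈ mS d c L, y⁻¹ * x * y ∈ mS d c L := by
    intro x hx
    rw [← T.P_eq] at hx ⊢
    refine ⟨by simpa using conj_mem h y⁻¹ hx.1, ?_⟩
    have := B.linked_smul (ι y⁻¹) hx.2
    rwa [T.gf.smul_far _ hx.1, inv_inv, mem_mM.1 (inv_mem hy)] at this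
  rcases T.mf.same_set hh with k | k
  · exact k
  · exfalso
    have := mul_mem (inv_mem hy) (hle k)
    rw [inv_mul_cancel_left] at this
    exact T.no_member_fixes tz_mem this

end Matching

end Cfsg.Agent.Fus.Fi24Rec
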