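/-
The component of the root matched with the transpositions of the model, edges with commuting pairs.
-/
import Cfsg.Agent.Lib.Fus.Fi24Rec.Pset

set_option autoImplicit false
set_option linter.style.haveILetI false
set_option linter.unusedSectionVars false
set_option maxRecDepth 100000

open Cfsg Cfsg.Agent.Spor.ThreeTrans Cfsg.Agent.Block.FischerTypes
open Cfsg.Agent.Block.M23Up (base_fi23 tz_mem)
open Cfsg.Agent.Fus.M23U.TypeOf (classD)
open Cfsg.Agent.Block.FischerTypes.M22 (perp_symm)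

namespace Cfsg.Agent.Fus.Fi24Rec

variable {G : Type*} [Group G] [Finite G] {t : G} {K : Subgroup G} {M : Type*} [Group M] [Finite M]

/-- A vertex and a transposition in the same place. -/
def Mt (B : Base t K) (ι : Spor.Fi23 →* G) (n : G) (d c : M) (L : Spor.Fi23 →* M) (q0 : Spor.Fi23)
    (v : G ⧸ B.grp) (a : M) : Prop :=
  (v = B.root_vert ∧ a = d) ∨ (∃ x ∈ classD, v = far B ι x ∧ a = mu' d L x) ∨
    ∃ y, v = ι y • gam B ι n q0 ∧ a = L y * c * (L y)⁻¹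

namespace Matching

variable {B : Base t K} {ι : Spor.Fi23 →* G} {n : G} {D : Set M} {d c : M} {L : Spor.Fi23 →* M} {g : M}
  {ν : MulAut ↥PG0} {q0 : Spor.Fi23} (T : Matching B ι n D d c L g ν q0)
include T

theorem mt_root : Mt B ι n d c L q0 B.root_vert d := Or.inl ⟨rfl, rfl⟩

theorem mt_far {x : Spor.Fi23} (hx : x ∈ classD) : Mt B ι n d c L q0 (far B ι x) (mu' d L x) :=
  Or.inr (Or.inl ⟨x, hx, rfl, rfl⟩)

theorem mt_gam : Mt B ι n d c L q0 (gam B ι n q0) c := Or.inr (Or.inr ⟨1, by rw [map_one, one_smul], by simp⟩)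

theorem orbit_apart (y : Spor.Fi23) : ¬ Commute d (L y * c * (L y)⁻¹) := by
  intro k
  refine T.mf.apart ((commute_conj_iff (L y) _ _).1 ?_)
  rwa [T.mf.conj_d]

theorem orbit_not_linked (y : Spor.Fi23) : ι y • gam B ι n q0 ≠ B.root_vert ∧
    ¬ B.Linked B.root_vert (ι y • gam B ι n q0) := by
  refine ⟨fun e => T.gam_ne_root ?_, fun h => T.gam_not_linked ?_⟩
  · rwa [← T.gf.fix_root y, smul_left_cancel_iff] at e
  · have := B.linked_smul (ι y)⁻¹ h
    rwa [inv_smul_smul, inv_smul_eq_iff.2 (T.gf.fix_root y).symm] at this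

theorem orbit_eq_iff {y y' : Spor.Fi23} :
    ι y • gam B ι n q0 = ι y' • gam B ι n q0 ↔ L y * c * (L y)⁻¹ = L y' * c * (L y')⁻¹ := by
  have key : y'⁻¹ * y ∈ mM B ι n q0 ↔ ι y • gam B ι n q0 = ι y' • gam B ι n q0 := by
    rw [mem_mM, map_mul, map_inv, mul_smul, inv_smul_eq_iff]
  rw [← key, T.mem_M_iff, ← T.mf.stab_iff, map_mul, map_inv]
  constructor
  · intro h
    calc L y * c * (L y)⁻¹ = L y' * ((L y')⁻¹ * L y * c * ((L y')⁻¹ * L y)⁻¹) * (L y')⁻¹ := by group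
      _ = _ := by rw [conj_self_eq h]
  · intro e
    refine mul_inv_eq_iff_eq_mul.1 ?_
    calc (L y')⁻¹ * L y * c * ((L y')⁻¹ * L y)⁻¹ = (L y')⁻¹ * (L y * c * (L y)⁻¹) * L y' := by group
      _ = c := by rw [e]; group

theorem mt_unique {v : G ⧸ B.grp} {a a' : M} (h : Mt B ι n d c L q0 v a) (h' : Mt B ι n d c L q0 v a') :
    a = a' := by
  rcases h with ⟨rfl, rfl⟩ | ⟨x, hx, rfl, rfl⟩ | ⟨y, rfl, rfl⟩ <;>
    rcases h' with ⟨k, rfl⟩ | ⟨x', hx', k, rfl⟩ | ⟨y', k, rfl⟩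
  · rfl
  · exact absurd k.symm (T.gf.far_ne_root hx')
  · exact absurd k.symm (T.orbit_not_linked y').1
  · exact absurd k (T.gf.far_ne_root hx)
  · rw [T.gf.far_inj hx hx' k]
  · exact absurd (k ▸ T.gf.far_linked_root hx) (T.orbit_not_linked y').2
  · exact absurd k (T.orbit_not_linked y).1
  · exact absurd (k.symm ▸ T.gf.far_linked_root hx') (T.orbit_not_linked y).2
  · exact T.orbit_eq_iff.1 k

theorem mt_unique' {v v' : G ⧸ B.grp} {a : M} (h : Mt B ι n d c L q0 v a) (h' : Mt B ι n d c L q0 v' a) :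
    v = v' := by
  rcases h with ⟨rfl, rfl⟩ | ⟨x, hx, rfl, rfl⟩ | ⟨y, rfl, rfl⟩ <;>
    rcases h' with ⟨rfl, k⟩ | ⟨x', hx', rfl, k⟩ | ⟨y', rfl, k⟩
  · rfl
  · exact absurd k.symm (T.mf.mem_perp hx').2.1
  · exact absurd (k ▸ Commute.refl _) (T.orbit_apart y')
  · exact absurd k (T.mf.mem_perp hx).2.1
  · rw [T.mf.mu_inj k]
  · exact absurd (k ▸ (T.mf.mem_perp hx).2.2) (T.orbit_apart y')
  · exact absurd (k.symm ▸ Commute.refl _) (T.orbit_apart y)
  · exact absurd (k.symm ▸ (T.mf.mem_perp hx').2.2) (T.orbit_apart y)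
  · exact T.orbit_eq_iff.2 k

theorem mt_iota (y : Spor.Fi23) {v : G ⧸ B.grp} {a : M} (h : Mt B ι n d c L q0 v a) :
    Mt B ι n d c L q0 (ι y • v) (L y * a * (L y)⁻¹) := by
  rcases h with ⟨rfl, rfl⟩ | ⟨x, hx, rfl, rfl⟩ | ⟨z, rfl, rfl⟩
  · exact Or.inl ⟨T.gf.fix_root y, T.mf.conj_d y⟩
  · exact Or.inr (Or.inl ⟨_, conj_mem base_fi23.set.cls y hx, T.gf.smul_far y hx, T.mf.mu_conj y x⟩)
  · exact Or.inr (Or.inr ⟨y * z, by rw [map_mul, mul_smul], by rw [map_mul]; group⟩)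

theorem mt_n_far {q : Spor.Fi23} (hq : q ∈ classD) :
    Mt B ι n d c L q0 (n • far B ι q) (g * mu' d L q * g⁻¹) := by
  by_cases hqt : q = tz
  · subst hqt
    exact Or.inl ⟨T.gf.n_far_tz, T.g_e⟩
  by_cases hc : Commute q tz
  · have hb : (⟨q, perp_mem ⟨hq, hqt, hc.symm⟩⟩ : ↥PG0) ∈ side := ⟨hq, hqt, hc.symm⟩
    exact Or.inr (Or.inl ⟨_, (T.gf.swap _ hb).1, T.gf.n_far hb, T.g_mu ⟨q, _⟩⟩)
  · obtain ⟨k, ek, e⟩ := T.gf.apart_orbit T.q0_mem (q := q) ⟨hq, hc⟩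
    refine Or.inr (Or.inr ⟨_, e, ?_⟩)
    rw [← T.q0_c, T.g_conj_L, T.mf.mu_conj, ← ek]

theorem g_mu_D {q : Spor.Fi23} (hq : q ∈ classD) : g * mu' d L q * g⁻¹ ∈ D :=
  conj_mem T.mf.base.set.cls g (T.mf.mem_perp hq).1

/-- Everything next to the neighbours of the root is matched. -/
theorem mt_far_nbr {x : Spor.Fi23} (hx : x ∈ classD) {w : G ⧸ B.grp} (h : B.Linked (far B ι x) w) :
    ∃ b, Mt B ι n d c L q0 w b := by
  obtain ⟨y, hy⟩ := transitive base_fi23.set.cls tz_mem hx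
  have h' := B.linked_smul (n⁻¹ * (ι y)⁻¹) h
  rw [mul_smul, mul_smul, ← hy, ← T.gf.smul_far y tz_mem, inv_smul_smul,
    inv_smul_eq_iff.2 T.gf.n_root.symm] at h'
  obtain ⟨q, hq, e⟩ := T.gf.linked_root h'
  have ev : w = ι y • n • far B ι q := by rw [← e, smul_inv_smul, smul_inv_smul]
  exact ⟨_, ev.symm ▸ T.mt_iota y (T.mt_n_far hq)⟩

/-- A neighbour of the vertex at distance two is next to or among the neighbours of the root. -/
theorem gam_nbr {w : G ⧸ B.grp} (h : B.Linked (gam B ι n q0) w) :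
    ∃ a ∈ mS d c L, far B ι a = w ∨ B.Linked (far B ι a) w := by
  have h0 := base_fi23.set.cls
  have hq := T.q0_mem
  set s := tz * q0 * tz with hs
  have hsC : s ∈ classD := by
    have := conj_mem h0 tz hq.1
    rwa [inv_eq h0.1 tz_mem] at this
  have s1 : s * tz * s⁻¹ = q0 := by
    rw [inv_eq h0.1 hsC, hs]
    calc tz * q0 * tz * tz * (tz * q0 * tz) = tz * q0 * (tz * tz) * (tz * q0 * tz) := by simp only [mul_assoc]
      _ = tz * (q0 * tz * q0) * tz := by rw [mul_self h0.1 tz_mem, mul_one]; simp only [mul_assoc]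
      _ = tz * (tz * q0 * tz) * tz := by rw [braid h0.1 hq.1 tz_mem hq.2]
      _ = tz * tz * q0 * (tz * tz) := by simp only [mul_assoc]
      _ = _ := by rw [mul_self h0.1 tz_mem, one_mul, mul_one]
  have s2 : s * q0 * s⁻¹ = tz := by
    have hss : s * s = 1 := mul_self h0.1 hsC
    calc s * q0 * s⁻¹ = (s * s) * tz * (s * s)⁻¹ := by rw [← s1]; group
      _ = tz := by rw [hss]; group
  set gg := n * ι s * n⁻¹ with hgg
  have g1 : gg • B.root_vert = gam B ι n q0 := by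
    rw [hgg, mul_smul, mul_smul, inv_smul_eq_iff.2 T.gf.n_far_tz.symm, T.gf.smul_far s tz_mem, s1]; rfl
  have g2 : gg • gam B ι n q0 = B.root_vert := by
    rw [gam, hgg, ← mul_smul, inv_mul_cancel_right, mul_smul, T.gf.smul_far s hq.1, s2, T.gf.n_far_tz]
  have h' := B.linked_smul gg⁻¹ h
  rw [inv_smul_eq_iff.2 g1.symm] at h'
  obtain ⟨z, hz, ez⟩ := T.gf.linked_root h'
  obtain ⟨a, ha, hc⟩ := T.mf.dominate_all hz
  rw [← T.P_eq] at ha
  have k1 := B.linked_smul gg (T.gf.far_linked_root ha.1)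
  have k2 := B.linked_smul gg ha.2
  rw [g1] at k1
  rw [g2] at k2
  obtain ⟨a', ha', ea⟩ := T.gf.linked_root (B.linked_symm k2)
  refine ⟨a', ?_, ?_⟩
  · rw [← T.P_eq]
    exact ⟨ha', ea ▸ B.linked_symm k1⟩
  · rw [← ea, show w = gg • far B ι z by rw [← ez, smul_inv_smul]]
    by_cases e : a = z
    · exact Or.inl (by rw [e])
    · exact Or.inr (B.linked_smul gg ((T.gf.far_linked ha.1 hz).2 ⟨e, hc⟩))

/-- The matched vertices are closed under taking neighbours. -/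
theorem mt_closed {v w : G ⧸ B.grp} {a : M} (hv : Mt B ι n d c L q0 v a) (h : B.Linked v w) :
    ∃ b, Mt B ι n d c L q0 w b := by
  rcases hv with ⟨rfl, -⟩ | ⟨x, hx, rfl, -⟩ | ⟨y, rfl, -⟩
  · obtain ⟨q, hq, rfl⟩ := T.gf.linked_root h
    exact ⟨_, T.mt_far hq⟩
  · exact T.mt_far_nbr hx h
  · have h' := B.linked_smul (ι y)⁻¹ h
    rw [inv_smul_smul] at h'
    obtain ⟨a, ha, k⟩ := T.gam_nbr h'
    have hw : ∀ {b}, Mt B ι n d c L q0 ((ι y)⁻¹ • w) b → ∃ b, Mt B ι n d c L q0 w b := fun hb =>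
      ⟨_, smul_inv_smul (ι y) w ▸ T.mt_iota y hb⟩
    rcases k with k | k
    · exact hw (k ▸ T.mt_far ha.1)
    · obtain ⟨b, hb⟩ := T.mt_far_nbr ha.1 k
      exact hw hb

theorem far_orbit_iff {x : Spor.Fi23} (hx : x ∈ classD) (y : Spor.Fi23) :
    B.Linked (far B ι x) (ι y • gam B ι n q0) ↔ Commute (mu' d L x) (L y * c * (L y)⁻¹) := by
  have hx' : y⁻¹ * x * y ∈ classD := by simpa using conj_mem base_fi23.set.cls y⁻¹ hx
  have e : L y * mu' d L (y⁻¹ * x * y) * (L y)⁻¹ = mu' d L x := by rw [T.mf.mu_conj]; congr 1; group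
  have e' : ι y • far B ι (y⁻¹ * x * y) = far B ι x := by rw [T.gf.smul_far _ hx']; congr 1; group
  rw [← e, commute_conj_iff, ← e']
  constructor
  · intro k
    have := B.linked_smul (ι y)⁻¹ k
    rw [inv_smul_smul, inv_smul_smul] at this
    have hmem : y⁻¹ * x * y ∈ mP B ι n q0 := ⟨hx', this⟩
    rw [T.P_eq] at hmem
    exact hmem.2
  · intro k
    have hmem : y⁻¹ * x * y ∈ mS d c L := ⟨hx', k⟩
    rw [← T.P_eq] at hmem
    exact B.linked_smul _ hmem.2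

/-- Two neighbours of a neighbour of the root. -/
theorem local_linked {x : Spor.Fi23} (hx : x ∈ classD) {v w : G ⧸ B.grp} {a b : M}
    (ha : Mt B ι n d c L q0 v a) (hb : Mt B ι n d c L q0 w b) (hv : B.Linked (far B ι x) v)
    (hw : B.Linked (far B ι x) w) : B.Linked v w ↔ a ≠ b ∧ Commute a b := by
  obtain ⟨y, hy⟩ := transitive base_fi23.set.cls tz_mem hx
  have get : ∀ {v : G ⧸ B.grp} {a : M}, Mt B ι n d c L q0 v a → B.Linked (far B ι x) v →
      ∃ q ∈ classD, v = ι y • n • far B ι q ∧ a = L y * (g * mu' d L q * g⁻¹) * (L y)⁻¹ := by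
    intro v a ha hv
    have h' := B.linked_smul (n⁻¹ * (ι y)⁻¹) hv
    rw [mul_smul, mul_smul, ← hy, ← T.gf.smul_far y tz_mem, inv_smul_smul,
      inv_smul_eq_iff.2 T.gf.n_root.symm] at h'
    obtain ⟨q, hq, e⟩ := T.gf.linked_root h'
    have ev : v = ι y • n • far B ι q := by rw [← e, smul_inv_smul, smul_inv_smul]
    exact ⟨q, hq, ev, T.mt_unique (ev ▸ ha) (T.mt_iota y (T.mt_n_far hq))⟩
  obtain ⟨q, hq, rfl, rfl⟩ := get ha hv
  obtain ⟨q', hq', rfl, rfl⟩ := get hb hw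
  rw [commute_conj_iff, commute_conj_iff, T.mf.mu_commute]
  constructor
  · intro k
    have := B.linked_smul (n⁻¹ * (ι y)⁻¹) k
    rw [mul_smul, mul_smul, inv_smul_smul, inv_smul_smul, inv_smul_smul, inv_smul_smul] at this
    obtain ⟨hne, hc⟩ := (T.gf.far_linked hq hq').1 this
    exact ⟨fun e => hne (T.mf.mu_inj (mul_left_cancel (mul_right_cancel
      (mul_left_cancel (mul_right_cancel e))))), hc⟩
  · rintro ⟨hne, hc⟩
    exact B.linked_smul _ (B.linked_smul _ ((T.gf.far_linked hq hq').2 ⟨fun e => hne (by rw [e]), hc⟩))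

theorem linked_ne {v w : G ⧸ B.grp} (h : B.Linked v w) : v ≠ w := fun e => B.not_linked_self w (e ▸ h)

/-- Edges are the commuting pairs. -/
theorem mt_linked {v w : G ⧸ B.grp} {a b : M} (ha : Mt B ι n d c L q0 v a) (hb : Mt B ι n d c L q0 w b) :
    B.Linked v w ↔ a ≠ b ∧ Commute a b := by
  have symm' : ∀ {v w : G ⧸ B.grp} {a b : M}, (B.Linked v w ↔ a ≠ b ∧ Commute a b) →
      (B.Linked w v ↔ b ≠ a ∧ Commute b a) := fun h =>
    ⟨fun k => ⟨(h.1 (B.linked_symm k)).1.symm, (h.1 (B.linked_symm k)).2.symm⟩,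
      fun k => B.linked_symm (h.2 ⟨k.1.symm, k.2.symm⟩)⟩
  have rf : ∀ {x}, x ∈ classD → (B.Linked B.root_vert (far B ι x) ↔ d ≠ mu' d L x ∧ Commute d (mu' d L x)) :=
    fun hx => iff_of_true (T.gf.far_linked_root hx) ⟨(T.mf.mem_perp hx).2.1.symm, (T.mf.mem_perp hx).2.2⟩
  have ro : ∀ y, B.Linked B.root_vert (ι y • gam B ι n q0) ↔
      d ≠ L y * c * (L y)⁻¹ ∧ Commute d (L y * c * (L y)⁻¹) :=
    fun y => iff_of_false (T.orbit_not_linked y).2 fun k => T.orbit_apart y k.2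
  have fo : ∀ {x}, x ∈ classD → ∀ y, (B.Linked (far B ι x) (ι y • gam B ι n q0) ↔
      mu' d L x ≠ L y * c * (L y)⁻¹ ∧ Commute (mu' d L x) (L y * c * (L y)⁻¹)) := fun hx y =>
    (T.far_orbit_iff hx y).trans
      ⟨fun k => ⟨fun e => T.orbit_apart y (e ▸ (T.mf.mem_perp hx).2.2), k⟩, fun k => k.2⟩
  have oo : ∀ y, (B.Linked (gam B ι n q0) (ι y • gam B ι n q0) ↔
      c ≠ L y * c * (L y)⁻¹ ∧ Commute c (L y * c * (L y)⁻¹)) := by
    intro y
    have hmy : Mt B ι n d c L q0 (ι y • gam B ι n q0) (L y * c * (L y)⁻¹) := T.mt_iota y T.mt_gam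
    have near : ∀ {a}, a ∈ mS d c L → B.Linked (far B ι a) (gam B ι n q0) := fun ha => by
      rw [← T.P_eq] at ha; exact ha.2
    constructor
    · intro k
      obtain ⟨a, ha, e | e⟩ := T.gam_nbr k
      · exact absurd (e ▸ T.gf.far_linked_root ha.1) (T.orbit_not_linked y).2
      · exact (T.local_linked ha.1 T.mt_gam hmy (near ha) e).1 k
    · intro k
      obtain ⟨a, ha, e⟩ := T.mf.apart_near (conj_mem T.mf.base.set.cls (L y) T.mf.cD) k.2
      exact (T.local_linked ha.1 T.mt_gam hmy (near ha) ((T.far_orbit_iff ha.1 y).2 e)).2 k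
  rcases ha with ⟨rfl, rfl⟩ | ⟨x, hx, rfl, rfl⟩ | ⟨y, rfl, rfl⟩ <;>
    rcases hb with ⟨rfl, rfl⟩ | ⟨x', hx', rfl, rfl⟩ | ⟨y', rfl, rfl⟩
  · exact iff_of_false (B.not_linked_self _) fun k => k.1 rfl
  · exact rf hx'
  · exact ro y'
  · exact symm' (rf hx)
  · rw [T.gf.far_linked hx hx', T.mf.mu_commute]
    exact and_congr_left fun _ => ⟨fun h e => h (T.mf.mu_inj e), fun h e => h (by rw [e])⟩
  · exact fo hx y'
  · exact symm' (ro y)
  · exact symm' (fo hx' y)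
  · have h := oo (y⁻¹ * y')
    have e1 : ι y' • gam B ι n q0 = ι y • ι (y⁻¹ * y') • gam B ι n q0 := by
      rw [← mul_smul, ← map_mul, mul_inv_cancel_left]
    have e2 : L y' * c * (L y')⁻¹ = L y * (L (y⁻¹ * y') * c * (L (y⁻¹ * y'))⁻¹) * (L y)⁻¹ := by
      rw [map_mul, map_inv]; group
    constructor
    · intro k
      have k' := B.linked_smul (ι y)⁻¹ k
      rw [inv_smul_smul, e1, inv_smul_smul] at k'
      obtain ⟨hne, hc⟩ := h.1 k'
      rw [e2]
      exact ⟨fun e => hne (mul_left_cancel (mul_right_cancel e)), (commute_conj_iff _ _ _).2 hc⟩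
    · rintro ⟨hne, hc⟩
      rw [e2] at hne hc
      rw [e1]
      exact B.linked_smul _ (h.2 ⟨fun e => hne (by rw [← e]), (commute_conj_iff _ _ _).1 hc⟩)

/-- Every transposition is matched. -/
theorem mt_total {a : M} (ha : a ∈ D) : ∃ v, Mt B ι n d c L q0 v a := by
  by_cases h1 : a = d
  · exact ⟨_, Or.inl ⟨rfl, h1⟩⟩
  by_cases h2 : Commute d a
  · obtain ⟨x, hx, e⟩ := T.mf.perp_eq.le (show a ∈ perp D d from ⟨ha, h1, h2⟩)
    exact ⟨_, Or.inr (Or.inl ⟨x, hx, rfl, e.symm⟩)⟩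
  · obtain ⟨u, hu, eu⟩ := transitive_apart T.mf.base.set.hyp T.mf.dD (a₀ := c) (b₀ := a)
      ⟨T.mf.cD, fun k => T.mf.apart k.symm⟩ ⟨ha, fun k => h2 k.symm⟩
    obtain ⟨y, hy | hy⟩ := T.mf.cover u (localGroup_commute hu)
    · exact ⟨_, Or.inr (Or.inr ⟨y, rfl, by rw [← hy, eu]⟩)⟩
    · refine ⟨_, Or.inr (Or.inr ⟨y * tz, rfl, ?_⟩)⟩
      rw [← eu, hy, map_mul]
      calc L y * d * c * (L y * d)⁻¹ = L y * (d * c * d⁻¹) * (L y)⁻¹ := by group
        _ = _ := by rw [inv_eq_of_mul_eq_one_right T.mf.dd, ← T.mf.tz_conj_c]; group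

end Matching

end Cfsg.Agent.Fus.Fi24Rec
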