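/-
The two turning elements square to the same thing, so turning respects the matching.
-/
import Cfsg.Agent.Lib.Fus.Fi24Rec.Diameter

set_option autoImplicit false
set_option linter.style.haveILetI false
set_option linter.unusedSectionVars false
set_option maxRecDepth 100000

open Cfsg Cfsg.Agent.Spor.ThreeTrans Cfsg.Agent.Block.FischerTypes
open Cfsg.Agent.Block.M23Up (base_fi23 tz_mem)
open Cfsg.Agent.Fus.M23U.TypeOf (classD)
open Cfsg.Agent.Block.FischerTypes.M22 (perp_symm)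

namespace Cfsg.Agent.Fus.Fi24Rec

variable {G : Type*} [Group G] [Finite G] {t : G} {K : Subgroup G} {M : Type*} [Group M] [Finite M]

/-- The squares of the turning elements agree. -/
def Turn (ι : Spor.Fi23 →* G) (n : G) (d : M) (L : Spor.Fi23 →* M) (g : M) : Prop :=
  ∃ k : ↥PG0, n * n = ι (k : Spor.Fi23) ∧
    (g * g = L (k : Spor.Fi23) ∨ g * g = L (k : Spor.Fi23) * d)

/-- A transposition and what turning makes of it, read in the model. -/
def Img (B : Base t K) (ι : Spor.Fi23 →* G) (n : G) (d c : M) (L : Spor.Fi23 →* M) (g : M) (q0 : Spor.Fi23)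
    (a b : M) : Prop :=
  ∃ v, Mt B ι n d c L q0 v a ∧ Mt B ι n d c L q0 (n • v) (g * b * g⁻¹)

namespace Matching

variable {B : Base t K} {ι : Spor.Fi23 →* G} {n : G} {D : Set M} {d c : M} {L : Spor.Fi23 →* M} {g : M}
  {ν : MulAut ↥PG0} {q0 : Spor.Fi23} (T : Matching B ι n D d c L g ν q0)
include T

/-- After changing the model's element by the transposition the squares agree. -/
theorem exists_turn : ∃ g', Matching B ι n D d c L g' ν q0 ∧ Turn ι n d L g' := by
  have F := T.mf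
  have hn : n * n ∈ B.grp := B.fix_root_vert.1 (by rw [mul_smul, T.gf.n_root, T.gf.n_far_tz])
  obtain ⟨k', hk'⟩ := T.gf.range.ge hn
  have hkt : Commute k' tz := T.gf.inj (by
    rw [map_mul, map_mul, hk', T.gf.map_tz]
    have h : n * t = t * n := mul_inv_eq_iff_eq_mul.1 T.gf.n_conj
    rw [mul_assoc, h, ← mul_assoc, h, mul_assoc])
  set k : ↥PG0 := ⟨k', mem_PG0_of_commute hkt⟩ with hkdef
  have hk : ι (k : Spor.Fi23) = n * n := hk'
  have hgd : g * g * d * (g * g)⁻¹ = d := by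
    calc g * g * d * (g * g)⁻¹ = g * (g * d * g⁻¹) * g⁻¹ := by group
      _ = _ := by rw [T.g_d, T.g_e]
  obtain ⟨w', hw'⟩ := F.cover (g * g) (mul_inv_eq_iff_eq_mul.1 hgd)
  have hge : g * g * mu' d L tz * (g * g)⁻¹ = mu' d L tz := by
    calc g * g * mu' d L tz * (g * g)⁻¹ = g * (g * mu' d L tz * g⁻¹) * g⁻¹ := by group
      _ = _ := by rw [T.g_e, T.g_d]
  have hconj : ∀ x, g * g * mu' d L x * (g * g)⁻¹ = mu' d L (w' * x * w'⁻¹) := by
    intro x
    rcases hw' with e | e <;> rw [e, ← F.mu_conj]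
    have hc : Commute d (mu' d L x) := (F.comm x).symm.mul_right (Commute.refl d)
    calc L w' * d * mu' d L x * (L w' * d)⁻¹ = L w' * (d * mu' d L x * d⁻¹) * (L w')⁻¹ := by group
      _ = _ := by rw [conj_self_eq hc]
  have hwt : Commute w' tz := by
    have := (hconj tz).symm.trans hge
    exact mul_inv_eq_iff_eq_mul.1 (F.mu_inj this)
  set w : ↥PG0 := ⟨w', mem_PG0_of_commute hwt⟩ with hwdef
  have hL : ∀ y : ↥PG0, g * g * L (y : Spor.Fi23) * (g * g)⁻¹ = L ((w * y * w⁻¹ : ↥PG0) : Spor.Fi23) := by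
    intro y
    have e : L ((w * y * w⁻¹ : ↥PG0) : Spor.Fi23) = L w' * L (y : Spor.Fi23) * (L w')⁻¹ := by
      simp only [Subgroup.coe_mul, Subgroup.coe_inv, map_mul, map_inv]; rfl
    rw [e]
    rcases hw' with e | e <;> rw [e]
    calc L w' * d * L (y : Spor.Fi23) * (L w' * d)⁻¹ = L w' * (d * L (y : Spor.Fi23) * d⁻¹) * (L w')⁻¹ := by
          group
      _ = _ := by rw [conj_self_eq (F.comm _).symm]
  have key : ∀ y : ↥PG0, w * y * w⁻¹ = k * y * k⁻¹ := by
    intro y
    have e1 : L ((w * y * w⁻¹ : ↥PG0) : Spor.Fi23) = L (ν (ν y) : Spor.Fi23) := by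
      rw [← hL, ← T.g_aut, ← T.g_aut]; group
    have e2 : ι ((k * y * k⁻¹ : ↥PG0) : Spor.Fi23) = ι (ν (ν y) : Spor.Fi23) := by
      simp only [Subgroup.coe_mul, Subgroup.coe_inv, map_mul, map_inv]
      rw [hk, ← T.gf.n_aut, ← T.gf.n_aut]; group
    exact (Subtype.ext (F.inj e1)).trans (Subtype.ext (T.gf.inj e2)).symm
  have hz : k⁻¹ * w ∈ Subgroup.center ↥PG0 := Subgroup.mem_center_iff.2 fun y => by
    calc y * (k⁻¹ * w) = k⁻¹ * (k * y * k⁻¹) * w := by group
      _ = k⁻¹ * (w * y * w⁻¹) * w := by rw [key]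
      _ = _ := by group
  rcases center_cases hz with e | e
  · refine ⟨g, T, k, hk.symm, ?_⟩
    have : w' = (k : Spor.Fi23) := congrArg Subtype.val (inv_mul_eq_one.1 e).symm
    rw [this] at hw'
    exact hw'
  · have ed : d⁻¹ = d := inv_eq_of_mul_eq_one_right F.dd
    have hdm : ∀ x, d * mu' d L x * d⁻¹ = mu' d L x := fun x =>
      conj_self_eq ((F.comm x).symm.mul_right (Commute.refl d))
    refine ⟨g * d, ⟨T.gf, F, ?_, ?_, fun y => ?_, T.q0_mem, ?_⟩, k, hk.symm, ?_⟩
    · calc g * d * d * (g * d)⁻¹ = g * (d * d * d⁻¹) * g⁻¹ := by group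
        _ = _ := by rw [mul_inv_cancel_right]; exact T.g_d
    · calc g * d * mu' d L tz * (g * d)⁻¹ = g * (d * mu' d L tz * d⁻¹) * g⁻¹ := by group
        _ = _ := by rw [hdm]; exact T.g_e
    · calc g * d * L (y : Spor.Fi23) * (g * d)⁻¹ = g * (d * L (y : Spor.Fi23) * d⁻¹) * g⁻¹ := by group
        _ = _ := by rw [conj_self_eq (F.comm _).symm]; exact T.g_aut y
    · calc g * d * mu' d L q0 * (g * d)⁻¹ = g * (d * mu' d L q0 * d⁻¹) * g⁻¹ := by group
        _ = _ := by rw [hdm]; exact T.q0_c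
    · have hw : w' = (k : Spor.Fi23) * tz := congrArg Subtype.val (inv_mul_eq_iff_eq_mul.1 e)
      have h1 : g * d * (g * d) = mu' d L tz * (g * g) * d := by rw [← T.g_d]; group
      have h2 : mu' d L tz * L w' = L (k : Spor.Fi23) * d := by
        show L tz * d * L w' = _
        rw [mul_assoc, ← (F.comm w').eq, ← mul_assoc, ← map_mul, hw, ← mul_assoc,
          (commute_tz k).symm.eq, mul_assoc (k : Spor.Fi23), F.tz_mul_self, mul_one]
      rcases hw' with e' | e'
      · exact Or.inl (by rw [h1, e', h2, mul_assoc, F.dd, mul_one])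
      · exact Or.inr (by rw [h1, e', ← mul_assoc, h2, mul_assoc, mul_assoc, F.dd, mul_one])

theorem mt_mem {v : G ⧸ B.grp} {a : M} (h : Mt B ι n d c L q0 v a) : a ∈ D := by
  rcases h with ⟨-, rfl⟩ | ⟨x, hx, -, rfl⟩ | ⟨y, -, rfl⟩
  exacts [T.mf.dD, (T.mf.mem_perp hx).1, conj_mem T.mf.base.set.cls _ T.mf.cD]

theorem mt_n_exists {v : G ⧸ B.grp} {a : M} (h : Mt B ι n d c L q0 v a) :
    ∃ b, Mt B ι n d c L q0 (n • v) b := by
  rcases h with ⟨rfl, -⟩ | ⟨x, hx, rfl, -⟩ | ⟨y, rfl, -⟩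
  · exact ⟨_, T.gf.n_root.symm ▸ T.mt_far tz_mem⟩
  · exact ⟨_, T.mt_n_far hx⟩
  · refine T.mt_closed (T.mt_n_far (conj_mem base_fi23.set.cls y tz_mem)) (B.linked_smul n ?_)
    rw [← T.gf.smul_far y tz_mem]
    exact B.linked_smul _ T.tz_P.2

theorem exists_img {a : M} (ha : a ∈ D) : ∃ b ∈ D, Img B ι n d c L g q0 a b := by
  obtain ⟨v, hv⟩ := T.mt_total ha
  obtain ⟨b, hb⟩ := T.mt_n_exists hv
  refine ⟨g⁻¹ * b * g, ?_, v, hv, ?_⟩
  · have := conj_mem T.mf.base.set.cls g⁻¹ (T.mt_mem hb)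
    rwa [inv_inv] at this
  · rwa [show g * (g⁻¹ * b * g) * g⁻¹ = b by group]

theorem img_inj {a a' b : M} (h : Img B ι n d c L g q0 a b) (h' : Img B ι n d c L g q0 a' b) : a = a' := by
  obtain ⟨v, hv, hb⟩ := h
  obtain ⟨w, hw, hb'⟩ := h'
  have := T.mt_unique' hb hb'
  rw [smul_left_cancel_iff] at this
  exact T.mt_unique hv (this ▸ hw)

theorem img_fun {a b b' : M} (h : Img B ι n d c L g q0 a b) (h' : Img B ι n d c L g q0 a b') : b = b' := by
  obtain ⟨v, hv, hb⟩ := h
  obtain ⟨w, hw, hb'⟩ := h'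
  rw [← T.mt_unique' hv hw] at hb'
  exact mul_left_cancel (mul_right_cancel (T.mt_unique hb hb'))

theorem img_comm {a a' b b' : M} (h : Img B ι n d c L g q0 a b) (h' : Img B ι n d c L g q0 a' b') :
    (a ≠ a' ∧ Commute a a') ↔ (b ≠ b' ∧ Commute b b') := by
  obtain ⟨v, hv, hb⟩ := h
  obtain ⟨w, hw, hb'⟩ := h'
  have e : B.Linked (n • v) (n • w) ↔ B.Linked v w :=
    ⟨fun k => by simpa using B.linked_smul n⁻¹ k, B.linked_smul n⟩
  rw [← T.mt_linked hv hw, ← e, T.mt_linked hb hb', commute_conj_iff]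
  exact and_congr_left fun _ => ⟨fun k e => k (by rw [e]), fun k e => k (mul_left_cancel (mul_right_cancel e))⟩

theorem img_d : Img B ι n d c L g q0 d d :=
  ⟨_, T.mt_root, by rw [T.gf.n_root, T.g_d]; exact T.mt_far tz_mem⟩

theorem img_mu {x : Spor.Fi23} (hx : x ∈ classD) : Img B ι n d c L g q0 (mu' d L x) (mu' d L x) :=
  ⟨_, T.mt_far hx, T.mt_n_far hx⟩

theorem turn_mu {k : ↥PG0} (h : g * g = L (k : Spor.Fi23) ∨ g * g = L (k : Spor.Fi23) * d) (x : Spor.Fi23) :
    g * g * mu' d L x * (g * g)⁻¹ = mu' d L ((k : Spor.Fi23) * x * (k : Spor.Fi23)⁻¹) := by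
  have hc : d * mu' d L x * d⁻¹ = mu' d L x :=
    conj_self_eq ((T.mf.comm x).symm.mul_right (Commute.refl d))
  rcases h with e | e <;> rw [e, ← T.mf.mu_conj]
  calc L (k : Spor.Fi23) * d * mu' d L x * (L (k : Spor.Fi23) * d)⁻¹
      = L (k : Spor.Fi23) * (d * mu' d L x * d⁻¹) * (L (k : Spor.Fi23))⁻¹ := by group
    _ = _ := by rw [hc]

theorem img_c (hT : Turn ι n d L g) : Img B ι n d c L g q0 c c := by
  obtain ⟨k, hk, hg⟩ := hT
  refine ⟨gam B ι n q0, T.mt_gam, ?_⟩
  have e : g * c * g⁻¹ = g * g * mu' d L q0 * (g * g)⁻¹ := by rw [← T.q0_c]; group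
  rw [e, T.turn_mu hg, gam, ← mul_smul, hk, T.gf.smul_far _ T.q0_mem.1]
  exact T.mt_far (conj_mem base_fi23.set.cls _ T.q0_mem.1)

/-- The image of a transposition apart from the root is itself or its conjugate under the root. -/
theorem img_cases {a b : M} (ha : a ∈ D) (had : ¬ Commute d a) (hb : b ∈ D) (h : Img B ι n d c L g q0 a b) :
    b = a ∨ b = d * a * d := by
  have hall : ∀ y ∈ common D d a, Commute b y := by
    intro y hy
    obtain ⟨x, hx, rfl⟩ := T.mf.perp_eq.le hy.1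
    exact ((T.img_comm h (T.img_mu hx)).1 ⟨Ne.symm hy.2.2.1, hy.2.2.2⟩).2
  rcases ThreeA.M24.pin T.mf.base T.mf.dD ha had b hb hall with e | e | e
  · subst e
    exact absurd (T.img_inj h T.img_d) fun k => had (k ▸ Commute.refl _)
  · exact Or.inl e
  · exact Or.inr e

theorem apart_of_commute {a b : M} (hb : b ∈ D) (hbd : ¬ Commute d b) (h1 : Commute a b)
    (h2 : Commute a (d * b * d)) : Commute a d := by
  have h := T.mf.base.set.cls
  have hbb := mul_self h.1 hb
  have e : b * (d * b * d) * b = d := by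
    rw [show b * (d * b * d) * b = (b * d * b) * d * b by simp only [mul_assoc],
      braid h.1 hb T.mf.dD fun k => hbd k.symm, mul_assoc (d * b), T.mf.dd, mul_one, mul_assoc, hbb, mul_one]
  have := (h1.mul_right h2).mul_right h1
  rwa [e] at this

/-- Fixed transpositions spread to the neighbours apart from the root. -/
theorem img_step {a b : M} (ha : a ∈ D) (had : ¬ Commute d a) (hb : b ∈ D) (hbd : ¬ Commute d b)
    (h : Commute a b) (hf : Img B ι n d c L g q0 a a) : Img B ι n d c L g q0 b b := by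
  by_cases e : a = b
  · exact e ▸ hf
  obtain ⟨b', hb', h'⟩ := T.exists_img hb
  rcases T.img_cases hb hbd hb' h' with rfl | rfl
  · exact h'
  · exact absurd (T.apart_of_commute hb hbd h ((T.img_comm hf h').1 ⟨e, h⟩).2).symm had

/-- Every image is the transposition itself. -/
theorem img_self (hT : Turn ι n d L g) {a : M} (ha : a ∈ D) : Img B ι n d c L g q0 a a := by
  by_cases h1 : a = d
  · exact h1 ▸ T.img_d
  by_cases h2 : Commute d a
  · obtain ⟨x, hx, rfl⟩ := T.mf.perp_eq.le (show a ∈ perp D d from ⟨ha, h1, h2⟩)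
    exact T.img_mu hx
  have hc := T.img_c hT
  by_cases h3 : Commute c a
  · exact T.img_step T.mf.cD T.mf.apart ha h2 h3 hc
  by_cases h4 : ∃ z ∈ common D c a, ¬ Commute d z
  · obtain ⟨z, hz, hzd⟩ := h4
    exact T.img_step hz.1.1 hzd ha h2 hz.2.2.2.symm (T.img_step T.mf.cD T.mf.apart hz.1.1 hzd hz.1.2.2 hc)
  push Not at h4
  have hsub : common D c a ⊆ common D d c := fun z hz =>
    ⟨⟨hz.1.1, fun e => T.mf.apart (e ▸ hz.1.2.2).symm, h4 z hz⟩, hz.1⟩
  have heq : common D c a = common D d c := Set.eq_of_subset_of_ncard_le hsub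
    (by rw [M24.mu T.mf.base T.mf.dD T.mf.cD T.mf.apart, M24.mu T.mf.base T.mf.cD ha h3]) (Set.toFinite _)
  rcases ThreeA.M24.pin T.mf.base T.mf.dD T.mf.cD T.mf.apart a ha
    (fun y hy => (heq.ge hy).2.2.2) with e | e | e
  · exact absurd e h1
  · exact e ▸ hc
  · obtain ⟨b', hb', h'⟩ := T.exists_img ha
    rcases T.img_cases ha h2 hb' h' with rfl | rfl
    · exact h'
    · have e' : d * a * d = c := by
        rw [e, show d * (d * c * d) * d = (d * d) * c * (d * d) by simp only [mul_assoc], T.mf.dd, one_mul, mul_one]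
      rw [e'] at h'
      have := T.img_inj h' hc
      exact this ▸ hc

/-- Turning respects the matching. -/
theorem mt_n (hT : Turn ι n d L g) {v : G ⧸ B.grp} {a : M} (h : Mt B ι n d c L q0 v a) :
    Mt B ι n d c L q0 (n • v) (g * a * g⁻¹) := by
  obtain ⟨w, hw, hb⟩ := T.img_self hT (T.mt_mem h)
  rwa [T.mt_unique' h hw]

end Matching

end Cfsg.Agent.Fus.Fi24Rec
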