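/-
The pairs respecting the matching: a subgroup of the group is the derived group of the model.
-/
import Cfsg.Agent.Lib.Fus.Fi24Rec.Turn
import Cfsg.Agent.Lib.Block.FischerTypes.M24Group

set_option autoImplicit false
set_option linter.style.haveILetI false
set_option linter.unusedSectionVars false
set_option maxRecDepth 100000

open Cfsg Cfsg.Agent.Spor.ThreeTrans Cfsg.Agent.Block.FischerTypes
open Cfsg.Agent.Block.M23Up (base_fi23 tz_mem)
open Cfsg.Agent.Fus.M23U.TypeOf (classD)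

namespace Cfsg.Agent.Fus.Fi24Rec

variable {G : Type*} [Group G] [Finite G] {t : G} {K : Subgroup G} {M : Type*} [Group M] [Finite M]

/-- The pairs carrying matched places to matched places. -/
def resp (B : Base t K) (ι : Spor.Fi23 →* G) (n : G) (d c : M) (L : Spor.Fi23 →* M) (q0 : Spor.Fi23) :
    Subgroup (G × M) where
  carrier := {p | ∀ v a, Mt B ι n d c L q0 v a → Mt B ι n d c L q0 (p.1 • v) (p.2 * a * p.2⁻¹)}
  one_mem' := fun v a h => by simpa using h
  mul_mem' := fun {p q} hp hq v a h => by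
    have := hp _ _ (hq v a h)
    show Mt B ι n d c L q0 ((p.1 * q.1) • v) (p.2 * q.2 * a * (p.2 * q.2)⁻¹)
    rw [mul_smul, show p.2 * q.2 * a * (p.2 * q.2)⁻¹ = p.2 * (q.2 * a * q.2⁻¹) * p.2⁻¹ by group]
    exact this
  inv_mem' := fun {p} hp v a h => by
    have hpow : ∀ k, ∀ v a, Mt B ι n d c L q0 v a →
        Mt B ι n d c L q0 ((p ^ k).1 • v) ((p ^ k).2 * a * (p ^ k).2⁻¹) := by
      intro k
      induction k with
      | zero => intro v a h; simpa using h
      | succ k ih =>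
        intro v a h
        have := hp _ _ (ih v a h)
        rw [pow_succ']
        show Mt B ι n d c L q0 ((p.1 * (p ^ k).1) • v) (p.2 * (p ^ k).2 * a * (p.2 * (p ^ k).2)⁻¹)
        rw [mul_smul, show p.2 * (p ^ k).2 * a * (p.2 * (p ^ k).2)⁻¹ =
          p.2 * ((p ^ k).2 * a * (p ^ k).2⁻¹) * p.2⁻¹ by group]
        exact this
    have e : p⁻¹ = p ^ (orderOf p - 1) := inv_eq_of_mul_eq_one_right (by
      rw [← pow_succ', Nat.sub_add_cancel (orderOf_pos p), pow_orderOf_eq_one])
    rw [e]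
    exact hpow _ v a h

namespace Matching

variable {B : Base t K} {ι : Spor.Fi23 →* G} {n : G} {D : Set M} {d c : M} {L : Spor.Fi23 →* M} {g : M}
  {ν : MulAut ↥PG0} {q0 : Spor.Fi23} (T : Matching B ι n D d c L g ν q0) (hT : Turn ι n d L g)
include T

theorem iota_resp (y : Spor.Fi23) : (ι y, L y) ∈ resp B ι n d c L q0 := fun _ _ h => T.mt_iota y h

theorem one_resp {m : M} (h : ((1 : G), m) ∈ resp B ι n d c L q0) : m = 1 := by
  have hgen : Subgroup.closure D ≤ Subgroup.centralizer ({m} : Set M) := by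
    refine (Subgroup.closure_le _).2 fun a ha => ?_
    obtain ⟨v, hv⟩ := T.mt_total ha
    have h' := h v a hv
    simp only [one_smul] at h'
    exact Subgroup.mem_centralizer_singleton_iff.2 (mul_inv_eq_iff_eq_mul.1 (T.mt_unique h' hv)).symm
  have hc : m ∈ Subgroup.center M := Subgroup.mem_center_iff.2 fun x =>
    Subgroup.mem_centralizer_singleton_iff.1 (hgen (T.mf.base.set.cls.2.2 ▸ Subgroup.mem_top x))
  rwa [T.mf.base.cen, Subgroup.mem_bot] at hc

/-- A pair fixing the root transposition is the image of an element below it. -/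
theorem root_resp {x : G} {m : M} (h : (x, m) ∈ resp B ι n d c L q0) (hm : m * d * m⁻¹ = d) :
    ∃ y, x = ι y ∧ m = L y := by
  have h' := h _ _ T.mt_root
  simp only [hm] at h'
  have hx := B.fix_root_vert.1 (T.mt_unique' h' T.mt_root)
  obtain ⟨y, rfl⟩ := T.gf.range.ge hx
  have h2 := mul_mem (inv_mem (T.iota_resp y)) h
  rw [Prod.inv_mk, Prod.mk_mul_mk, inv_mul_cancel] at h2
  exact ⟨y, rfl, (inv_mul_eq_one.1 (T.one_resp h2)).symm⟩

theorem resp_fst_inj {p : G × M} (hp : p ∈ resp B ι n d c L q0) (h : p.1 = 1) : p = 1 :=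
  Prod.ext h (T.one_resp (h ▸ hp))

theorem resp_snd_inj {p : G × M} (hp : p ∈ resp B ι n d c L q0) (h : p.2 = 1) : p = 1 := by
  obtain ⟨y, hy, hy'⟩ := T.root_resp (x := p.1) (m := p.2) hp (by rw [h]; simp)
  refine Prod.ext ?_ h
  rw [hy, T.mf.inj (show L y = L 1 by rw [← hy', h, map_one]), map_one]
  rfl

theorem d_not_snd : d ∉ (resp B ι n d c L q0).map (MonoidHom.snd G M) := by
  rintro ⟨⟨x, m⟩, hp, e : m = d⟩
  subst e
  obtain ⟨y, -, hy⟩ := T.root_resp hp (mul_inv_cancel_right m m)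
  exact T.mf.ne_d y hy.symm

include hT

theorem n_resp : (n, g) ∈ resp B ι n d c L q0 := fun _ _ h => T.mt_n hT h

/-- Every matched place is reached from the root. -/
theorem reach {v : G ⧸ B.grp} {a : M} (h : Mt B ι n d c L q0 v a) :
    ∃ p ∈ resp B ι n d c L q0, p.1 • B.root_vert = v ∧ p.2 * d * p.2⁻¹ = a := by
  have h0 := base_fi23.set.cls
  have far' : ∀ x ∈ classD, ∃ p ∈ resp B ι n d c L q0,
      p.1 • B.root_vert = far B ι x ∧ p.2 * d * p.2⁻¹ = mu' d L x := by
    intro x hx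
    obtain ⟨y, hy⟩ := transitive h0 tz_mem hx
    refine ⟨(ι y * n, L y * g), mul_mem (T.iota_resp y) (T.n_resp hT), ?_, ?_⟩
    · rw [mul_smul, T.gf.n_root, T.gf.smul_far y tz_mem, hy]
    · calc L y * g * d * (L y * g)⁻¹ = L y * (g * d * g⁻¹) * (L y)⁻¹ := by group
        _ = _ := by rw [T.g_d, T.mf.mu_conj, hy]
  rcases h with ⟨rfl, rfl⟩ | ⟨x, hx, rfl, rfl⟩ | ⟨y, rfl, rfl⟩
  · exact ⟨1, one_mem _, one_smul _ _, by simp⟩
  · exact far' x hx
  · obtain ⟨⟨x, m⟩, hp, e1, e2⟩ := far' q0 T.q0_mem.1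
    refine ⟨(ι y * (n * x), L y * (g * m)), mul_mem (T.iota_resp y) (mul_mem (T.n_resp hT) hp), ?_, ?_⟩
    · rw [mul_smul, mul_smul, e1]; rfl
    · show L y * (g * m) * d * (L y * (g * m))⁻¹ = _
      calc L y * (g * m) * d * (L y * (g * m))⁻¹ = L y * (g * (m * d * m⁻¹) * g⁻¹) * (L y)⁻¹ := by group
        _ = _ := by rw [show m * d * m⁻¹ = mu' d L q0 from e2, T.q0_c]

theorem snd_index : ((resp B ι n d c L q0).map (MonoidHom.snd G M)).index = 2 := by
  set H := (resp B ι n d c L q0).map (MonoidHom.snd G M) with hH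
  have hd : d ∉ H := T.d_not_snd
  refine Subgroup.index_eq_two_iff.2 ⟨d, fun b => ?_⟩
  obtain ⟨v, hv⟩ := T.mt_total (conj_mem T.mf.base.set.cls b T.mf.dD)
  obtain ⟨⟨x, m⟩, hp, -, e⟩ := T.reach hT hv
  have hm : m ∈ H := ⟨_, hp, rfl⟩
  have hc : Commute (m⁻¹ * b) d := mul_inv_eq_iff_eq_mul.1 (by
    calc m⁻¹ * b * d * (m⁻¹ * b)⁻¹ = m⁻¹ * (b * d * b⁻¹) * m := by group
      _ = m⁻¹ * (m * d * m⁻¹) * m := by rw [show m * d * m⁻¹ = b * d * b⁻¹ from e]
      _ = d := by group)
  obtain ⟨y, hy⟩ := T.mf.cover _ hc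
  have hy' : L y ∈ H := ⟨_, T.iota_resp y, rfl⟩
  rcases hy with hy | hy
  · have hb : b ∈ H := by
      have := mul_mem hm hy'
      rwa [← hy, mul_inv_cancel_left] at this
    exact Or.inr ⟨hb, fun k => hd (by simpa using mul_mem (inv_mem hb) k)⟩
  · have hbd : b * d ∈ H := by
      have := mul_mem hm hy'
      rwa [show L y = m⁻¹ * b * d by rw [hy, mul_assoc, T.mf.dd, mul_one], mul_assoc m⁻¹,
        mul_inv_cancel_left] at this
    exact Or.inl ⟨hbd, fun k => hd (by simpa using mul_mem (inv_mem k) hbd)⟩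

theorem snd_eq_commutator : (resp B ι n d c L q0).map (MonoidHom.snd G M) = commutator M := by
  have hidx := T.snd_index hT
  set H := (resp B ι n d c L q0).map (MonoidHom.snd G M)
  have hle : commutator M ≤ H := by
    rw [commutator_def, Subgroup.commutator_le]
    intro a _ b _
    show a * b * a⁻¹ * b⁻¹ ∈ H
    simp only [Subgroup.mul_mem_iff_of_index_two hidx, inv_mem_iff]
    tauto
  refine (Subgroup.eq_of_le_of_card_ge hle (le_of_eq ?_)).symm
  have h1 := H.card_mul_index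
  have h2 := (commutator M).card_mul_index
  rw [hidx] at h1
  rw [Block.FischerTypes.M24.commutator_index T.mf.base ⟨d, T.mf.dD⟩] at h2
  omega

/-- The group reached, and its identification with the derived group of the model. -/
theorem exists_iso : ∃ e : ↥((resp B ι n d c L q0).map (MonoidHom.fst G M)) ≃* ↥(commutator M),
    ∀ p ∈ resp B ι n d c L q0, ∀ h : p.1 ∈ (resp B ι n d c L q0).map (MonoidHom.fst G M),
      (e ⟨p.1, h⟩ : M) = p.2 := by
  set R := resp B ι n d c L q0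
  let f := (MonoidHom.fst G M).subgroupMap R
  let s := (MonoidHom.snd G M).subgroupMap R
  have hf : Function.Bijective f := ⟨(injective_iff_map_eq_one f).2 fun p hp =>
    Subtype.ext (T.resp_fst_inj p.2 (congrArg Subtype.val hp)), MonoidHom.subgroupMap_surjective _ _⟩
  have hs : Function.Bijective s := ⟨(injective_iff_map_eq_one s).2 fun p hp =>
    Subtype.ext (T.resp_snd_inj p.2 (congrArg Subtype.val hp)), MonoidHom.subgroupMap_surjective _ _⟩
  refine ⟨((MulEquiv.ofBijective f hf).symm.trans (MulEquiv.ofBijective s hs)).trans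
    (MulEquiv.subgroupCongr (T.snd_eq_commutator hT)), fun p hp h => ?_⟩
  have e : (MulEquiv.ofBijective f hf).symm ⟨p.1, h⟩ = ⟨p, hp⟩ :=
    (MulEquiv.ofBijective f hf).symm_apply_eq.2 rfl
  simp only [MulEquiv.trans_apply, e]
  rfl

/-- The centraliser of the edge lies in it. -/
theorem centralizer_le : Subgroup.centralizer ({t} : Set G) ≤ (resp B ι n d c L q0).map (MonoidHom.fst G M) := by
  set H := (resp B ι n d c L q0).map (MonoidHom.fst G M)
  have hK : ∀ k ∈ K, k ∈ H := fun k hk => by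
    obtain ⟨y, rfl⟩ := T.gf.range.ge (B.K_le_grp hk)
    exact ⟨_, T.iota_resp y, rfl⟩
  intro x hx
  by_cases hxK : x ∈ K
  · exact hK x hxK
  have hn : n ∈ Subgroup.centralizer ({t} : Set G) :=
    Subgroup.mem_centralizer_singleton_iff.2 (mul_inv_eq_iff_eq_mul.1 T.gf.n_conj)
  have key : (⟨n, hn⟩⁻¹ * ⟨x, hx⟩ : ↥(Subgroup.centralizer ({t} : Set G))) ∈
      K.subgroupOf (Subgroup.centralizer ({t} : Set G)) := by
    rw [Subgroup.mul_mem_iff_of_index_two B.idx, inv_mem_iff]
    exact iff_of_false T.gf.n_out hxK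
  have h2 := mul_mem (show n ∈ H from ⟨_, T.n_resp hT, rfl⟩) (hK _ key)
  have e : n * (Subgroup.centralizer ({t} : Set G)).subtype (⟨n, hn⟩⁻¹ * ⟨x, hx⟩) = x := mul_inv_cancel_left n x
  rwa [e] at h2

end Matching

end Cfsg.Agent.Fus.Fi24Rec
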