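/-
The subgroup matched with the derived group of the model is everything: it contains the centralisers of both
kinds of involutions it has.
-/
import Cfsg.Agent.Lib.Fus.Fi24Rec.Hom
import Cfsg.Agent.Lib.Block.FischerTypes.M24QuadCentralizer
import Cfsg.Agent.Lib.Block.FischerTypes.M24Fact
import Cfsg.Agent.Lib.Block.FischerTypes.M23Invol

set_option autoImplicit false
set_option linter.style.haveILetI false
set_option linter.unusedSectionVars false
set_option maxRecDepth 100000

open Cfsg Cfsg.Agent.Spor.ThreeTrans Cfsg.Agent.Block.FischerTypes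
open Cfsg.Agent.Block.M23Up (base_fi23 tz_mem)
open Cfsg.Agent.Fus.M23U.TypeOf (classD)

namespace Cfsg.Agent.Fus.Fi24Rec

section General

variable {G : Type*} [Group G] [Finite G]

/-- Two involutions are conjugate, or both commute with an involution. -/
theorem isConj_or_third {u v : G} (hu : u * u = 1) (hv : v * v = 1) :
    IsConj u v ∨ ∃ w, w ≠ 1 ∧ w * w = 1 ∧ Commute w u ∧ Commute w v := by
  set r := u * v with hr
  have hui : u⁻¹ = u := inv_eq_of_mul_eq_one_right hu
  have hvi : v⁻¹ = v := inv_eq_of_mul_eq_one_right hv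
  have hur : u * r * u⁻¹ = r⁻¹ := by rw [hr, mul_inv_rev, hui, hvi, ← mul_assoc, hu, one_mul]
  rcases Nat.even_or_odd (orderOf r) with ⟨s, hs⟩ | ⟨s, hs⟩
  · right
    have hpos := orderOf_pos r
    have hw2 : r ^ s * r ^ s = 1 := by rw [← pow_add, ← hs, pow_orderOf_eq_one]
    have hwu : Commute (r ^ s) u := by
      have h1 : u * r ^ s * u⁻¹ = r ^ s := by
        rw [← conj_pow, hur, inv_pow, inv_eq_of_mul_eq_one_right hw2]
      exact (mul_inv_eq_iff_eq_mul.1 h1).symm
    refine ⟨r ^ s, fun e => pow_ne_one_of_lt_orderOf (by omega) (by omega) e, hw2, hwu, ?_⟩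
    have := hwu.mul_right (Commute.pow_self r s)
    rwa [hr, ← mul_assoc, hu, one_mul] at this
  · left
    refine _root_.isConj_iff.2 ⟨r ^ s, ?_⟩
    have h1 : u * (r ^ s)⁻¹ = r ^ s * u := by
      have h2 : u * r ^ s * u⁻¹ = (r ^ s)⁻¹ := by rw [← conj_pow, hur, inv_pow]
      rw [hui] at h2
      rw [← h2, ← mul_assoc, ← mul_assoc, hu, one_mul]
    rw [mul_assoc, h1, ← mul_assoc, ← pow_add]
    have h3 : r ^ (s + s) = r⁻¹ := by
      rw [eq_inv_iff_mul_eq_one, ← pow_succ, ← two_mul, ← hs, pow_orderOf_eq_one]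
    rw [h3, hr, mul_inv_rev, hui, hvi, mul_assoc, hu, mul_one]

variable {D : Set G}

/-- Members with a common pair of neighbours are told apart inside the common neighbourhood. -/
theorem twinFree_two (B : Block.FischerTypes.M24.Base D) {p q : G} (hp : p ∈ D) (hq : q ∈ perp D p) :
    TwinFree₂ D p q := by
  intro c hc e he hall
  have h := B.set.cls
  have htf := B.set.tf
  have S1 := B.sub p hp
  have S2 := (S1.ctx _ (pr_mem hq)).set
  have hc1 := pr_mem_perp h htf hp hq hc
  have he1 := pr_mem_perp h htf hp hq he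
  refine pr_injective h htf hp hc.1 he.1 (pr_injective S1.set.cls S1.set.tf (pr_mem hq) hc1 he1
    (S2.tf _ _ ⟨pr_mem hc1, pr_mem he1, ?_⟩))
  intro x hx
  obtain ⟨y, hy, rfl⟩ := exists_of_mem hx
  obtain ⟨z, hz, rfl⟩ := exists_of_mem hy.1
  have hzc : z ∈ common D p q := ⟨hz, (Block.FischerTypes.M24.toK B hp hq hz).mp hy⟩
  constructor
  · intro k
    exact commute_pr he1 hy (commute_pr he.1 hz ((hall z hzc).1
      (commute_of_pr h htf hp hc.1 hz (commute_of_pr S1.set.cls S1.set.tf (pr_mem hq) hc1 hy k)).symm).symm)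
  · intro k
    exact commute_pr hc1 hy (commute_pr hc.1 hz ((hall z hzc).2
      (commute_of_pr h htf hp he.1 hz (commute_of_pr S1.set.cls S1.set.tf (pr_mem hq) he1 hy k)).symm).symm)

/-- The centraliser of a product of four in the derived group. -/
theorem card_four (B : Block.FischerTypes.M24.Base D) {z : G} {l : List G} (hl : Fact' D 4 z l) :
    Nat.card ↥(commutator G ⊓ Subgroup.centralizer ({z} : Set G)) = 160526499840 := by
  obtain ⟨Q, -, -, -, hQ, N, M, hNn, -, -, hNM, hN, ⟨F, iF, iT, hF, ⟨e⟩⟩, hM⟩ :=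
    (⟨B, fun p hp q hq => twinFree_two B hp hq, l, hl⟩ : Block.FischerTypes.M24.Four D z).centralizer_structure
      rfl rfl
  have hP : Nat.card (PSU 4 F 3) = 3265920 := by
    have h := Cfsg.Agent.S0280.result (F := F) (q := 3) (hF.trans (by norm_num)) 4 (by norm_num)
    norm_num [Finset.prod_range_succ, Nat.even_iff] at h
    omega
  haveI := hNn
  rw [← M.card_mul_index, hM, Subgroup.card_eq_card_quotient_mul_card_subgroup (N.subgroupOf M),
    Nat.card_congr e.toEquiv, hP, Nat.card_congr (Subgroup.subgroupOfEquivOfLe hNM).toEquiv, hN, hQ]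
  norm_num

end General

variable {G : Type*} [Group G] [Finite G] {t : G} {K : Subgroup G} {M : Type*} [Group M] [Finite M]

namespace GF

variable {B : Base t K} {ι : Spor.Fi23 →* G} {n : G} {ν : MulAut ↥PG0} (F : GF B ι n ν)
include F

theorem side0_of_perp {b : Spor.Fi23} (hb : b ∈ perp classD tz) : ι b ∈ B.side0 := by
  rw [← B.perp_comp]
  refine ⟨F.cls.le ⟨b, hb.1, rfl⟩, fun e => hb.2.1 (F.inj (e.trans F.map_tz.symm)), ?_⟩
  exact F.map_tz ▸ hb.2.2.map ι

/-- A product of three through the centre: not conjugate to the centre, centraliser as at the special one. -/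
theorem triple {b b' : Spor.Fi23} (hb : b ∈ perp classD tz) (hb' : b' ∈ perp classD tz) (hne : b ≠ b')
    (hc : Commute b b') : ¬ IsConj t (t * ι b * ι b') ∧
      Nat.card ↥(Subgroup.centralizer ({t * ι b * ι b'} : Set G)) = 160526499840 := by
  obtain ⟨a, ha, ea⟩ := F.side0_of_perp hb
  obtain ⟨a', ha', ea'⟩ := F.side0_of_perp hb'
  have hne' : a ≠ a' := fun e => hne (F.inj (by rw [← ea, ← ea', e]))
  have hc' : Commute a a' := B.inj (by rw [map_mul, map_mul, ea, ea']; exact (hc.map ι).eq)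
  rw [← ea, ← ea']
  exact ⟨B.triple a ha a' ha' hne' hc', B.card_triple a ha a' ha' hne' hc'⟩

end GF

namespace Matching

variable {B : Base t K} {ι : Spor.Fi23 →* G} {n : G} {D : Set M} {d c : M} {L : Spor.Fi23 →* M} {g : M}
  {ν : MulAut ↥PG0} {q0 : Spor.Fi23} (T : Matching B ι n D d c L g ν q0) (hT : Turn ι n d L g)
include T hT

theorem mem_resp_iota (y : Spor.Fi23) : ι y ∈ (resp B ι n d c L q0).map (MonoidHom.fst G M) :=
  ⟨_, T.iota_resp y, rfl⟩

/-- An involution of the subgroup is conjugate there to one below the root. -/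
theorem invol_below {x : G} (hx : x ∈ (resp B ι n d c L q0).map (MonoidHom.fst G M)) (hxx : x * x = 1) :
    ∃ h ∈ (resp B ι n d c L q0).map (MonoidHom.fst G M), ∃ y, h * x * h⁻¹ = ι y := by
  obtain ⟨⟨x', m⟩, hp, e : x' = x⟩ := hx
  subst e
  have hmm : m * m = 1 := by
    have h2 := T.one_resp (m := m * m) (by
      have := mul_mem hp hp
      rwa [Prod.mk_mul_mk, hxx] at this)
    exact h2
  obtain ⟨a, ha, hma⟩ := Block.FischerTypes.M24.invol_fixed T.mf.base ⟨d, T.mf.dD⟩ hmm
  obtain ⟨v, hv⟩ := T.mt_total ha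
  obtain ⟨⟨h, k⟩, hk, -, ek : k * d * k⁻¹ = a⟩ := T.reach hT hv
  have h2 := mul_mem (mul_mem (inv_mem hk) hp) hk
  rw [Prod.inv_mk, Prod.mk_mul_mk, Prod.mk_mul_mk] at h2
  obtain ⟨y, hy, -⟩ := T.root_resp h2 (by
    calc k⁻¹ * m * k * d * (k⁻¹ * m * k)⁻¹ = k⁻¹ * (m * (k * d * k⁻¹) * m⁻¹) * k := by group
      _ = k⁻¹ * (k * d * k⁻¹) * k := by rw [ek, conj_self_eq hma]
      _ = d := by group)
  exact ⟨h⁻¹, inv_mem ⟨_, hk, rfl⟩, y, by rw [inv_inv]; exact hy⟩

/-- There are two kinds. -/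
theorem invol_kinds {x : G} (hx : x ∈ (resp B ι n d c L q0).map (MonoidHom.fst G M)) (hxx : x * x = 1)
    (hx1 : x ≠ 1) : ∃ h ∈ (resp B ι n d c L q0).map (MonoidHom.fst G M), h * x * h⁻¹ = t ∨
      ∃ b ∈ perp classD tz, ∃ b' ∈ perp classD tz, b ≠ b' ∧ Commute b b' ∧ h * x * h⁻¹ = t * ι b * ι b' := by
  set H := (resp B ι n d c L q0).map (MonoidHom.fst G M)
  have h0 := base_fi23.set.cls
  have hn : n ∈ H := ⟨_, T.n_resp hT, rfl⟩
  obtain ⟨h, hh, y, hy⟩ := T.invol_below hT hx hxx
  have hy2 : y * y = 1 := T.gf.inj (by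
    rw [map_mul, map_one, ← hy]
    calc h * x * h⁻¹ * (h * x * h⁻¹) = h * (x * x) * h⁻¹ := by group
      _ = 1 := by rw [hxx]; group)
  have hy1 : y ≠ 1 := fun e => hx1 (conj_eq_one_iff.1 (by rw [hy, e, map_one]))
  obtain ⟨m, hm1, hm3, l, hl⟩ := M23.invol_fact base_fi23 ⟨_, tz_mem⟩ (orderOf_eq_prime (p := 2)
    (by rw [pow_two, hy2]) hy1)
  obtain ⟨hnd, hlen, hlD, hlc, hlp⟩ := hl
  obtain ⟨a, l', rfl⟩ : ∃ a l', l = a :: l' := by
    cases l with
    | nil => simp only [List.length_nil] at hlen; omega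
    | cons a l' => exact ⟨a, l', rfl⟩
  obtain ⟨r, hr'⟩ := transitive h0 (hlD a (List.mem_cons_self ..)) tz_mem
  have hr : r * a * r⁻¹ = tz := hr'
  have hh' : ι r * h ∈ H := mul_mem (T.mem_resp_iota hT r) hh
  have hconj : ι r * h * x * (ι r * h)⁻¹ = t * ι (r * l'.prod * r⁻¹) := by
    calc ι r * h * x * (ι r * h)⁻¹ = ι r * (h * x * h⁻¹) * (ι r)⁻¹ := by group
      _ = ι (r * (a * l'.prod) * r⁻¹) := by rw [hy, ← hlp, List.prod_cons, ← map_inv, ← map_mul, ← map_mul]
      _ = _ := by rw [← T.gf.map_tz, ← map_mul]; refine congrArg ι ?_; rw [← hr]; group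
  have hperp : ∀ u ∈ l', r * u * r⁻¹ ∈ perp classD tz := fun u hu => by
    refine ⟨conj_mem h0 r (hlD u (List.mem_cons_of_mem _ hu)), fun e => ?_, ?_⟩
    · exact (List.nodup_cons.1 hnd).1 (mul_left_cancel (mul_right_cancel (e.trans hr.symm)) ▸ hu)
    · exact hr ▸ (commute_conj_iff r a u).2 (hlc a (List.mem_cons_self ..) u (List.mem_cons_of_mem _ hu))
  rcases l' with - | ⟨u, - | ⟨w, - | ⟨v, l''⟩⟩⟩
  · exact ⟨_, hh', Or.inl (by rw [hconj, List.prod_nil, mul_one, mul_inv_cancel, map_one, mul_one])⟩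
  · have hu := hperp u (List.mem_cons_self ..)
    obtain ⟨b, hb, eb⟩ := side_surj ν T.gf.swap (x := ⟨_, perp_mem hu⟩) hu
    obtain ⟨r', hr'⟩ := transitive h0 hb.1 tz_mem
    refine ⟨ι r' * n⁻¹ * (ι r * h), mul_mem (mul_mem (T.mem_resp_iota hT r') (inv_mem hn)) hh', Or.inl ?_⟩
    have e1 : n * ι (b : Spor.Fi23) * n⁻¹ = t * ι (r * u * r⁻¹) := by
      rw [T.gf.n_aut, ← T.gf.map_tz, ← map_mul]
      congr 1
      have := congrArg Subtype.val eb
      show (ν b : Spor.Fi23) = tz * (r * u * r⁻¹)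
      rw [← show tz * (ν b : Spor.Fi23) = r * u * r⁻¹ from this, ← mul_assoc,
        mul_self h0.1 tz_mem, one_mul]
    calc ι r' * n⁻¹ * (ι r * h) * x * (ι r' * n⁻¹ * (ι r * h))⁻¹
        = ι r' * (n⁻¹ * (ι r * h * x * (ι r * h)⁻¹) * n) * (ι r')⁻¹ := by group
      _ = ι r' * ι (b : Spor.Fi23) * (ι r')⁻¹ := by
        rw [hconj, List.prod_cons, List.prod_nil, mul_one, ← e1]; group
      _ = t := by rw [← map_inv, ← map_mul, ← map_mul, hr', T.gf.map_tz]
  · refine ⟨_, hh', Or.inr ⟨_, hperp u (List.mem_cons_self ..), _,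
      hperp w (List.mem_cons_of_mem _ (List.mem_cons_self ..)), ?_, ?_, ?_⟩⟩
    · intro e
      simp only [List.nodup_cons, List.mem_cons, List.not_mem_nil, or_false, not_or] at hnd
      exact hnd.2.1 (mul_left_cancel (mul_right_cancel e))
    · exact (commute_conj_iff r u w).2 (hlc u (by simp) w (by simp))
    · rw [hconj, List.prod_cons, List.prod_cons, List.prod_nil, mul_one, mul_assoc t, ← map_mul]
      congr 2
      group
  · simp only [List.length_cons] at hlen
    omega

/-- The centraliser of a product of three through the centre lies in the subgroup. -/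
theorem triple_le {b b' : Spor.Fi23} (hb : b ∈ perp classD tz) (hb' : b' ∈ perp classD tz) (hne : b ≠ b')
    (hc : Commute b b') :
    Subgroup.centralizer ({t * ι b * ι b'} : Set G) ≤ (resp B ι n d c L q0).map (MonoidHom.fst G M) := by
  set H := (resp B ι n d c L q0).map (MonoidHom.fst G M)
  obtain ⟨e, he⟩ := T.exists_iso hT
  have ey : t * ι b * ι b' = ι (tz * b * b') := by rw [map_mul, map_mul, T.gf.map_tz]
  rw [ey]
  have hm : ∀ u, u ∈ perp classD tz → Commute d (mu' d L u) := fun u hu => (T.mf.mem_perp hu.1).2.2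
  have hd : ∀ u ∈ classD, mu' d L u ≠ d := fun u hu => (T.mf.mem_perp hu).2.1
  have hl : Fact' D 4 (L (tz * b * b')) [mu' d L tz, mu' d L b, mu' d L b', d] := by
    refine ⟨?_, rfl, ?_, ?_, ?_⟩
    · simp only [List.nodup_cons, List.mem_cons, List.not_mem_nil, or_false, not_or, List.nodup_nil, and_true,
        not_false_eq_true]
      exact ⟨⟨fun k => hb.2.1 (T.mf.mu_inj k).symm, fun k => hb'.2.1 (T.mf.mu_inj k).symm, hd _ tz_mem⟩,
        ⟨fun k => hne (T.mf.mu_inj k), hd _ hb.1⟩, hd _ hb'.1⟩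
    · simp only [List.mem_cons, List.not_mem_nil, or_false]
      rintro a (rfl | rfl | rfl | rfl)
      exacts [(T.mf.mem_perp tz_mem).1, (T.mf.mem_perp hb.1).1, (T.mf.mem_perp hb'.1).1, T.mf.dD]
    · have c1 := T.mf.mu_commute.2 hb.2.2
      have c2 := T.mf.mu_commute.2 hb'.2.2
      have c3 := T.mf.mu_commute.2 hc
      have c4 : Commute d (mu' d L tz) := (T.mf.mem_perp tz_mem).2.2
      simp only [List.mem_cons, List.not_mem_nil, or_false]
      rintro u (rfl | rfl | rfl | rfl) w (rfl | rfl | rfl | rfl)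
      exacts [Commute.refl _, c1, c2, c4.symm, c1.symm, Commute.refl _, c3, (hm b hb).symm, c2.symm, c3.symm,
        Commute.refl _, (hm b' hb').symm, c4, hm b hb, hm b' hb', Commute.refl _]
    · rw [List.prod_cons, List.prod_cons, List.prod_cons, List.prod_cons, List.prod_nil, mul_one, ← mul_assoc,
        T.mf.mu_mul]
      show L (tz * b) * (L b' * d * d) = _
      rw [mul_assoc (L b'), T.mf.dd, mul_one, ← map_mul]
  set y := tz * b * b'
  have hyH : ι y ∈ H := T.mem_resp_iota hT y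
  have key : ∀ x : ↥H, Commute (x : G) (ι y) ↔ Commute (e x : M) (L y) := by
    intro x
    obtain ⟨p, hp, ep⟩ := x.2
    have hpH : p.1 ∈ H := ⟨p, hp, rfl⟩
    have ex : x = ⟨p.1, hpH⟩ := Subtype.ext ep.symm
    have ey' : (e ⟨ι y, hyH⟩ : M) = L y := he _ (T.iota_resp y) hyH
    constructor
    · intro k
      have := congrArg (fun u => (e u : M)) (Subtype.ext k.eq : x * ⟨ι y, hyH⟩ = ⟨ι y, hyH⟩ * x)
      simp only [map_mul, Subgroup.coe_mul, ey'] at this
      exact this
    · intro k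
      have h2 : x * ⟨ι y, hyH⟩ = ⟨ι y, hyH⟩ * x := e.injective (Subtype.ext (by
        rw [map_mul e, map_mul e, Subgroup.coe_mul, Subgroup.coe_mul, ey']; exact k.eq))
      exact congrArg Subtype.val h2
  have hcard : Nat.card ↥(H ⊓ Subgroup.centralizer ({ι y} : Set G)) = 160526499840 := by
    rw [← card_four T.mf.base hl]
    let e1 : ↥(H ⊓ Subgroup.centralizer ({ι y} : Set G)) ≃ {x : ↥H // Commute (x : G) (ι y)} :=
      { toFun := fun x => ⟨⟨x, x.2.1⟩, Subgroup.mem_centralizer_singleton_iff.1 x.2.2⟩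
        invFun := fun x => ⟨x.1, x.1.2, Subgroup.mem_centralizer_singleton_iff.2 x.2⟩
        left_inv := fun _ => rfl
        right_inv := fun _ => rfl }
    let e2 : ↥(commutator M ⊓ Subgroup.centralizer ({L y} : Set M)) ≃
        {x : ↥(commutator M) // Commute (x : M) (L y)} :=
      { toFun := fun x => ⟨⟨x, x.2.1⟩, Subgroup.mem_centralizer_singleton_iff.1 x.2.2⟩
        invFun := fun x => ⟨x.1, x.1.2, Subgroup.mem_centralizer_singleton_iff.2 x.2⟩
        left_inv := fun _ => rfl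
        right_inv := fun _ => rfl }
    exact Nat.card_congr ((e1.trans (e.toEquiv.subtypeEquiv key)).trans e2.symm)
  have h := Subgroup.eq_of_le_of_card_ge (H := H ⊓ Subgroup.centralizer ({ι y} : Set G))
    (K := Subgroup.centralizer ({ι y} : Set G)) inf_le_right
    (by rw [hcard, ← ey, (T.gf.triple hb hb' hne hc).2])
  exact fun x hx => (h.ge hx).1

/-- Every involution of the subgroup has its centraliser inside. -/
theorem invol_le {x : G} (hx : x ∈ (resp B ι n d c L q0).map (MonoidHom.fst G M)) (hxx : x * x = 1)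
    (hx1 : x ≠ 1) : Subgroup.centralizer ({x} : Set G) ≤ (resp B ι n d c L q0).map (MonoidHom.fst G M) := by
  obtain ⟨h, hh, k⟩ := T.invol_kinds hT hx hxx hx1
  intro w hw
  have hw' : h * w * h⁻¹ ∈ Subgroup.centralizer ({h * x * h⁻¹} : Set G) :=
    Subgroup.mem_centralizer_singleton_iff.2
      ((commute_conj_iff h w x).2 (Subgroup.mem_centralizer_singleton_iff.1 hw)).eq
  have hin : h * w * h⁻¹ ∈ (resp B ι n d c L q0).map (MonoidHom.fst G M) := by
    rcases k with k | ⟨b, hb, b', hb', hne, hc, k⟩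
    · exact T.centralizer_le hT (k ▸ hw')
    · exact T.triple_le hT hb hb' hne hc (k ▸ hw')
  have := mul_mem (mul_mem (inv_mem hh) hin) hh
  rwa [show h⁻¹ * (h * w * h⁻¹) * h = w by group] at this

/-- The subgroup is everything. -/
theorem fst_top : (resp B ι n d c L q0).map (MonoidHom.fst G M) = ⊤ := by
  set H := (resp B ι n d c L q0).map (MonoidHom.fst G M)
  have h0 := base_fi23.set.cls
  have htf := base_fi23.set.tf
  obtain ⟨b, hb⟩ := perp_nonempty base_fi23.set.hyp tz_mem
  obtain ⟨w, hw⟩ := (base_fi23.ctx tz tz_mem).set.perp_ne _ (pr_mem hb)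
  obtain ⟨b', hb', rfl⟩ := exists_of_mem hw.1
  have hne : b ≠ b' := fun e => hw.2.1 (by subst e; rfl)
  have hc : Commute b b' := commute_of_pr h0 htf tz_mem hb hb' hw.2.2
  have hz : t * ι b * ι b' ∈ H := by
    rw [← T.gf.map_tz, ← map_mul, ← map_mul]; exact T.mem_resp_iota hT _
  have hzz : t * ι b * ι b' * (t * ι b * ι b') = 1 := by
    rw [← T.gf.map_tz, ← map_mul, ← map_mul, ← map_mul, ← map_one ι]
    congr 1
    calc tz * b * b' * (tz * b * b') = tz * (b * b' * tz) * (b * b') := by simp only [mul_assoc]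
      _ = tz * (tz * (b * b')) * (b * b') := by rw [(hb.2.2.mul_right hb'.2.2).symm.eq]
      _ = b * b' * (b * b') := by rw [← mul_assoc tz tz, mul_self h0.1 tz_mem, one_mul]
      _ = b * (b' * b) * b' := by simp only [mul_assoc]
      _ = 1 := by rw [← hc.eq, ← mul_assoc, mul_self h0.1 hb.1, one_mul, mul_self h0.1 hb'.1]
  have hz1 : t * ι b * ι b' ≠ 1 := fun e => by
    have h' := (T.gf.triple hb hb' hne hc).2
    rw [e] at h'
    have htop : Subgroup.centralizer ({(1 : G)} : Set G) = ⊤ :=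
      eq_top_iff.2 fun u _ => Subgroup.mem_centralizer_singleton_iff.2 (by simp)
    have hle := T.triple_le hT hb hb' hne hc
    rw [e, htop, top_le_iff] at hle
    obtain ⟨φ, -⟩ := T.exists_iso hT
    have h2 := Nat.card_congr φ.toEquiv
    rw [show Nat.card ↥H = 160526499840 by rw [← h', htop, ← hle],
      Block.FischerTypes.M24.commutator_card T.mf.base ⟨d, T.mf.dD⟩] at h2
    omega
  refine eq_top_iff.2 fun s _ => ?_
  set v := s * t * s⁻¹ with hv
  have hvv : v * v = 1 := by rw [hv, conj_mul, B.sq, mul_one, mul_inv_cancel]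
  have hv1 : v ≠ 1 := fun e => B.ne (conj_eq_one_iff.1 e)
  have hsv : IsConj t v := _root_.isConj_iff.2 ⟨s, rfl⟩
  by_cases hvH : v ∈ H
  · obtain ⟨h, hh, k | ⟨u, hu, u', hu', hne', hc', k⟩⟩ := T.invol_kinds hT hvH hvv hv1
    · have hs : h * s ∈ Subgroup.centralizer ({t} : Set G) :=
        Subgroup.mem_centralizer_singleton_iff.2 (mul_inv_eq_iff_eq_mul.1
          (show h * s * t * (h * s)⁻¹ = t by refine Eq.trans ?_ k; rw [hv]; group))
      have := mul_mem (inv_mem hh) (T.centralizer_le hT hs)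
      rwa [inv_mul_cancel_left] at this
    · exact absurd (hsv.trans (_root_.isConj_iff.2 ⟨h, k⟩)) (T.gf.triple hu hu' hne' hc').1
  · exfalso
    rcases isConj_or_third hzz hvv with k | ⟨w, hw1, hww, hwu, hwv⟩
    · exact (T.gf.triple hb hb' hne hc).1 (hsv.trans k.symm)
    · have hwH : w ∈ H := T.triple_le hT hb hb' hne hc (Subgroup.mem_centralizer_singleton_iff.2 hwu.eq)
      exact hvH (T.invol_le hT hwH hww hw1 (Subgroup.mem_centralizer_singleton_iff.2 hwv.symm.eq))

/-- The group is the derived group of the model. -/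
theorem exists_equiv : Nonempty (G ≃* ↥(commutator M)) := by
  obtain ⟨e, -⟩ := T.exists_iso hT
  exact ⟨(Subgroup.topEquiv.symm.trans (MulEquiv.subgroupCongr (T.fst_top hT).symm)).trans e⟩

end Matching

end Cfsg.Agent.Fus.Fi24Rec
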