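/-
The centraliser of a noncentral involution as the double cover of Fi22 of index two, and the identification.
-/
import Cfsg.Agent.Lib.Fus.Fi24Rec.Whole
import Cfsg.Agent.Lib.Fus.Fi22Out.Main
import Cfsg.Agent.Lib.Fus.Fi24Model.Types
import Cfsg.Agent.Lib.Spor.Cos.Fi24Up.Main
import Cfsg.Agent.S5450

set_option autoImplicit false
set_option linter.style.haveILetI false
set_option linter.unusedSectionVars false
set_option maxRecDepth 100000

open Cfsg Cfsg.Agent.Spor.LargeFischer
open scoped commutatorElement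

namespace Cfsg.Agent.Fus.Fi24Rec

variable {G : Type*} [Group G] [Finite G] {z : G} {Q : Subgroup (Subgroup.centralizer ({z} : Set G))}
  [hQn : Q.Normal]

/-- The generalised Fitting subgroup of the centraliser is the double cover. -/
theorem exists_kdata (hF : IsOfLargeFischerTypeAt z Q) {t : G}
    (htQ : ∃ htc : t ∈ Subgroup.centralizer ({z} : Set G), (⟨t, htc⟩ : Subgroup.centralizer ({z} : Set G)) ∈ Q)
    (ht2 : orderOf t = 2) (ht : ¬ IsConj z t) : ∃ K : Subgroup G, Kdata t K := by
  classical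
  haveI : Finite Spor.Fi22 := Cfsg.Agent.Spor.Cos.Fi22.finite
  set C := Subgroup.centralizer ({t} : Set G)
  have hcen : ∀ v ∈ Subgroup.zpowers t, ∀ g ∈ C, g * v = v * g := fun v hv g hg => by
    obtain ⟨i, rfl⟩ := hv
    exact ((show Commute g t from Subgroup.mem_centralizer_singleton_iff.1 hg).zpow_right i).eq
  haveI hnC : ((Subgroup.zpowers t).subgroupOf C).Normal := ⟨fun a ha g => by
    rw [Subgroup.mem_subgroupOf] at ha ⊢
    push_cast
    rwa [hcen _ ha _ g.2, mul_inv_cancel_right]⟩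
  obtain ⟨hqs, hidx, ⟨htC, htK⟩, ⟨σ⟩⟩ :=
    Cfsg.Agent.S5450.result z Q hF t htQ ht2 ht (Cfsg.generalizedFittingSubgroup ↥C) rfl
  set K := Cfsg.generalizedFittingSubgroup ↥C
  let e : ↥K ≃* ↥(K.map C.subtype) := K.equivMapOfInjective _ (Subgroup.subtype_injective _)
  have hle : K.map C.subtype ≤ C := Subgroup.map_subtype_le _
  have hn : ((Subgroup.zpowers t).subgroupOf (K.map C.subtype)).Normal := ⟨fun a ha g => by
    rw [Subgroup.mem_subgroupOf] at ha ⊢
    push_cast
    rwa [hcen _ ha _ (hle g.2), mul_inv_cancel_right]⟩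
  refine ⟨K.map C.subtype, hle, ?_, (Grp.isQuasisimple_congr e).1 hqs, hn, ?_⟩
  · rw [Subgroup.subgroupOf, Subgroup.comap_map_eq_self_of_injective (Subgroup.subtype_injective _), hidx]
  let π : ↥C →* MulAut Spor.Fi22 := σ.toMonoidHom.comp (QuotientGroup.mk' _)
  have hker : ∀ x, π x = 1 ↔ (x : G) ∈ Subgroup.zpowers t := fun x => by
    show σ (QuotientGroup.mk x) = 1 ↔ _
    rw [σ.map_eq_one_iff, QuotientGroup.eq_one_iff, Subgroup.mem_subgroupOf]
  have hπ : Function.Surjective π := σ.surjective.comp (QuotientGroup.mk'_surjective _)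
  have hKker : π.ker ≤ K := fun x hx => by
    obtain ⟨i, hi⟩ := (hker x).1 (MonoidHom.mem_ker.1 hx)
    rw [← show (⟨t, htC⟩ : ↥C) ^ i = x from Subtype.ext hi]
    exact zpow_mem htK i
  have hKidx : (K.map π).index = 2 := by
    rw [Subgroup.index_map, sup_eq_left.2 hKker, hidx, MonoidHom.range_eq_top.2 hπ, Subgroup.index_top, mul_one]
  have hI : (Inn Spor.Fi22).index = 2 := by
    rw [Subgroup.index_eq_card]; exact Cfsg.Agent.S2079.result
  have hperf : ⁅K, K⁆ = K := by
    have h2 := congrArg (Subgroup.map K.subtype) hqs.1.commutator_eq_top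
    rwa [commutator_def, Subgroup.map_commutator, ← MonoidHom.range_eq_map, Subgroup.range_subtype] at h2
  have hsub : K.map π ≤ Inn Spor.Fi22 := by
    rw [← hperf, Subgroup.map_commutator, Subgroup.commutator_le]
    intro a _ b _
    show a * b * a⁻¹ * b⁻¹ ∈ Inn Spor.Fi22
    simp only [Subgroup.mul_mem_iff_of_index_two hI, inv_mem_iff]
    tauto
  have heq : K.map π = Inn Spor.Fi22 := by
    refine Subgroup.eq_of_le_of_card_ge hsub ?_
    have h1 := (K.map π).card_mul_index
    have h2 := (Inn Spor.Fi22).card_mul_index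
    rw [hKidx] at h1
    rw [hI] at h2
    omega
  have hinj : Function.Injective (MulAut.conj : Spor.Fi22 →* MulAut Spor.Fi22) :=
    (injective_iff_map_eq_one _).2 fun x hx => Fi22Out.center_trivial x fun y => by
      have := MulEquiv.congr_fun hx y
      rw [MulAut.conj_apply, MulAut.one_apply] at this
      exact (mul_inv_eq_iff_eq_mul.1 this)
  let f : ↥(K.map C.subtype) →* MulAut Spor.Fi22 := (π.comp K.subtype).comp e.symm.toMonoidHom
  have hrange : f.range = Inn Spor.Fi22 := by
    rw [MonoidHom.range_eq_map, ← Subgroup.map_map, Subgroup.map_top_of_surjective _ e.symm.surjective,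
      ← Subgroup.map_map, ← MonoidHom.range_eq_map, Subgroup.range_subtype, heq]
  have hfker : f.ker = (Subgroup.zpowers t).subgroupOf (K.map C.subtype) := by
    ext x
    rw [MonoidHom.mem_ker, Subgroup.mem_subgroupOf]
    show π ((e.symm x : ↥K) : ↥C) = 1 ↔ _
    rw [hker]
    exact iff_of_eq (congrArg (· ∈ Subgroup.zpowers t) (congrArg Subtype.val (e.apply_symm_apply x)))
  exact ⟨(QuotientGroup.quotientMulEquivOfEq hfker.symm).trans ((QuotientGroup.quotientKerEquivRange f).trans
    ((MulEquiv.subgroupCongr hrange).trans (MonoidHom.ofInjective hinj).symm))⟩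

/-- A group of large Fischer type is the derived group of Fi24. -/
theorem iso_fi24' (hF : IsOfLargeFischerTypeAt z Q) : Cfsg.Spor.IsoFi24' G := by
  classical
  obtain ⟨m⟩ := exists_model hF
  obtain ⟨C⟩ := U62Four.exists_ctx m hF
  have hnc := C.pic.nc_pair (U62Four.pts_facts C).1.1
  rw [← C.he1] at hnc
  have h2 : orderOf (gv C.e1) = 2 :=
    orderOf_eq_prime (by rw [pow_two]; exact (U62Four.e_sq C).1) hnc.1
  obtain ⟨K, Kd⟩ := exists_kdata hF (t := gv C.e1) ⟨(C.e1 : ↥(Subgroup.centralizer ({z} : Set G))).2, C.e1.2⟩ h2 hnc.2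
  obtain ⟨B⟩ := exists_base C hF Kd
  have hM := Block.FischerTypes.M24.base Fus.Fi24Model.isGroup Fus.Fi24Model.primitive Fus.Fi24Model.isOfTypeM24
  obtain ⟨d, c, L, F⟩ := exists_MF hM ⟨Fus.Fi24Model.TG Fus.Fi24Model.o0, _, rfl⟩
  obtain ⟨ι, n, g, ν, q0, T⟩ := exists_matching B F
  obtain ⟨g', T', hT⟩ := T.exists_turn
  obtain ⟨φ⟩ := T'.exists_equiv hT
  have e : (commutator Spor.Fi24).map Spor.Cos.Fi24Up.equivGG.toMonoidHom = commutator ↥Fus.Fi24Model.GG := by
    rw [commutator_def, Subgroup.map_commutator, commutator_def,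
      Subgroup.map_top_of_surjective Spor.Cos.Fi24Up.equivGG.toMonoidHom Spor.Cos.Fi24Up.equivGG.surjective]
  exact ⟨φ.trans (((commutator Spor.Fi24).equivMapOfInjective _ Spor.Cos.Fi24Up.equivGG.injective).trans
    (MulEquiv.subgroupCongr e)).symm⟩

end Cfsg.Agent.Fus.Fi24Rec
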